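import Cfsg.Agent.S4040
import Cfsg.Agent.S0205
import Cfsg.Agent.H777.PGrp
import Cfsg.Agent.H209.EPX.Defs_m3
import Cfsg.Agent.S2247
import Cfsg.Agent.H963.ReeFive
import Cfsg.Agent.H137.PQ.RowReeA
import Cfsg.Agent.H737.EPO.RelOne_m3
import Cfsg.Agent.H470.EPO.OwnR1_m3
import Cfsg.Agent.S2251
import Cfsg.Agent.H98.SzPartition
import Cfsg.Agent.OddCyclic.ClaimC.SzIso
import Cfsg.Agent.H23.FreeAct
import Cfsg.Agent.H333.S3530.Pt
import Cfsg.Agent.KFacts.TwF4.Perf
import Cfsg.Agent.KFacts.TwF4.TorFix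
import Cfsg.Agent.H42.Deg.F4BigB
import Cfsg.Agent.S5748
import Cfsg.Agent.H331.SCExc
import Cfsg.Agent.H240.BalTwF.Plus
import Cfsg.Agent.H357.EP.Signs_m3
import Cfsg.Agent.FastGrp
import Cfsg.Agent.Prune
set_option linter.all false

section
prune_inst 0x7ffcfcf92fb8addedfff7e7ffed1dffc39d4dfffbfdffb4bffe4e1ffafdf230239e5fb8d1de058ff0ed7e29630b87853fb7eeeffef6bdc7ffffd5ff41ffbee0fe5f6b50851d488340fbc0fff03f0778e7f3fffffffffffffffffffffffffffbeffffffffffff

-- part: H742/EX/NoS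
section
prune_inst 0x30302504250012000000001240003c62a2000402004b000191e005020c87dc2100022e20fa300e0201c208b440384048101000094010000020000600411d01a080ab7082b33cad0416000f80b887180c00000000000000000000000000041000000000000
set_option linter.all false
open scoped Cfsg.Agent.FastGrp

/-!
# S5745 (helper742): no two-point stabiliser is an `s`-group

`EP H`, `M = H ∩ H^x` (`x ∉ H`). `M` is a maximal subgroup of `H`.

* `EP.isCoatom_M` : `M` is a coatom of the subgroup lattice of `H`;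
* `EP.not_odd_nilp` : `H` not solvable: `M` is not nilpotent of odd order (`S4040`);
* `EP.hM_odd` : `H` not solvable, `s` an odd prime: `|M|` is divisible by a prime `r ≠ s` (`e_pi` with `π = π(H) - {s}`);
* `EPS.not_solvable`, `EPT2.not_solvable`;
* `EP.noTwo_of_le` : `H` has a proper subgroup `K` of odd index which is not a `2`-group: `M` is not a `2`-group;
* `EPS.noTwo` : in the simple group `T` no involution with a centraliser of odd index has a `2`-group as centraliser: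
  `M` is not a `2`-group;
* `EP.hM_two` : `M` is never a `2`-group: `|M|` is divisible by an odd prime (`e_pi` with `π = π(H) - {2}`).
-/

set_option autoImplicit false
set_option linter.unusedSectionVars false

namespace Cfsg.Agent.H742.EX

open MulAction Subgroup Cfsg.Agent.H284 Cfsg.Agent.H209.EPX
open scoped Pointwise

variable {G : Type*} [Group G] [Finite G] {H : Subgroup G}

/-- `M` is maximal in `H` -/
theorem isCoatom_M (h : EP H) {x : G} (hx : x ∉ H) : IsCoatom ((H ⊓ cj x H).subgroupOf H) := by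
  constructor
  · intro e
    apply h.not_le_cj hx
    intro y hy
    have h1 : (⟨y, hy⟩ : H) ∈ (H ⊓ cj x H).subgroupOf H := by rw [e]; exact mem_top _
    exact (mem_subgroupOf.1 h1).2
  · intro L hL
    have h1 : H ⊓ cj x H ≤ L.map H.subtype := by
      intro y hy
      exact ⟨⟨y, hy.1⟩, hL.le (mem_subgroupOf.2 hy), rfl⟩
    have h2 : L.map H.subtype ≤ H := by
      rintro _ ⟨y, -, rfl⟩
      exact y.2
    rcases h.two x hx _ h1 h2 with h3 | h3
    · exfalso
      apply hL.ne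
      apply le_antisymm hL.le
      intro y hy
      rw [mem_subgroupOf, ← h3]
      exact ⟨y, hy, rfl⟩
    · rw [eq_top_iff]
      intro y _
      have h4 : (y : G) ∈ L.map H.subtype := by rw [h3]; exact y.2
      obtain ⟨z, hz, hzy⟩ := h4
      rwa [← Subtype.ext hzy]

theorem card_M_subgroupOf (H M : Subgroup G) (hM : M ≤ H) : Nat.card (M.subgroupOf H) = Nat.card M :=
  Nat.card_congr (Subgroup.subgroupOfEquivOfLe hM).toEquiv

/-- `M` is not nilpotent of odd order -/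
theorem not_odd_nilp (h : EP H) (hs : ¬ Group.IsSolvable H) {x : G} (hx : x ∉ H)
    (hn : Group.IsNilpotent (H ⊓ cj x H : Subgroup G)) (ho : Odd (Nat.card (H ⊓ cj x H : Subgroup G))) : False := by
  apply hs
  refine Cfsg.Agent.S4040.result _ (isCoatom_M h hx) ?_ ?_
  · exact Group.nilpotent_of_mulEquiv (Subgroup.subgroupOfEquivOfLe (inf_le_left : H ⊓ cj x H ≤ H)).symm
  · rwa [card_M_subgroupOf H _ inf_le_left]

/-- `M` is not a group of prime power order, the prime odd -/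
theorem not_odd_pgroup (h : EP H) (hs : ¬ Group.IsSolvable H) {s : ℕ} (hsp : s.Prime) (hs2 : s ≠ 2) {x : G} (hx : x ∉ H)
    (hn : IsPGroup s (H ⊓ cj x H : Subgroup G)) : False := by
  have : Fact s.Prime := ⟨hsp⟩
  refine not_odd_nilp h hs hx hn.isNilpotent ?_
  obtain ⟨k, hk⟩ := IsPGroup.iff_card.1 hn
  rw [hk]
  exact (hsp.odd_of_ne_two hs2).pow

/-- not an `s`-group: another prime divides the order -/
theorem exists_prime_of_not_pgroup {s : ℕ} (hsp : s.Prime) {M : Subgroup G} (hn : ¬ IsPGroup s M) :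
    ∃ r : ℕ, r.Prime ∧ r ≠ s ∧ r ∣ Nat.card M := by
  have : Fact s.Prime := ⟨hsp⟩
  by_contra hcon
  push Not at hcon
  apply hn
  rw [IsPGroup.iff_card]
  refine ⟨_, Nat.eq_prime_pow_of_unique_prime_dvd Nat.card_pos.ne' fun {d} hd hdv => ?_⟩
  by_contra hne
  exact hcon d hd hne hdv

/-- **hM**: `H` not solvable, `s` an odd prime: `|M|` is divisible by a prime `r ≠ s`. -/
theorem hM_odd (h : EP H) (hs : ¬ Group.IsSolvable H) {s : ℕ} (hsp : s.Prime) (hs2 : s ≠ 2) :
    ∀ g ∉ H, ∃ r ∈ (Nat.card H).primeFactors.erase s, r ∣ Nat.card (H ⊓ cj g H : Subgroup G) := by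
  intro g hg
  obtain ⟨r, hr, hrs, hrd⟩ := exists_prime_of_not_pgroup hsp fun hn => not_odd_pgroup h hs hsp hs2 hg hn
  refine ⟨r, Finset.mem_erase.2 ⟨hrs, Nat.mem_primeFactors.2 ⟨hr, hrd.trans ?_, Nat.card_pos.ne'⟩⟩, hrd⟩
  exact Subgroup.card_dvd_of_le inf_le_left

/-- `|N : N ∩ M|` divides `|H : M|` for a normal subgroup `N` -/
theorem relIndex_dvd_index {K : Type*} [Group K] [Finite K] (M N : Subgroup K) [N.Normal] : M.relIndex N ∣ M.index := by
  have h1 := Subgroup.relIndex_inf_mul_relIndex M N ⊤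
  have h2 := Subgroup.relIndex_inf_mul_relIndex N M ⊤
  simp only [inf_top_eq, relIndex_top_right] at h1 h2
  rw [inf_comm] at h2
  obtain ⟨c, hc⟩ := Subgroup.relIndex_dvd_index_of_normal N M
  refine ⟨c, ?_⟩
  have hpos : N.relIndex M ≠ 0 := Subgroup.index_ne_zero_of_finite
  have h3 : N.relIndex M * M.index = N.relIndex M * (M.relIndex N * c) := by
    rw [h2, ← h1, hc]
    ring
  exact Nat.eq_of_mul_eq_mul_left (Nat.pos_of_ne_zero hpos) h3

/-- a `2`-group `M` has odd index in `H` -/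
theorem odd_relIndex (h : EP H) (hs : ¬ Group.IsSolvable H) {x : G} (hx : x ∉ H)
    (hM : IsPGroup 2 (H ⊓ cj x H : Subgroup G)) : ¬ 2 ∣ ((H ⊓ cj x H).subgroupOf H).index := by
  have : Fact (Nat.Prime 2) := ⟨Nat.prime_two⟩
  have hM' : IsPGroup 2 ((H ⊓ cj x H).subgroupOf H) := hM.of_equiv (Subgroup.subgroupOfEquivOfLe inf_le_left).symm
  obtain ⟨P, hP⟩ := hM'.exists_le_sylow
  have hPM : (P : Subgroup H) = (H ⊓ cj x H).subgroupOf H := by
    by_contra hne'
    have h1 := (isCoatom_M h hx).2 _ (lt_of_le_of_ne hP (Ne.symm hne'))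
    apply hs
    have h2 : IsPGroup 2 (⊤ : Subgroup H) := by rw [← h1]; exact P.2
    have h3 : IsPGroup 2 H := h2.of_equiv Subgroup.topEquiv
    have := h3.isNilpotent
    infer_instance
  rw [← hPM]
  exact P.not_dvd_index

variable {N : Subgroup G} {T : Type} [Group T] {k : ℕ} {e : N ≃* (Fin k → T)}

theorem EPS.not_solvable_N (h : EPS H N e) : ¬ Group.IsSolvable N := by
  intro hs
  have h1 : Group.IsSolvable (Fin k → T) := Group.isSolvable_of_surjective (f := e.toMonoidHom) e.surjective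
  have h2 : Group.IsSolvable T := Group.isSolvable_of_surjective (f := Pi.evalMonoidHom (fun _ : Fin k => T) ⟨0, h.pos⟩)
    (Function.surjective_eval _)
  have := h.simple
  obtain ⟨a, b, hab⟩ := h.nab
  exact hab (IsSimpleGroup.comm_iff_isSolvable.2 h2 a b)

/-- `H` is not solvable -/
theorem EPS.not_solvable (h : EPS H N e) : ¬ Group.IsSolvable H := by
  intro hs
  apply EPS.not_solvable_N h
  exact Group.isSolvable_of_isSolvable_injective (f := Subgroup.inclusion h.le) (Subgroup.inclusion_injective _)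

theorem EPT2.not_solvable {N' : Subgroup G} (h : EPT2 H N N' e) : ¬ Group.IsSolvable H := by
  intro hs
  have h0 : Group.IsSolvable N := Group.isSolvable_of_isSolvable_injective (f := Subgroup.inclusion h.m1.le) (Subgroup.inclusion_injective _)
  have h1 : Group.IsSolvable (Fin k → T) := Group.isSolvable_of_surjective (f := e.toMonoidHom) e.surjective
  have h2 : Group.IsSolvable T := Group.isSolvable_of_surjective (f := Pi.evalMonoidHom (fun _ : Fin k => T) ⟨0, h.pos⟩)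
    (Function.surjective_eval _)
  have := h.simple
  obtain ⟨a, b, hab⟩ := h.nab
  exact hab (IsSimpleGroup.comm_iff_isSolvable.2 h2 a b)

/-- the `i`-th coordinate -/
noncomputable def co (e : N ≃* (Fin k → T)) (i : Fin k) : N →* T := (Pi.evalMonoidHom (fun _ : Fin k => T) i).comp e.toMonoidHom

theorem co_surj (e : N ≃* (Fin k → T)) (i : Fin k) : Function.Surjective (co e i) :=
  (Function.surjective_eval i).comp e.surjective

/-- the `i`-th factor -/
noncomputable def fa (e : N ≃* (Fin k → T)) (i : Fin k) : T →* N :=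
  e.symm.toMonoidHom.comp (MonoidHom.mulSingle (fun _ : Fin k => T) i)

theorem co_fa (e : N ≃* (Fin k → T)) (i : Fin k) (t : T) : co e i (fa e i t) = t := by
  simp [co, fa]

theorem fa_comm (e : N ≃* (Fin k → T)) (i : Fin k) {t : T} {n : N} (h : t * co e i n = co e i n * t) :
    fa e i t * n = n * fa e i t := by
  apply e.injective
  rw [map_mul, map_mul]
  funext j
  have h1 : e (fa e i t) = Pi.mulSingle i t := by simp [fa]
  rw [h1, Pi.mul_apply, Pi.mul_apply]
  by_cases hj : j = i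
  · subst hj
    rw [Pi.mulSingle_eq_same]
    exact h
  · rw [Pi.mulSingle_eq_of_ne hj, one_mul, mul_one]

theorem EPS.not_two_T (h : EPS H N e) : ¬ IsPGroup 2 T := by
  intro h1
  have : Fact (Nat.Prime 2) := ⟨Nat.prime_two⟩
  have hf : Finite T := by
    have : Finite (Fin k → T) := Finite.of_equiv _ e.toEquiv
    exact Finite.of_surjective (co e ⟨0, h.pos⟩) (co_surj e _)
  have := h1.isNilpotent
  have hsol : Group.IsSolvable T := inferInstance
  have := h.simple
  obtain ⟨a, b, hab⟩ := h.nab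
  exact hab (IsSimpleGroup.comm_iff_isSolvable.2 hsol a b)

/-- `M` a `2`-group: `|N : N ∩ M|` is odd -/
theorem EPS.odd_relIndex_N (h : EPS H N e) {x : G} (hx : x ∉ H)
    (hM : IsPGroup 2 (H ⊓ cj x H : Subgroup G)) : ¬ 2 ∣ ((H ⊓ cj x H).subgroupOf N).index := by
  intro hd
  apply odd_relIndex h.ep (EPS.not_solvable h) hx hM
  have hn : (N.subgroupOf H).Normal := ⟨fun n hn g => h.nrm g g.2 n hn⟩
  have h1 := relIndex_dvd_index ((H ⊓ cj x H).subgroupOf H) (N.subgroupOf H)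
  rw [Subgroup.relIndex_subgroupOf h.le] at h1
  exact hd.trans h1

/-- `M` a `2`-group: `N ∩ M ≠ 1` -/
theorem EPS.inf_ne_bot (h : EPS H N e) {x : G} (hx : x ∉ H)
    (hM : IsPGroup 2 (H ⊓ cj x H : Subgroup G)) : H ⊓ cj x H ⊓ N ≠ ⊥ := by
  intro hb
  apply EPS.not_solvable_N h
  apply Cfsg.Agent.S0205.result
  rw [← Nat.not_even_iff_odd, even_iff_two_dvd]
  intro hd
  apply EPS.odd_relIndex_N h hx hM
  have h1 : (H ⊓ cj x H).subgroupOf N = ⊥ := by
    rw [Subgroup.eq_bot_iff_forall]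
    intro y hy
    have h2 : (y : G) ∈ H ⊓ cj x H ⊓ N := ⟨mem_subgroupOf.1 hy, y.2⟩
    rw [hb, mem_bot] at h2
    exact Subtype.ext h2
  rw [h1, Subgroup.index_bot]
  exact hd

/-- `M` a `2`-group: an involution `z ∈ N ∩ Z(M)` with `C_H(z) = M` -/
theorem EPS.exists_z (h : EPS H N e) {x : G} (hx : x ∉ H) (hM : IsPGroup 2 (H ⊓ cj x H : Subgroup G)) :
    ∃ z ∈ N, z ∈ H ⊓ cj x H ∧ orderOf z = 2 ∧ (∀ m ∈ H ⊓ cj x H, m * z = z * m) ∧
      ∀ g ∈ H, g * z = z * g → g ∈ H ⊓ cj x H := by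
  have hp2 : Fact (Nat.Prime 2) := ⟨Nat.prime_two⟩
  set M : Subgroup G := H ⊓ cj x H with hMdef
  have hn : (N.subgroupOf M).Normal := ⟨fun n hn g => h.nrm g (mem_inf.1 g.2).1 n hn⟩
  have hne : N.subgroupOf M ≠ ⊥ := by
    intro hb
    apply EPS.inf_ne_bot h hx hM
    rw [Subgroup.eq_bot_iff_forall]
    intro y hy
    have h2 : (⟨y, hy.1⟩ : M) ∈ N.subgroupOf M := mem_subgroupOf.2 hy.2
    rw [hb, mem_bot] at h2
    exact Subtype.ext_iff.1 h2
  obtain ⟨b, hbN, hb1, hbc⟩ := Cfsg.Agent.H777.PGrp.inf_center_ne_bot hM hne hn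
  obtain ⟨j, hj⟩ := (IsPGroup.iff_orderOf.1 hM) b
  have hj0 : j ≠ 0 := by
    rintro rfl
    rw [pow_zero, orderOf_eq_one_iff] at hj
    exact hb1 hj
  obtain ⟨j, rfl⟩ := Nat.exists_eq_succ_of_ne_zero hj0
  set z : M := b ^ 2 ^ j with hz
  have hzo : orderOf z = 2 := by
    rw [hz, orderOf_pow_of_dvd (by positivity) (by rw [hj]; exact pow_dvd_pow 2 (Nat.le_succ j)), hj, Nat.succ_eq_add_one,
      pow_succ, Nat.mul_div_cancel_left _ (by positivity)]
  have hzN : (z : G) ∈ N := by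
    rw [hz]
    exact N.pow_mem (mem_subgroupOf.1 hbN) _
  have hzo' : orderOf (z : G) = 2 := by rw [Subgroup.orderOf_coe, hzo]
  have hzc : ∀ m ∈ M, m * (z : G) = z * m := by
    intro m hm
    have h1 : (⟨m, hm⟩ : M) * z = z * ⟨m, hm⟩ := by
      have h2 : Commute (⟨m, hm⟩ : M) b := hbc _
      exact (h2.pow_right (2 ^ j)).eq
    exact Subtype.ext_iff.1 h1
  refine ⟨z, hzN, z.2, hzo', hzc, fun g hg hgz => mem_inf.2 ⟨hg, ?_⟩⟩
  have hzX : ∀ m : G, m * (z : G) = z * m → ∀ k ∈ zpowers (z : G), m * k * m⁻¹ ∈ zpowers (z : G) := by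
    intro m hm k hk
    obtain ⟨i, rfl⟩ := mem_zpowers_iff.1 hk
    have h2 : Commute m ((z : G) ^ i) := Commute.zpow_right hm i
    rw [h2.eq, mul_inv_cancel_right]
    exact hk
  refine h.ep.norm hx (X := zpowers (z : G)) ?_ ?_ ?_ hg (hzX g hgz)
  · rw [zpowers_le]
    exact z.2
  · intro m hm k hk
    exact hzX m (hzc m hm) k hk
  · rw [Ne, zpowers_eq_bot]
    intro h0
    rw [h0, orderOf_one] at hzo'
    norm_num at hzo'

/-- `M` a `2`-group: `T` has an involution `t` with `C_T(t)` a `2`-group of odd index -/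
theorem EPS.exists_T (h : EPS H N e) {x : G} (hx : x ∉ H) (hM : IsPGroup 2 (H ⊓ cj x H : Subgroup G)) :
    ∃ t : T, orderOf t = 2 ∧ IsPGroup 2 (centralizer {t}) ∧ ¬ 2 ∣ (centralizer {t}).index := by
  have hp2 : Fact (Nat.Prime 2) := ⟨Nat.prime_two⟩
  obtain ⟨z, hzN, hzM, hz2, hzc, hzm⟩ := EPS.exists_z h hx hM
  let i : Fin k := ⟨0, h.pos⟩
  let t : T := co e i ⟨z, hzN⟩
  have ht : IsPGroup 2 (centralizer {t} : Subgroup T) := by
    rintro ⟨g, hg⟩
    have h1 : g * t = t * g := (mem_centralizer_singleton_iff.1 hg)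
    have h2 := fa_comm e i h1
    have h3 : ((fa e i g : N) : G) ∈ H ⊓ cj x H := hzm _ (h.le (fa e i g).2) (Subtype.ext_iff.1 h2)
    obtain ⟨j, hj⟩ := hM ⟨_, h3⟩
    refine ⟨j, ?_⟩
    have h4 : (fa e i g) ^ 2 ^ j = 1 := by
      apply Subtype.ext
      have := Subtype.ext_iff.1 hj
      simpa using this
    rw [← map_pow] at h4
    have h5 := congrArg (co e i) h4
    rw [co_fa, map_one] at h5
    exact Subtype.ext h5
  have ht2 : t ^ 2 = 1 := by
    have h1 : (⟨z, hzN⟩ : N) ^ 2 = 1 := by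
      apply Subtype.ext
      have := pow_orderOf_eq_one z
      rw [hz2] at this
      simpa using this
    have h2 := congrArg (co e i) h1
    rwa [map_pow, map_one] at h2
  have ht1 : t ≠ 1 := by
    intro h1
    apply EPS.not_two_T h
    intro g
    have hg : g ∈ (centralizer {t} : Subgroup T) := by
      rw [mem_centralizer_singleton_iff, h1, mul_one, one_mul]
    obtain ⟨j, hj⟩ := ht ⟨g, hg⟩
    exact ⟨j, by simpa using Subtype.ext_iff.1 hj⟩
  refine ⟨t, orderOf_eq_prime ht2 ht1, ht, ?_⟩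
  intro hd
  apply EPS.odd_relIndex_N h hx hM
  refine hd.trans ((Subgroup.index_dvd_of_le ?_).trans (Subgroup.index_map_dvd (H := (H ⊓ cj x H).subgroupOf N) (co_surj e i)))
  rintro _ ⟨y, hy, rfl⟩
  rw [mem_centralizer_singleton_iff]
  have h1 := hzc _ (mem_subgroupOf.1 hy)
  have h2 : y * (⟨z, hzN⟩ : N) = ⟨z, hzN⟩ * y := Subtype.ext h1
  have h3 := congrArg (co e i) h2
  rwa [map_mul, map_mul] at h3

/-- no involution of `T` has a `2`-group of odd index as centraliser: `M` is not a `2`-group -/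
theorem EPS.noTwo (h : EPS H N e)
    (hT : ∀ t : T, orderOf t = 2 → IsPGroup 2 (centralizer {t}) → 2 ∣ (centralizer {t}).index) {x : G} (hx : x ∉ H) :
    ¬ IsPGroup 2 (H ⊓ cj x H : Subgroup G) := by
  intro hM
  obtain ⟨t, h1, h2, h3⟩ := EPS.exists_T h hx hM
  exact h3 (hT t h1 h2)

/-- **hM for `s = 2`** -/
theorem EPS.hM_two (h : EPS H N e)
    (hT : ∀ t : T, orderOf t = 2 → IsPGroup 2 (centralizer {t}) → 2 ∣ (centralizer {t}).index) :
    ∀ g ∉ H, ∃ r ∈ (Nat.card H).primeFactors.erase 2, r ∣ Nat.card (H ⊓ cj g H : Subgroup G) := by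
  intro g hg
  obtain ⟨r, hr, hrs, hrd⟩ := exists_prime_of_not_pgroup Nat.prime_two (EPS.noTwo h hT hg)
  refine ⟨r, Finset.mem_erase.2 ⟨hrs, Nat.mem_primeFactors.2 ⟨hr, hrd.trans ?_, Nat.card_pos.ne'⟩⟩, hrd⟩
  exact Subgroup.card_dvd_of_le inf_le_left

/-- **hM for `s` odd** -/
theorem EPS.hM_odd (h : EPS H N e) {s : ℕ} (hsp : s.Prime) (hs2 : s ≠ 2) :
    ∀ g ∉ H, ∃ r ∈ (Nat.card H).primeFactors.erase s, r ∣ Nat.card (H ⊓ cj g H : Subgroup G) :=
  Cfsg.Agent.H742.EX.hM_odd h.ep (EPS.not_solvable h) hsp hs2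

theorem EPT2.hM_odd {N' : Subgroup G} (h : EPT2 H N N' e) {s : ℕ} (hsp : s.Prime) (hs2 : s ≠ 2) :
    ∀ g ∉ H, ∃ r ∈ (Nat.card H).primeFactors.erase s, r ∣ Nat.card (H ⊓ cj g H : Subgroup G) :=
  Cfsg.Agent.H742.EX.hM_odd h.ep (EPT2.not_solvable h) hsp hs2

end Cfsg.Agent.H742.EX

private theorem dce_2c6a57a5ff08 : _root_.True := by
  try have : _root_.True := by simp only [_root_.Cfsg.Agent.H742.EX.co.eq_1]
  try have : _root_.True := by simp only [_root_.Cfsg.Agent.H742.EX.fa.eq_1]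
  exact _root_.True.intro
end

-- part: H247/EPR/ReeBase_mg
section
prune_inst 0x20100c000100020000000002e0001c0282000400000800008080000004804c2000022020b02000000002800400380048100000004000000000000400011d01a0908802022140a00406000f800080000000000000000000000000000000000000000000000
set_option linter.all false
open scoped Cfsg.Agent.FastGrp

-- part: H247/EPR/Core
section
/-!
# Extremely primitive groups of Lie rank one: general tools (helper247)

* `two_ne_bot` : `H ∩ H^x ≠ 1` in a simple group;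
* `isCoatom_two` : `H ∩ H^x` is maximal in `H`;
* `le_of_comm` : coprime commutator argument;
* `card_le_of_prime` : `X` normal in `H` of prime order `r`: `|G| ≤ r ^ 3 (r - 1)`.
-/

set_option autoImplicit false
set_option linter.unusedSectionVars false

namespace Cfsg.Agent.H247.EPR

open MulAction Subgroup Cfsg.Agent.H284

variable {G : Type*} [Group G]

theorem solv_quot_top : Group.IsSolvable (G ⧸ (⊤ : Subgroup G)) := by
  have : Subsingleton (G ⧸ (⊤ : Subgroup G)) := QuotientGroup.subsingleton_quotient_top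
  infer_instance

/-- `H ∩ H^x ≠ 1` -/
theorem two_ne_bot [Finite G] [hs : IsSimpleGroup G] (hG : ¬ ∀ a b : G, a * b = b * a) {H : Subgroup G} (h : EP H)
    {x : G} (hx : x ∉ H) : H ⊓ cj x H ≠ ⊥ := by
  have hst : IsSimpleGroup (⊤ : Subgroup G) :=
    IsSimpleGroup.isSimpleGroup_of_surjective (Subgroup.topEquiv (G := G)).symm.toMonoidHom
      (Subgroup.topEquiv (G := G)).symm.surjective
  have h1 := h.M0_ne_bot (T := ⊤) solv_quot_top hst (fun hc => hG fun a b => hc a (mem_top a) b (mem_top b)) hx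
  rwa [inf_top_eq] at h1

/-- `H ∩ H^x` is maximal in `H` -/
theorem isCoatom_two [Finite G] {H : Subgroup G} (h : EP H) {x : G} (hx : x ∉ H) :
    IsCoatom ((H ⊓ cj x H).subgroupOf H) := by
  constructor
  · intro e
    rw [Subgroup.subgroupOf_eq_top] at e
    exact h.not_le_cj hx (e.trans inf_le_right)
  · intro L hL
    have h1 : H ⊓ cj x H ≤ L.map H.subtype := by
      intro g hg
      exact ⟨⟨g, (mem_inf.1 hg).1⟩, hL.le hg, rfl⟩
    rcases h.two x hx (L.map H.subtype) h1 (by rintro _ ⟨y, _, rfl⟩; exact y.2) with h2 | h2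
    · exfalso
      apply hL.ne
      apply le_antisymm hL.le
      intro y hy
      have h3 : (y : G) ∈ L.map H.subtype := ⟨y, hy, rfl⟩
      rw [h2] at h3
      exact h3
    · rw [Subgroup.eq_top_iff']
      intro y
      have h3 : (y : G) ∈ L.map H.subtype := by rw [h2]; exact y.2
      obtain ⟨z, hz, e⟩ := h3
      have : z = y := Subtype.ext e
      rwa [← this]

/-- transport of `EP` -/
theorem ep_map {G' : Type*} [Group G'] (e : G ≃* G') {H : Subgroup G} (h : EP H) : EP (H.map (e : G →* G')) := by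
  have hmem : ∀ (L : Subgroup G) (g : G'), g ∈ L.map (e : G →* G') ↔ e.symm g ∈ L := by
    intro L g
    constructor
    · rintro ⟨y, hy, rfl⟩
      simpa using hy
    · intro hg
      exact ⟨_, hg, e.apply_symm_apply g⟩
  refine ⟨?_, ?_, ?_, ?_⟩
  · exact (OrderIso.isCoatom_iff e.mapSubgroup H).2 h.max
  · rw [Subgroup.eq_bot_iff_forall]
    intro g hg
    have h1 : e.symm g ∈ H.normalCore := by
      intro b
      have h2 := hg (e b)
      rw [hmem] at h2
      simpa only [_root_.map_mul, _root_.MulEquiv.symm_apply_apply, _root_.map_inv] using h2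
    rw [h.core, mem_bot] at h1
    have h3 := congrArg e h1
    simpa only [_root_.MulEquiv.apply_symm_apply, _root_.map_one] using h3
  · intro e1
    apply h.ne
    rwa [Subgroup.map_eq_bot_iff_of_injective _ (show Function.Injective (e : G →* G') from e.injective)] at e1
  · intro x hx L hL1 hL2
    have hx' : e.symm x ∉ H := fun e1 => hx ((hmem H x).2 e1)
    have hcj : ∀ g : G, e g ∈ cj x (H.map (e : G →* G')) ↔ g ∈ cj (e.symm x) H := by
      intro g
      rw [mem_cj, mem_cj, hmem]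
      simp only [_root_.map_mul, _root_.map_inv, _root_.MulEquiv.symm_apply_apply]
    have hmem2 : ∀ g : G, e g ∈ H.map (e : G →* G') ↔ g ∈ H := by
      intro g
      rw [hmem]
      simp
    rcases h.two _ hx' (L.comap (e : G →* G')) (by
      intro g hg
      apply hL1
      exact ⟨(hmem2 g).2 (mem_inf.1 hg).1, (hcj g).2 (mem_inf.1 hg).2⟩) (by
      intro g hg
      exact (hmem2 g).1 (hL2 hg)) with h1 | h1
    · left
      ext g
      have h2 : e.symm g ∈ L.comap (e : G →* G') ↔ e.symm g ∈ H ⊓ cj (e.symm x) H := by rw [h1]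
      rw [Subgroup.mem_comap, mem_inf, ← hcj, ← hmem] at h2
      simpa only [_root_.Subgroup.mem_inf, _root_.Subgroup.mem_map, _root_.MonoidHom.coe_coe, _root_.MulEquiv.toMonoidHom_eq_coe, _root_.MulAut.conj_apply, _root_.exists_exists_and_eq_and, _root_.MulEquiv.apply_symm_apply] using h2
    · right
      ext g
      have h2 : e.symm g ∈ L.comap (e : G →* G') ↔ e.symm g ∈ H := by rw [h1]
      rw [Subgroup.mem_comap, ← hmem] at h2
      simpa only [_root_.Subgroup.mem_map, _root_.MonoidHom.coe_coe, _root_.MulEquiv.apply_symm_apply] using h2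

/-- coprime commutators -/
theorem le_of_comm [Finite G] {A H : Subgroup G} {t : G} (hab : ∀ a ∈ A, ∀ b ∈ A, a * b = b * a)
    (ht : ∀ a ∈ A, t⁻¹ * a * t ∈ A) (hfix : ∀ a ∈ A, a * t = t * a → a = 1)
    (hH : ∀ a ∈ A, t⁻¹ * a⁻¹ * t * a ∈ H) : A ≤ H := by
  let φ : A → A := fun a => ⟨t⁻¹ * (a : G)⁻¹ * t * a, A.mul_mem (ht _ (A.inv_mem a.2)) a.2⟩
  have hφ : Function.Injective φ := by
    intro a b e
    have e1 : t⁻¹ * (a : G)⁻¹ * t * a = t⁻¹ * (b : G)⁻¹ * t * b := Subtype.ext_iff.1 e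
    have h1 : (a : G) * (b : G)⁻¹ = 1 := by
      apply hfix _ (A.mul_mem a.2 (A.inv_mem b.2))
      have e2 : (a : G)⁻¹ * t * a = (b : G)⁻¹ * t * b := by
        have := congrArg (fun x => t * x) e1
        simpa only [mul_assoc, _root_.mul_inv_cancel_left] using this
      have hc := hab a a.2 b b.2
      have e3 : t * (a * (b : G)⁻¹) = a * ((a : G)⁻¹ * t * a) * (b : G)⁻¹ := by group
      rw [e3, e2]
      have e4 : (a : G) * ((b : G)⁻¹ * t * b) * (b : G)⁻¹ = a * (b : G)⁻¹ * t := by group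
      rw [e4]
    exact Subtype.ext (mul_inv_eq_one.1 h1)
  intro a ha
  obtain ⟨b, hb⟩ := (Finite.injective_iff_surjective.1 hφ) ⟨a, ha⟩
  have := hH b b.2
  have e : t⁻¹ * (b : G)⁻¹ * t * b = a := Subtype.ext_iff.1 hb
  rwa [e] at this

section prime

variable [Finite G] [hs : IsSimpleGroup G] (hG : ¬ ∀ a b : G, a * b = b * a) {H X : Subgroup G} (h : EP H)
  (hX : X ≤ H) (hXn : ∀ g ∈ H, ∀ k ∈ X, g * k * g⁻¹ ∈ X) {r : ℕ} (hr : r.Prime) (hXr : Nat.card X = r)

include hG h hX hXn hr hXr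

/-- `X` normal in `H` of prime order `r`: `|G| ≤ r ^ 3 (r - 1)`. -/
theorem card_le_of_prime : Nat.card G ≤ r ^ 3 * (r - 1) := by
  classical
  have hfr := Fact.mk hr
  have hne : X ≠ ⊥ := by
    intro e
    rw [e, Subgroup.card_bot] at hXr
    exact hr.one_lt.ne hXr
  obtain ⟨⟨a, haX⟩, hgen⟩ := (isCyclic_of_prime_card hXr).exists_generator
  have hgen' : ∀ b ∈ X, ∃ i : ℤ, a ^ i = b := by
    intro b hb
    obtain ⟨i, hi⟩ := hgen ⟨b, hb⟩
    exact ⟨i, Subtype.ext_iff.1 hi⟩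
  have hab : ∀ a ∈ X, ∀ b ∈ X, a * b = b * a := by
    intro x hx y hy
    obtain ⟨i, rfl⟩ := hgen' x hx
    obtain ⟨j, rfl⟩ := hgen' y hy
    exact ((Commute.refl a).zpow_zpow i j).eq
  have hcen : ∀ c ∈ H, c * a = a * c → c ∈ X := by
    intro c hc hca
    apply h.ab_cent hX hXn hne hab hc
    intro b hb
    obtain ⟨i, rfl⟩ := hgen' b hb
    exact ((show Commute c a from hca).zpow_right i).eq
  -- commutators of `H` are in `X`
  have hcom : ∀ x ∈ H, ∀ y ∈ H, x * y * x⁻¹ * y⁻¹ ∈ X := by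
    intro x hx y hy
    obtain ⟨i, hi⟩ := hgen' _ (hXn x hx a haX)
    obtain ⟨j, hj⟩ := hgen' _ (hXn y hy a haX)
    have h1 : x * y * a * (x * y)⁻¹ = a ^ (i * j) := by
      calc x * y * a * (x * y)⁻¹ = x * (y * a * y⁻¹) * x⁻¹ := by group
        _ = x * a ^ j * x⁻¹ := by rw [← hj]
        _ = (x * a * x⁻¹) ^ j := by rw [conj_zpow]
        _ = a ^ (i * j) := by rw [← hi, ← zpow_mul]
    have h2 : y * x * a * (y * x)⁻¹ = a ^ (i * j) := by
      calc y * x * a * (y * x)⁻¹ = y * (x * a * x⁻¹) * y⁻¹ := by group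
        _ = y * a ^ i * y⁻¹ := by rw [← hi]
        _ = (y * a * y⁻¹) ^ i := by rw [conj_zpow]
        _ = a ^ (i * j) := by rw [← hj, ← zpow_mul, mul_comm]
    have hxy := H.mul_mem hx hy
    have hyx := H.mul_mem hy hx
    have h3 : (y * x)⁻¹ * (x * y) ∈ X := by
      apply hcen _ (H.mul_mem (H.inv_mem hyx) hxy)
      have h4 : (x * y) * a = a ^ (i * j) * (x * y) := mul_inv_eq_iff_eq_mul.1 h1
      have h5 : (y * x) * a = a ^ (i * j) * (y * x) := mul_inv_eq_iff_eq_mul.1 h2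
      have h6 : (y * x)⁻¹ * a ^ (i * j) = a * (y * x)⁻¹ := by
        rw [inv_mul_eq_iff_eq_mul, ← mul_assoc, h5, mul_inv_cancel_right]
      rw [mul_assoc, h4, ← mul_assoc, h6, mul_assoc]
    have h7 := hXn _ hyx _ h3
    have e : y * x * ((y * x)⁻¹ * (x * y)) * (y * x)⁻¹ = x * y * x⁻¹ * y⁻¹ := by group
    rwa [e] at h7
  -- the subgroups `M`
  obtain ⟨x₀, hx₀⟩ := h.exists_notMem
  set c := Nat.card (H ⊓ cj x₀ H : Subgroup G) with hc
  have hcH : r * c = Nat.card H := by rw [← hXr]; exact h.ab_card hX hXn hne hab hx₀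
  have hMc : ∀ M ∈ EP.twoSet H, Nat.card M = c := by
    rintro _ ⟨x, hx, rfl⟩
    have h1 := h.ab_card hX hXn hne hab hx
    rw [hXr, ← hcH] at h1
    exact Nat.eq_of_mul_eq_mul_left hr.pos h1
  have hMX : ∀ M ∈ EP.twoSet H, ∀ g ∈ M, g ∈ X → g = 1 := by
    rintro _ ⟨x, hx, rfl⟩ g hg hgX
    have h1 : g ∈ X ⊓ cj x H := ⟨hgX, (mem_inf.1 hg).2⟩
    rwa [h.ab_inf hX hXn hne hab hx, mem_bot] at h1
  have hMH : ∀ M ∈ EP.twoSet H, M ≤ H := by
    rintro _ ⟨x, hx, rfl⟩
    exact inf_le_left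
  have hMab : ∀ M ∈ EP.twoSet H, ∀ x ∈ M, ∀ y ∈ M, x * y = y * x := by
    intro M hM x hx y hy
    have h1 := hMX M hM _ (M.mul_mem (M.mul_mem (M.mul_mem hx hy) (M.inv_mem hx)) (M.inv_mem hy))
      (hcom x (hMH M hM hx) y (hMH M hM hy))
    rw [mul_inv_eq_one, mul_inv_eq_iff_eq_mul] at h1
    exact h1
  have hc2 : 2 ≤ c := by
    have h1 := two_ne_bot hG h hx₀
    have h2 : c ≠ 1 := fun e => h1 (Subgroup.card_eq_one.1 e)
    have h3 : 0 < c := Nat.card_pos
    omega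
  -- `|M| ≤ r - 1`
  have hcr : c ≤ r - 1 := by
    have h1 : c = Nat.card (H ⊓ cj x₀ H : Subgroup G) := hc
    have hM : (H ⊓ cj x₀ H : Subgroup G) ∈ EP.twoSet H := ⟨x₀, hx₀, rfl⟩
    have h2 : Nat.card {b : X // b ≠ 1} = r - 1 := by
      have := Fintype.ofFinite X
      rw [Nat.card_eq_fintype_card, Fintype.card_subtype_compl, Fintype.card_subtype_eq, ← Nat.card_eq_fintype_card,
        hXr]
    rw [h1, ← h2]
    have ha1 : a ≠ 1 := by
      intro e
      apply hne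
      rw [Subgroup.eq_bot_iff_forall]
      intro b hb
      obtain ⟨i, rfl⟩ := hgen' b hb
      rw [e, one_zpow]
    refine Nat.card_le_card_of_injective (fun m : (H ⊓ cj x₀ H : Subgroup G) =>
      (⟨⟨m * a * (m : G)⁻¹, hXn m (mem_inf.1 m.2).1 a haX⟩, fun e => ha1 (by
        have e1 : (m : G) * a * (m : G)⁻¹ = 1 := Subtype.ext_iff.1 e
        rw [mul_inv_eq_one] at e1
        exact mul_eq_left.1 e1)⟩ : {b : X // b ≠ 1})) ?_
    intro m m' e
    have e1 : (m : G) * a * (m : G)⁻¹ = m' * a * (m' : G)⁻¹ := Subtype.ext_iff.1 (Subtype.ext_iff.1 e)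
    have h3 : (m' : G)⁻¹ * m ∈ (H ⊓ cj x₀ H : Subgroup G) := mul_mem (inv_mem m'.2) m.2
    have h4 := hMX _ hM _ h3 (hcen _ (mem_inf.1 h3).1 (by
      have e2 : (m : G) * a = m' * a * (m' : G)⁻¹ * m := mul_inv_eq_iff_eq_mul.1 e1
      rw [mul_assoc, e2]
      group))
    rw [inv_mul_eq_one] at h4
    exact Subtype.ext h4.symm
  -- they intersect trivially
  have hdis : ∀ M ∈ EP.twoSet H, ∀ M' ∈ EP.twoSet H, ∀ g ∈ M, g ∈ M' → g ≠ 1 → M = M' := by
    intro M hM M' hM' g hg hg' hg1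
    let D : Subgroup G := H ⊓ Subgroup.centralizer {g}
    have hD : ∀ L ∈ EP.twoSet H, g ∈ L → L = D := by
      intro L hL hgL
      have h1 : L ≤ D := fun y hy => mem_inf.2 ⟨hMH L hL hy, Subgroup.mem_centralizer_singleton_iff.2
        (hMab L hL y hy g hgL)⟩
      refine Subgroup.eq_of_le_of_card_ge h1 ?_
      rw [hMc L hL]
      have h2 : Nat.card X * Nat.card D ≤ Nat.card H := by
        rw [← Nat.card_prod]
        refine Nat.card_le_card_of_injective (fun p : X × D => (⟨p.1 * p.2, H.mul_mem (hX p.1.2) (mem_inf.1 p.2.2).1⟩ : H)) ?_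
        rintro ⟨x, d⟩ ⟨x', d'⟩ e
        have e1 : (x : G) * d = x' * d' := Subtype.ext_iff.1 e
        have h3 : (x' : G)⁻¹ * x = d' * (d : G)⁻¹ := by
          rw [inv_mul_eq_iff_eq_mul, ← mul_assoc, eq_mul_inv_iff_mul_eq]
          exact e1
        have h4 : (x' : G)⁻¹ * x ∈ X := X.mul_mem (X.inv_mem x'.2) x.2
        have h5 : (x' : G)⁻¹ * x ∈ D := by
          rw [h3]
          exact D.mul_mem d'.2 (D.inv_mem d.2)
        have h6 : (x' : G)⁻¹ * x = 1 := by
          by_contra hne1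
          apply hg1
          -- `g` commutes with a generator of `X`
          have h7 : (x' : G)⁻¹ * x * g = g * ((x' : G)⁻¹ * x) := Subgroup.mem_centralizer_singleton_iff.1 (mem_inf.1 h5).2
          have h8 : zpowers (⟨_, h4⟩ : X) = ⊤ := by
            rcases (Subgroup.eq_bot_or_eq_top_of_prime_card (hp := by rw [hXr]; exact hfr) (zpowers (⟨_, h4⟩ : X))) with h9 | h9
            · exfalso
              rw [zpowers_eq_bot] at h9
              exact hne1 (Subtype.ext_iff.1 h9)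
            · exact h9
          apply hMX L hL g hgL
          apply hcen _ (hMH L hL hgL)
          have h9 : (⟨a, haX⟩ : X) ∈ zpowers (⟨_, h4⟩ : X) := by rw [h8]; exact mem_top _
          obtain ⟨i, hi⟩ := h9
          have h10 : ((x' : G)⁻¹ * x) ^ i = a := Subtype.ext_iff.1 hi
          rw [← h10]
          exact ((show Commute g ((x' : G)⁻¹ * x) from h7.symm).zpow_right i).eq
        have h7 : (d' : G) * (d : G)⁻¹ = 1 := h3 ▸ h6
        rw [inv_mul_eq_one] at h6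
        rw [mul_inv_eq_one] at h7
        exact Prod.ext (Subtype.ext h6.symm) (Subtype.ext h7.symm)
      rw [hXr, ← hcH] at h2
      exact Nat.le_of_mul_le_mul_left h2 hr.pos
    rw [hD M hM hg, hD M' hM' hg']
  -- counting
  have hfin : (EP.twoSet H).Finite := Set.toFinite _
  have hfty : Fintype (EP.twoSet H) := hfin.fintype
  have hN : (EP.twoSet H).ncard ≤ r := by
    have h1 : Nat.card (Σ M : EP.twoSet H, {m : M.1 // m ≠ 1}) ≤ Nat.card {g : H // (g : G) ∉ X} := by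
      refine Nat.card_le_card_of_injective (fun p => ⟨⟨p.2.1, hMH p.1.1 p.1.2 p.2.1.2⟩, fun hX' =>
        p.2.2 (Subtype.ext (hMX p.1.1 p.1.2 _ p.2.1.2 hX'))⟩) ?_
      rintro ⟨⟨M, hM⟩, ⟨⟨m, hm⟩, hm1⟩⟩ ⟨⟨M', hM'⟩, ⟨⟨m', hm'⟩, hm1'⟩⟩ e
      have e1 : m = m' := Subtype.ext_iff.1 (Subtype.ext_iff.1 e)
      subst e1
      have e2 : M = M' := hdis M hM M' hM' m hm hm' (fun e => hm1 (Subtype.ext e))
      subst e2
      rfl
    have h2 : Nat.card (Σ M : EP.twoSet H, {m : M.1 // m ≠ 1}) = (EP.twoSet H).ncard * (c - 1) := by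
      rw [Nat.card_sigma]
      rw [Finset.sum_congr rfl (g := fun _ => c - 1)]
      · rw [Finset.sum_const, smul_eq_mul, Finset.card_univ, ← Nat.card_eq_fintype_card, Nat.card_coe_set_eq]
      · rintro ⟨M, hM⟩ _
        have := Fintype.ofFinite M
        rw [Nat.card_eq_fintype_card, Fintype.card_subtype_compl, Fintype.card_subtype_eq,
          ← Nat.card_eq_fintype_card, hMc M hM]
    have h3 : Nat.card {g : H // (g : G) ∉ X} = r * c - r := by
      have h4 : Nat.card {g : H // (g : G) ∈ X} = r := by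
        rw [← hXr]
        exact Nat.card_congr ((Subgroup.subgroupOfEquivOfLe hX).toEquiv)
      have := Fintype.ofFinite H
      have h5 := Fintype.card_subtype_compl (fun g : H => (g : G) ∈ X)
      rw [Nat.card_eq_fintype_card, h5, ← Nat.card_eq_fintype_card, ← Nat.card_eq_fintype_card, h4, hcH]
    rw [h2, h3] at h1
    have h4 : r * c - r = r * (c - 1) := by rw [Nat.mul_sub, mul_one]
    rw [h4] at h1
    exact Nat.le_of_mul_le_mul_right h1 (by omega)
  have hidx := h.index_le_sq (fun x hx => two_ne_bot hG h hx)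
  calc Nat.card G = Nat.card H * H.index := (Subgroup.card_mul_index H).symm
    _ ≤ (r * (r - 1)) * r ^ 2 := by
      apply Nat.mul_le_mul
      · rw [← hcH]
        exact Nat.mul_le_mul_left _ hcr
      · exact hidx.trans (Nat.pow_le_pow_left hN 2)
    _ = r ^ 3 * (r - 1) := by ring

end prime

end Cfsg.Agent.H247.EPR
end

-- part: H247/EPR/RankOne
section
/-!
# Extremely primitive groups: socle of rank one in its characteristic (helper247)

`RO p Y` : the Sylow `p`-subgroups of `Y` are TI and there are `|P| + 1` of them; `P` is transitive on the others.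
`RO.mem` : `H` a stabiliser with simple normal subgroup `N`, `RO p N`, `P` Sylow `p`-subgroup of `N`: if `a ∉ H`
centralises `P` then `N_N(P) ≤ H ∩ H^a`.
-/

set_option autoImplicit false
set_option linter.unusedSectionVars false

namespace Cfsg.Agent.H247.EPR

open MulAction Subgroup Cfsg.Agent.H284 Cfsg.Agent.H209.EPX

open scoped Pointwise

/-- TI Sylow `p`-subgroups, `|P| + 1` in number -/
structure RO (p : ℕ) (Y : Type*) [Group Y] : Prop where
  ti : ∀ P Q : Sylow p Y, ∀ x : Y, x ≠ 1 → x ∈ (P : Subgroup Y) → x ∈ (Q : Subgroup Y) → P = Q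
  num : ∀ P : Sylow p Y, Nat.card (Sylow p Y) = Nat.card (P : Subgroup Y) + 1

theorem RO.ne_bot {p : ℕ} [hp : Fact p.Prime] {Y : Type*} [Group Y] [Finite Y] (h : RO p Y) (P : Sylow p Y) :
    (P : Subgroup Y) ≠ ⊥ := by
  intro e
  have h1 := h.num P
  rw [e, Subgroup.card_bot] at h1
  have h2 : Subsingleton (Sylow p Y) := by
    refine ⟨fun A B => ?_⟩
    obtain ⟨g, rfl⟩ := MulAction.exists_smul_eq Y P A
    obtain ⟨k, rfl⟩ := MulAction.exists_smul_eq Y P B
    have h3 : ∀ g : Y, g • P = P := by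
      intro g
      apply Sylow.ext
      rw [Sylow.coe_subgroup_smul, e]
      ext x
      rw [Subgroup.mem_pointwise_smul_iff_inv_smul_mem, mem_bot, mem_bot, MulAut.smul_def, MulAut.conj_inv_apply]
      constructor
      · intro hx
        have h4 := congrArg (fun z => g * z * g⁻¹) hx
        simpa only [mul_assoc, _root_.mul_inv_cancel_left, _root_.mul_inv_cancel, _root_.mul_one] using h4
      · intro hx
        rw [hx]
        group
    rw [h3, h3]
  have h3 : Nat.card (Sylow p Y) ≤ 1 := Finite.card_le_one_iff_subsingleton.2 h2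
  omega

/-- `P` permutes the other Sylow subgroups transitively -/
theorem RO.trans {p : ℕ} [hp : Fact p.Prime] {Y : Type*} [Group Y] [Finite Y] (h : RO p Y) (P : Sylow p Y)
    (Q R : Sylow p Y) (hQ : Q ≠ P) (hR : R ≠ P) : ∃ x ∈ (P : Subgroup Y), x • Q = R := by
  classical
  -- the stabiliser of `Q` in `P` is trivial
  have hinj : Function.Injective (fun x : (P : Subgroup Y) => ((x : Y) • Q : Sylow p Y)) := by
    intro x y e
    have e' : (x : Y) • Q = (y : Y) • Q := e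
    have h1 : ((y : Y)⁻¹ * x) • Q = Q := by rw [mul_smul, e', inv_smul_smul]
    have h2 : (y : Y)⁻¹ * x ∈ (P : Subgroup Y) := mul_mem (inv_mem y.2) x.2
    have h3 : (y : Y)⁻¹ * x ∈ Subgroup.normalizer ((Q : Subgroup Y) : Set Y) := Sylow.smul_eq_iff_mem_normalizer.1 h1
    have h4 : (y : Y)⁻¹ * x ∈ (Q : Subgroup Y) := by
      have h5 := (P.isPGroup').inf_normalizer_sylow Q
      have h6 : (y : Y)⁻¹ * x ∈ (P : Subgroup Y) ⊓ (Q : Subgroup Y) := h5.le ⟨h2, h3⟩
      exact h6.2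
    have h7 : (y : Y)⁻¹ * x = 1 := by
      by_contra hne
      exact hQ (h.ti Q P _ hne h4 h2)
    rw [inv_mul_eq_one] at h7
    exact Subtype.ext h7.symm
  -- it avoids `P`
  have hne : ∀ x : (P : Subgroup Y), ((x : Y) • Q : Sylow p Y) ≠ P := by
    intro x e
    apply hQ
    have h1 : (x : Y) • P = P := by
      refine Sylow.smul_eq_iff_mem_normalizer.2 ?_
      exact Subgroup.le_normalizer x.2
    exact MulAction.injective (x : Y) (e.trans h1.symm)
  let f : ↥(P : Subgroup Y) → {S : Sylow p Y // S ≠ P} := fun x => ⟨(x : Y) • Q, hne x⟩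
  have hf : Function.Injective f := fun x y e => hinj (Subtype.ext_iff.1 e)
  have hcard : Nat.card (P : Subgroup Y) = Nat.card {S : Sylow p Y // S ≠ P} := by
    have := Fintype.ofFinite (Sylow p Y)
    rw [Nat.card_eq_fintype_card (α := {S : Sylow p Y // S ≠ P}), Fintype.card_subtype_compl,
      Fintype.card_subtype_eq, ← Nat.card_eq_fintype_card, h.num P, Nat.add_sub_cancel]
  have hb : Function.Bijective f := (Nat.bijective_iff_injective_and_card f).2 ⟨hf, hcard⟩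
  obtain ⟨x, hx⟩ := hb.2 ⟨R, hR⟩
  exact ⟨x, x.2, Subtype.ext_iff.1 hx⟩

theorem RO.mem {p : ℕ} [hp : Fact p.Prime] {G : Type*} [Group G] [Finite G] {H N : Subgroup G} (hE : EP H)
    (hN : NIn N H) [hs : IsSimpleGroup N] (h : RO p N) (P : Sylow p N) {a : G} (ha : a ∉ H)
    (hc : ∀ x : N, x ∈ (P : Subgroup N) → a * (x : G) = x * a) {y : N}
    (hy : y ∈ Subgroup.normalizer ((P : Subgroup N) : Set N)) : (y : G) ∈ cj a H := by
  classical
  have hNne : N ≠ ⊥ := by
    intro e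
    have h1 : Nontrivial N := hs.toNontrivial
    rw [Subgroup.nontrivial_iff_ne_bot] at h1
    exact h1 e
  set E : Subgroup G := (P : Subgroup N).map N.subtype with hEdef
  have hEN : E ≤ N := by rintro _ ⟨x, _, rfl⟩; exact x.2
  have hEM : E ≤ H ⊓ cj a H := by
    rintro _ ⟨x, hx, rfl⟩
    refine ⟨hN.le x.2, mem_cj.2 ?_⟩
    have h1 := hc x hx
    have h2 : a⁻¹ * (N.subtype x) * a = x := by
      show a⁻¹ * (x : G) * a = x
      rw [mul_assoc, ← h1, inv_mul_cancel_left]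
    rw [h2]
    exact hN.le x.2
  have hkey := Cfsg.Agent.S2247.le_or_eq_top hs P (h.ne_bot P) (fun Q R => h.trans P Q R)
    ((H ⊓ cj a H).subgroupOf N) (by
      intro x hx
      rw [Subgroup.mem_subgroupOf]
      exact hEM ⟨x, hx, rfl⟩)
  rcases hkey with hM0 | hM0
  swap
  · exfalso
    rw [Subgroup.subgroupOf_eq_top] at hM0
    exact hNne (hE.F1 hN.le hN.nrm ha (hM0.trans inf_le_right))
  -- `M` normalises `E`
  have hME : ∀ g ∈ H ⊓ cj a H, ∀ x ∈ E, g * x * g⁻¹ ∈ E := by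
    intro g hg
    have hconjN : ∀ x ∈ N, g * x * g⁻¹ ∈ N := fun x hx => hN.nrm g (mem_inf.1 hg).1 x hx
    let P' : Subgroup N := ((P : Subgroup N).map N.subtype |>.map (MulAut.conj g).toMonoidHom).subgroupOf N
    have hP'mem : ∀ z : N, z ∈ P' ↔ g⁻¹ * (z : G) * g ∈ E := by
      intro z
      rw [Subgroup.mem_subgroupOf]
      exact mem_cj
    have hE'N : (E.map (MulAut.conj g).toMonoidHom) ≤ N := by
      rintro _ ⟨x, hx, rfl⟩
      exact hconjN x (hEN hx)
    have hP'M : P' ≤ (H ⊓ cj a H).subgroupOf N := by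
      intro z hz
      rw [hP'mem] at hz
      rw [Subgroup.mem_subgroupOf]
      have h1 := (H ⊓ cj a H).mul_mem ((H ⊓ cj a H).mul_mem hg (hEM hz)) ((H ⊓ cj a H).inv_mem hg)
      have e : g * (g⁻¹ * (z : G) * g) * g⁻¹ = z := by group
      rwa [e] at h1
    have hcE : Nat.card E = Nat.card (P : Subgroup N) :=
      (Nat.card_congr ((P : Subgroup N).equivMapOfInjective _ N.subtype_injective).toEquiv).symm
    have hcP' : Nat.card P' = Nat.card (P : Subgroup N) := by
      rw [Nat.card_congr (Subgroup.subgroupOfEquivOfLe hE'N).toEquiv, ← hcE]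
      exact (Nat.card_congr (E.equivMapOfInjective _ (MulAut.conj g).injective).toEquiv).symm
    have hP'p : IsPGroup p P' := by
      obtain ⟨n, hn⟩ := P.isPGroup'.exists_card_eq
      exact IsPGroup.of_card (n := n) (by rw [hcP', hn])
    have h1 : P' ≤ (P : Subgroup N) := by
      have h2 := hP'p.inf_normalizer_sylow P
      intro z hz
      have h3 : z ∈ P' ⊓ (P : Subgroup N) := h2.le ⟨hz, hM0 (hP'M hz)⟩
      exact h3.2
    intro x hx
    have h3 : (⟨g * x * g⁻¹, hconjN x (hEN hx)⟩ : N) ∈ P' := by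
      rw [hP'mem]
      have e : g⁻¹ * (g * x * g⁻¹) * g = x := by group
      show g⁻¹ * (g * x * g⁻¹) * g ∈ E
      rw [e]
      exact hx
    exact ⟨_, h1 h3, rfl⟩
  let L : Subgroup G := H ⊓ Subgroup.normalizer (E : Set G)
  have hML : H ⊓ cj a H ≤ L := by
    intro g hg
    refine mem_inf.2 ⟨(mem_inf.1 hg).1, ?_⟩
    rw [Subgroup.mem_normalizer_iff]
    intro x
    constructor
    · exact hME g hg x
    · intro hx
      have h1 := hME g⁻¹ (inv_mem hg) _ hx
      have e : g⁻¹ * (g * x * g⁻¹) * g⁻¹⁻¹ = x := by group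
      rwa [e] at h1
  have hyE : ∀ x ∈ E, (y : G) * x * (y : G)⁻¹ ∈ E := by
    rintro _ ⟨x, hx, rfl⟩
    exact ⟨_, (Subgroup.mem_normalizer_iff.1 hy x).1 hx, rfl⟩
  have hyL : (y : G) ∈ L := by
    refine mem_inf.2 ⟨hN.le y.2, ?_⟩
    rw [Subgroup.mem_normalizer_iff]
    intro x
    constructor
    · exact hyE x
    · intro hx
      have h2 : ∀ z ∈ E, (y : G)⁻¹ * z * y ∈ E := by
        rintro _ ⟨z, hz, rfl⟩
        have h1 := (Subgroup.mem_normalizer_iff.1 (inv_mem hy) z).1 hz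
        rw [inv_inv] at h1
        exact ⟨_, h1, rfl⟩
      have h1 := h2 _ hx
      have e : (y : G)⁻¹ * (y * x * (y : G)⁻¹) * y = x := by group
      rwa [e] at h1
  rcases hE.two a ha L hML inf_le_left with h1 | h1
  · rw [h1] at hyL
    exact (mem_inf.1 hyL).2
  · exfalso
    -- `E` is normal in `N`
    have h2 : (P : Subgroup N).Normal := by
      constructor
      intro x hx g
      have h3 : (g : G) ∈ L := by rw [h1]; exact hN.le g.2
      have h4 := (Subgroup.mem_normalizer_iff.1 (mem_inf.1 h3).2 (x : G)).1 ⟨x, hx, rfl⟩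
      obtain ⟨z, hz, e⟩ := h4
      have : z = g * x * g⁻¹ := Subtype.ext e
      rwa [← this]
    have h3 : Subsingleton (Sylow p N) := by
      refine ⟨fun A B => ?_⟩
      obtain ⟨g, rfl⟩ := MulAction.exists_smul_eq N P A
      obtain ⟨k, rfl⟩ := MulAction.exists_smul_eq N P B
      have h5 : ∀ g : N, g • P = P := fun g => Sylow.smul_eq_of_normal
      rw [h5, h5]
    have h4 : Nat.card (Sylow p N) ≤ 1 := Finite.card_le_one_iff_subsingleton.2 h3
    have h5 := h.num P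
    have h6 : 0 < Nat.card (P : Subgroup N) := Nat.card_pos
    omega

end Cfsg.Agent.H247.EPR
end

-- part: H247/EPR/ReeBase
section
/-!
# Extremely primitive groups: the small Ree groups, base facts (helper247)
-/

set_option autoImplicit false
set_option linter.unusedSectionVars false

namespace Cfsg.Agent.H247.EPR

open MulAction Subgroup Cfsg.Agent.H284 Cfsg.Agent.H209.EPX
open Cfsg.Agent.LieRecognition

open scoped Pointwise

instance fact_three : Fact (Nat.Prime 3) := ⟨Nat.prime_three⟩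

section data

variable {K : Type} [Field K] [Fintype K] {G : Type} [Group G] [Finite G] {m : ℕ} {U : K → K → K → G} {h : Kˣ → G}
  {n : G} (D : ReeAbs.Data m U h n)

/-- the elements `U 0 u v` -/
def aU : Subgroup G where
  carrier := {g | ∃ u v, g = U 0 u v}
  mul_mem' := by
    rintro _ _ ⟨u, v, rfl⟩ ⟨u', v', rfl⟩
    refine ⟨u + u', v + v', ?_⟩
    rw [D.U_mul]
    have h0 : (0 : K) ^ (3 ^ (m + 1)) = 0 := zero_pow (by positivity)
    simp [h0]
  one_mem' := ⟨0, 0, D.U_zero.symm⟩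
  inv_mem' := by
    rintro _ ⟨u, v, rfl⟩
    refine ⟨-u, -v, ?_⟩
    rw [inv_eq_iff_mul_eq_one, D.U_mul]
    have h0 : (0 : K) ^ (3 ^ (m + 1)) = 0 := zero_pow (by positivity)
    simp [h0, D.U_zero]

theorem aU_le : aU D ≤ ReeSylowThree.uSub D := by
  rintro _ ⟨u, v, rfl⟩
  exact ⟨0, u, v, rfl⟩

theorem aU_comm : ∀ a ∈ aU D, ∀ b ∈ aU D, a * b = b * a := by
  rintro _ ⟨u, v, rfl⟩ _ ⟨u', v', rfl⟩
  have h0 : (0 : K) ^ (3 ^ (m + 1)) = 0 := zero_pow (by positivity)
  rw [D.U_mul, D.U_mul]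
  simp only [h0, mul_zero, sub_zero, add_zero]
  rw [add_comm u, add_comm v]

theorem card_aU : Nat.card (aU D) = Fintype.card K ^ 2 := by
  let f : K × K → aU D := fun x => ⟨U 0 x.1 x.2, x.1, x.2, rfl⟩
  have hf : Function.Bijective f := by
    constructor
    · rintro ⟨u, v⟩ ⟨u', v'⟩ he
      obtain ⟨-, h1, h2⟩ := ReeSylowThree.U_injective D (Subtype.ext_iff.1 he)
      exact Prod.ext h1 h2
    · rintro ⟨_, u, v, rfl⟩
      exact ⟨(u, v), rfl⟩
  rw [← Nat.card_congr (Equiv.ofBijective f hf), Nat.card_prod, Nat.card_eq_fintype_card, sq]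

theorem mem_aU_of_cube (hK : Fintype.card K = 3 ^ (2 * m + 1)) {x : G} (hx : x ∈ ReeSylowThree.uSub D) :
    x ∈ aU D ↔ x ^ 3 = 1 := by
  obtain ⟨t, u, v, rfl⟩ := hx
  rw [ReeSplit.U_cube D hK]
  constructor
  · rintro ⟨u', v', e⟩
    obtain ⟨h1, -, -⟩ := ReeSylowThree.U_injective D e
    rw [h1]
    simp [D.U_zero]
  · intro e
    rw [← D.U_zero] at e
    obtain ⟨-, -, h1⟩ := ReeSylowThree.U_injective D e
    have h2 : t = 0 := by
      rw [neg_eq_zero, mul_eq_zero] at h1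
      rcases h1 with h1 | h1
      · exact pow_eq_zero_iff (by norm_num) |>.1 h1
      · exact pow_eq_zero_iff (by positivity) |>.1 h1
    rw [h2]
    exact ⟨u, v, rfl⟩

/-- the elements `U 0 0 v` -/
def zU : Subgroup G := ReeSylowThree.uSub D ⊓ Subgroup.centralizer (ReeSylowThree.uSub D : Set G)

theorem zU_le : zU D ≤ ReeSylowThree.uSub D := inf_le_left

theorem zU_comm : ∀ a ∈ zU D, ∀ b ∈ ReeSylowThree.uSub D, a * b = b * a := by
  intro a ha b hb
  exact (Subgroup.mem_centralizer_iff.1 (mem_inf.1 ha).2 b hb).symm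

theorem U_mem_zU (v : K) : U 0 0 v ∈ zU D := by
  refine mem_inf.2 ⟨⟨0, 0, v, rfl⟩, ?_⟩
  rw [Subgroup.mem_centralizer_iff]
  rintro _ ⟨t, u, w, rfl⟩
  rw [D.U_mul, D.U_mul]
  have h0 : (0 : K) ^ (3 ^ (m + 1)) = 0 := zero_pow (by positivity)
  simp only [h0, mul_zero, sub_zero, add_zero, zero_mul, zero_add]
  congr 1
  ring

theorem inv_conj_zU {g : G} (hg : g ∈ ReeSplit.bSub D) : ∀ a ∈ zU D, g⁻¹ * a * g ∈ zU D := by
  intro a ha
  refine mem_inf.2 ⟨ReeSplit.inv_conj_mem_uSub D hg (mem_inf.1 ha).1, ?_⟩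
  rw [Subgroup.mem_centralizer_iff]
  intro b hb
  have h1 := zU_comm D a ha _ (ReeSplit.conj_mem_uSub D hg hb)
  calc b * (g⁻¹ * a * g) = g⁻¹ * (g * b * g⁻¹ * a) * g := by group
    _ = g⁻¹ * (a * (g * b * g⁻¹)) * g := by rw [h1]
    _ = g⁻¹ * a * g * b := by group

theorem inv_conj_aU (hK : Fintype.card K = 3 ^ (2 * m + 1)) {g : G} (hg : g ∈ ReeSplit.bSub D) :
    ∀ a ∈ aU D, g⁻¹ * a * g ∈ aU D := by
  intro a ha
  have h1 := (mem_aU_of_cube D hK (aU_le D ha)).1 ha
  rw [mem_aU_of_cube D hK (ReeSplit.inv_conj_mem_uSub D hg (aU_le D ha))]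
  have h2 : (g⁻¹ * a * g) ^ 3 = g⁻¹ * a ^ 3 * g := by simp only [pow_succ, mul_assoc, _root_.pow_zero, _root_.one_mul, _root_.mul_inv_cancel_left]
  rw [h2, h1]
  group

variable (hK : Fintype.card K = 3 ^ (2 * m + 1))

include D hK

/-- every 3-subgroup is in `uSub` for some data -/
theorem exists_data {E : Subgroup G} (hE : IsPGroup 3 E) :
    ∃ (U' : K → K → K → G) (h' : Kˣ → G) (n' : G) (D' : ReeAbs.Data m U' h' n'), E ≤ ReeSylowThree.uSub D' := by
  classical
  have Dl := ReeSetup.local_of_data D hK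
  have ar := ReeClass.arith m
  have hidx := ReeClass.index_U Dl ar
  have hUp : IsPGroup 3 (ReeSylowThree.uSub D) := by
    apply IsPGroup.of_card (n := (2 * m + 1) * 3)
    rw [Dl.card_U, pow_mul]
  let S : Sylow 3 G := hUp.toSylow hidx
  have hS : (S : Subgroup G) = ReeSylowThree.uSub D := rfl
  obtain ⟨P, hP⟩ := hE.exists_le_sylow
  obtain ⟨g, rfl⟩ := MulAction.exists_smul_eq G S P
  refine ⟨_, _, _, Cfsg.Agent.H963.ReeFive.data_map (MulAut.conj g⁻¹) D, ?_⟩
  intro x hx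
  have h1 : x ∈ MulAut.conj g • (S : Subgroup G) := hP hx
  rw [Subgroup.mem_pointwise_smul_iff_inv_smul_mem, hS] at h1
  obtain ⟨t, u, v, e⟩ := h1
  refine ⟨t, u, v, ?_⟩
  show x = (MulAut.conj g⁻¹).symm (U t u v)
  rw [← e, MulEquiv.eq_symm_apply, map_inv]
  rfl

theorem isPGroup_uSub : IsPGroup 3 (ReeSylowThree.uSub D) := by
  have Dl := ReeSetup.local_of_data D hK
  apply IsPGroup.of_card (n := (2 * m + 1) * 3)
  rw [Dl.card_U, pow_mul]

theorem exists_sylow_uSub : ∃ S : Sylow 3 G, (S : Subgroup G) = ReeSylowThree.uSub D :=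
  ⟨(isPGroup_uSub D hK).toSylow (ReeClass.index_U (ReeSetup.local_of_data D hK) (ReeClass.arith m)), rfl⟩

/-- **The trick**: `A ≤ uSub` abelian, normalised by the Borel subgroup, `y ∈ H` of order not dividing 18. -/
theorem trick {H A : Subgroup G} (hA : A ≤ ReeSylowThree.uSub D) (hab : ∀ a ∈ A, ∀ b ∈ A, a * b = b * a)
    (hB : ∀ g ∈ ReeSplit.bSub D, ∀ a ∈ A, g⁻¹ * a * g ∈ A) {y : G} (hyB : y ∈ ReeSplit.bSub D) (hyH : y ∈ H)
    (hy : y ^ 18 ≠ 1) (hk : ∀ a ∈ A, a ∉ H → y ∈ cj a H) : A ≤ H := by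
  apply le_of_comm (t := y) hab (fun a ha => hB y hyB a ha)
  · intro a ha hc
    by_contra ha1
    exact hy (ReeSplit.pow_eighteen_of_commute D hK (hA ha) ha1 hc.symm)
  · intro a ha
    by_cases haH : a ∈ H
    · exact H.mul_mem (H.mul_mem (H.mul_mem (H.inv_mem hyH) (H.inv_mem haH)) hyH) haH
    · have h1 := mem_cj.1 (hk a ha haH)
      have e : y⁻¹ * a⁻¹ * y * a = y⁻¹ * (a⁻¹ * y * a) := by group
      rw [e]
      exact H.mul_mem (H.inv_mem hyH) h1

/-- second step: `A ≤ H` implies `A ≤ N` -/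
theorem trick' {H N A : Subgroup G} (hN : NIn N H) (hA : A ≤ ReeSylowThree.uSub D)
    (hab : ∀ a ∈ A, ∀ b ∈ A, a * b = b * a)
    (hB : ∀ g ∈ ReeSplit.bSub D, ∀ a ∈ A, g⁻¹ * a * g ∈ A) {y : G} (hyB : y ∈ ReeSplit.bSub D) (hyN : y ∈ N)
    (hy : y ^ 18 ≠ 1) (hAH : A ≤ H) : A ≤ N := by
  apply le_of_comm (t := y) hab (fun a ha => hB y hyB a ha)
  · intro a ha hc
    by_contra ha1
    exact hy (ReeSplit.pow_eighteen_of_commute D hK (hA ha) ha1 hc.symm)
  · intro a ha
    have h1 := hN.nrm a⁻¹ (inv_mem (hAH ha)) y hyN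
    rw [inv_inv] at h1
    have e : y⁻¹ * a⁻¹ * y * a = y⁻¹ * (a⁻¹ * y * a) := by group
    rw [e]
    exact N.mul_mem (N.inv_mem hyN) h1

end data

end Cfsg.Agent.H247.EPR
end

-- part: H137/EPX/ReeThirteen
section
/-!
# S5745: `PSL₂(13)` is not a subgroup of `²G₂(q)` (helper137)
-/

set_option autoImplicit false
set_option linter.unusedSectionVars false

namespace Cfsg.Agent.H137.EPX

open Subgroup Cfsg.Agent.LieRecognition Cfsg.Agent.LieRecognition.ReeAbs
  Cfsg.Agent.LieRecognition.ReeSylowThree Cfsg.Agent.LieRecognition.ReeSplit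

universe u v

section

variable {K : Type u} [Field K] [Fintype K] {G : Type v} [Group G] {m : ℕ} {U : K → K → K → G} {h : Kˣ → G} {n : G}

/-- no element of order `13` is conjugate to its cube -/
theorem no_thirteen [Finite G] (D : ReeAbs.Data m U h n) (hK : Fintype.card K = 3 ^ (2 * m + 1)) {x g : G}
    (hx : orderOf x = 13) (hg : g * x * g⁻¹ = x ^ 3) : False := by
  classical
  have hp : Fact (Nat.Prime 13) := ⟨by norm_num⟩
  have Dl := ReeSetup.local_of_data D hK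
  have h8 := three_pow_odd_mod m
  have hcG := Dl.card_G
  have hdG : 13 ∣ Nat.card G := hx ▸ _root_.orderOf_dvd_natCard x
  have hmod : (3 ^ (2 * m + 1)) ^ 3 % 13 = 1 := by
    rw [← pow_mul, mul_comm, pow_mul, Nat.pow_mod]
    norm_num
  have n1 : ¬ 13 ∣ (3 ^ (2 * m + 1)) ^ 3 := by omega
  have n2 : ¬ 13 ∣ (3 ^ (2 * m + 1)) ^ 3 + 1 := by omega
  rw [hcG] at hdG
  have hd : 13 ∣ 3 ^ (2 * m + 1) - 1 := by
    rcases (Nat.Prime.dvd_mul hp.out).1 hdG with h1 | h1
    · exact ((Nat.Prime.dvd_mul hp.out).1 h1).resolve_left n1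
    · exact absurd h1 n2
  -- the torus contains a Sylow subgroup
  have hcA := card_aSub D hK
  have hindex : ¬ 13 ∣ (aSub D).index := by
    have h1 := (aSub D).card_mul_index
    rw [hcA, hcG] at h1
    have h2 : (3 ^ (2 * m + 1)) ^ 3 * (3 ^ (2 * m + 1) - 1) * ((3 ^ (2 * m + 1)) ^ 3 + 1) =
        (3 ^ (2 * m + 1) - 1) / 2 * (2 * (3 ^ (2 * m + 1)) ^ 3 * ((3 ^ (2 * m + 1)) ^ 3 + 1)) := by
      have h3 : 3 ^ (2 * m + 1) - 1 = (3 ^ (2 * m + 1) - 1) / 2 * 2 := by (clear * - h8; omega)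
      conv_lhs => rw [h3]
      ring
    rw [h2] at h1
    rw [Nat.eq_of_mul_eq_mul_left (by (clear * - hK h8; omega)) h1]
    intro h3
    rcases (Nat.Prime.dvd_mul hp.out).1 h3 with h3 | h3
    · rcases (Nat.Prime.dvd_mul hp.out).1 h3 with h3 | h3
      · omega
      · exact n1 h3
    · exact n2 h3
  have hpx : IsPGroup 13 (zpowers x) := by
    apply IsPGroup.of_card (n := 1)
    rw [Nat.card_zpowers, hx, pow_one]
  obtain ⟨Q, hQ⟩ := hpx.exists_le_sylow
  obtain ⟨P0⟩ : Nonempty (Sylow 13 (aSub D)) := inferInstance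
  have hP : IsPGroup 13 ((P0 : Subgroup (aSub D)).map (aSub D).subtype) := P0.isPGroup'.map _
  have hi' : ¬ 13 ∣ ((P0 : Subgroup (aSub D)).map (aSub D).subtype).index := by
    rw [Subgroup.index_map_subtype]
    intro h
    rcases (Nat.Prime.dvd_mul hp.out).1 h with h | h
    · exact P0.not_dvd_index h
    · exact hindex h
  obtain ⟨P, hPe⟩ : ∃ P : Sylow 13 G, (P : Subgroup G) = (P0 : Subgroup (aSub D)).map (aSub D).subtype :=
    ⟨hP.toSylow hi', rfl⟩
  have hle : (P : Subgroup G) ≤ aSub D := by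
    rw [hPe]; exact Subgroup.map_subtype_le _
  obtain ⟨y, hy⟩ := MulAction.exists_smul_eq G Q P
  have hxy : y * x * y⁻¹ ∈ aSub D := by
    apply hle
    rw [← hy]
    exact ⟨x, hQ (mem_zpowers x), by simp⟩
  obtain ⟨a, ha, hya⟩ := (mem_aSub D).1 hxy
  have hoa : orderOf a = 13 := by
    have h1 : orderOf (y * x * y⁻¹) = 13 := by
      rw [← hx]
      exact orderOf_injective (MulAut.conj y).toMonoidHom (MulAut.conj y).injective x
    rw [hya, ReeTorus.orderOf_h D] at h1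
    exact h1
  have h3 : h (a ^ 3) * (y * g * y⁻¹) = (y * g * y⁻¹) * h a := by
    have e1 : h (a ^ 3) = (h a) ^ 3 := (MonoidHom.mk' h D.h_mul).map_pow a 3
    rw [e1, ← hya]
    have e2 : (y * x * y⁻¹) ^ 3 = y * x ^ 3 * y⁻¹ := conj_pow
    rw [e2, ← hg]
    group
  have ha3 : (a ^ 3) ^ 2 ≠ 1 := by
    intro h4
    have h5 : orderOf a ∣ 6 := orderOf_dvd_of_pow_eq_one (by rw [← h4, ← pow_mul])
    rw [hoa] at h5
    omega
  rcases cases_of_conj D hK ha3 h3 with ⟨h4, -⟩ | ⟨h4, -⟩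
  · have h5 : orderOf a ∣ 2 := orderOf_dvd_of_pow_eq_one (by
      have : a ^ 3 = a ^ 2 * a := pow_succ a 2
      rw [this] at h4
      exact mul_eq_right.1 h4)
    rw [hoa] at h5
    omega
  · have h5 : orderOf a ∣ 4 := orderOf_dvd_of_pow_eq_one (by
      have : a ^ 4 = a ^ 3 * a := pow_succ a 3
      rw [this, h4, inv_mul_cancel])
    rw [hoa] at h5
    omega

end

/-- `PSL₂(13)` has an element of order `13` conjugate to its cube -/
theorem psl_thirteen {F : Type u} [Field F] [Fintype F] (hF : Fintype.card F = 13) :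
    ∃ x g : Matrix.ProjectiveSpecialLinearGroup (Fin 2) F, orderOf x = 13 ∧ g * x * g⁻¹ = x ^ 3 := by
  classical
  have h13 : (13 : F) = 0 := by
    have := FiniteField.cast_card_eq_zero F
    rw [hF] at this
    exact_mod_cast this
  have hp : Fact (Nat.Prime 13) := ⟨by norm_num⟩
  let X : Matrix.SpecialLinearGroup (Fin 2) F := ⟨!![1, 1; 0, 1], by rw [Matrix.det_fin_two_of]; ring⟩
  let X3 : Matrix.SpecialLinearGroup (Fin 2) F := ⟨!![1, 3; 0, 1], by rw [Matrix.det_fin_two_of]; ring⟩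
  let Dg : Matrix.SpecialLinearGroup (Fin 2) F := ⟨!![4, 0; 0, 10], by
    rw [Matrix.det_fin_two_of]
    linear_combination (3 : F) * h13⟩
  have e3 : X ^ 3 = X3 := by
    apply Subtype.ext
    rw [pow_succ, pow_two]
    show (!![1, 1; 0, 1] * !![1, 1; 0, 1] * !![1, 1; 0, 1] : Matrix (Fin 2) (Fin 2) F) = !![1, 3; 0, 1]
    rw [Matrix.mul_fin_two, Matrix.mul_fin_two]
    congr 1
    ext i j
    (revert i j; simp only [_root_.Fin.forall_fin_succ, _root_.Nat.succ_eq_add_one, Nat.reduceAdd, _root_.mul_one, _root_.MulZeroClass.mul_zero, _root_.add_zero, _root_.zero_add, _root_.Matrix.cons_val', _root_.Matrix.cons_val_fin_one, Fin.isValue, _root_.Matrix.cons_val_zero, _root_.Matrix.cons_val_succ, _root_.forall_const, _root_.true_and, _root_.implies_true, _root_.and_true]) <;> (repeat' with_reducible apply And.intro) <;> ring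
  have hrel : Dg * X = X ^ 3 * Dg := by
    rw [e3]
    apply Subtype.ext
    show (!![4, 0; 0, 10] * !![1, 1; 0, 1] : Matrix (Fin 2) (Fin 2) F) = !![1, 3; 0, 1] * !![4, 0; 0, 10]
    rw [Matrix.mul_fin_two, Matrix.mul_fin_two]
    ext i j
    (revert i j; simp only [_root_.Fin.forall_fin_succ, _root_.mul_one, _root_.MulZeroClass.mul_zero, _root_.add_zero, _root_.zero_add, _root_.Matrix.of_apply, _root_.Matrix.cons_val', _root_.Matrix.cons_val_fin_one, _root_.one_mul, _root_.MulZeroClass.zero_mul, Fin.isValue, _root_.Matrix.cons_val_zero, _root_.Matrix.cons_val_succ, _root_.forall_const, _root_.implies_true, _root_.and_true, _root_.true_and]) <;> (repeat' with_reducible apply And.intro)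
    linear_combination (-2 : F) * h13
  have hpow : ∀ k : ℕ, ((X ^ k : Matrix.SpecialLinearGroup (Fin 2) F) : Matrix (Fin 2) (Fin 2) F) = !![1, (k : F); 0, 1] := by
    intro k
    induction k with
    | zero =>
      ext i j
      (revert i j; simp only [_root_.Fin.forall_fin_succ, _root_.pow_zero, _root_.Matrix.SpecialLinearGroup.coe_one, _root_.Nat.cast_zero, _root_.Matrix.of_apply, _root_.Matrix.cons_val', _root_.Matrix.cons_val_fin_one, Fin.isValue, _root_.Matrix.cons_val_zero, _root_.Matrix.cons_val_succ, _root_.IsEmpty.forall_iff, _root_.and_true, _root_.Matrix.one_apply_eq, Nat.reduceAdd, _root_.Fin.succ_zero_eq_one, _root_.ne_eq, _root_.zero_ne_one, _root_.not_false_eq_true, _root_.Matrix.one_apply_ne, _root_.and_self, _root_.Fin.succ_ne_zero, _root_.true_and])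
    | succ k ih =>
      rw [pow_succ, Matrix.SpecialLinearGroup.coe_mul, ih]
      show (!![1, (k : F); 0, 1] * !![1, 1; 0, 1] : Matrix (Fin 2) (Fin 2) F) = _
      rw [Matrix.mul_fin_two]
      ext i j
      (revert i j; simp only [_root_.Fin.forall_fin_succ, _root_.mul_one, _root_.MulZeroClass.mul_zero, _root_.add_zero, _root_.zero_add, _root_.Matrix.of_apply, _root_.Matrix.cons_val', _root_.Matrix.cons_val_fin_one, _root_.Nat.cast_add, _root_.Nat.cast_one, Fin.isValue, _root_.Matrix.cons_val_zero, _root_.Matrix.cons_val_succ, _root_.forall_const, _root_.implies_true, _root_.and_true, _root_.true_and]) <;> (repeat' with_reducible apply And.intro)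
      ring
  refine ⟨QuotientGroup.mk X, QuotientGroup.mk Dg, orderOf_eq_prime ?_ ?_, ?_⟩
  · rw [← QuotientGroup.mk_pow]
    have : X ^ 13 = 1 := by
      apply Subtype.ext
      rw [hpow]
      ext i j
      (revert i j; simp only [_root_.Fin.forall_fin_succ, _root_.Nat.cast_ofNat, _root_.Matrix.of_apply, _root_.Matrix.cons_val', _root_.Matrix.cons_val_fin_one, _root_.Matrix.SpecialLinearGroup.coe_one, Fin.isValue, _root_.Matrix.cons_val_zero, _root_.Matrix.cons_val_succ, _root_.IsEmpty.forall_iff, _root_.Matrix.one_apply_eq, Nat.reduceAdd, _root_.Fin.succ_zero_eq_one, _root_.ne_eq, _root_.zero_ne_one, _root_.not_false_eq_true, _root_.Matrix.one_apply_ne, _root_.Fin.succ_ne_zero, _root_.and_true, _root_.true_and]) <;> (repeat' with_reducible apply And.intro)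
      exact h13
    rw [this, QuotientGroup.mk_one]
  · intro h1
    rw [QuotientGroup.eq_one_iff, Matrix.SpecialLinearGroup.mem_center_iff] at h1
    obtain ⟨r, -, hr⟩ := h1
    have h2 := congrFun (congrFun hr 0) 1
    simp [X] at h2
  · rw [mul_inv_eq_iff_eq_mul, ← QuotientGroup.mk_pow, ← QuotientGroup.mk_mul, ← QuotientGroup.mk_mul, hrel]

/-- **`T = PSL₂(13)` in `²G₂(q)`** -/
theorem ree_l213 {K : Type} [Field K] [Fintype K] {m : ℕ} (_hm : 1 ≤ m) (hK : Fintype.card K = 3 ^ (2 * m + 1))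
    {H N : Subgroup ↥(Cfsg.Lie.twistedG2 K (3 ^ m))} (_h : H284.EP H) (_hN : H209.EPX.NIn N H)
    {F : Type} [Field F] [Fintype F] (hF : Fintype.card F = 13)
    (e : N ≃* Matrix.ProjectiveSpecialLinearGroup (Fin 2) F) : False := by
  have hfin : Finite ↥(Cfsg.Lie.twistedG2 K (3 ^ m)) := by
    apply Nat.finite_of_card_ne_zero
    rw [Cfsg.Agent.LieRecognition.ReeFinal.card hK]
    have h1 : 0 < 3 ^ (2 * m + 1) := by positivity
    have h2 : 0 < 3 ^ (2 * m + 1) - 1 := by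
      have : 3 ^ 1 ≤ 3 ^ (2 * m + 1) := Nat.pow_le_pow_right (by norm_num) (by omega)
      omega
    positivity
  obtain ⟨x, g, hx, hg⟩ := psl_thirteen hF
  have h1 : e.symm g * e.symm x * (e.symm g)⁻¹ = e.symm x ^ 3 := by
    rw [← map_inv, ← map_mul, ← map_mul, hg, map_pow]
  refine no_thirteen (Cfsg.Agent.LieRecognition.ReeFinal.data hK) hK (x := (e.symm x : N)) (g := (e.symm g : N)) ?_ ?_
  · rw [Subgroup.orderOf_coe, MulEquiv.orderOf_eq, hx]
  · exact congrArg Subtype.val h1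

end Cfsg.Agent.H137.EPX
end
end

-- part: H424/EPX/OwnG_mg
section
prune_inst 0x2008000000000000000000000020000000000000000001800000000000800000000800000000020000800000000000000000000000000000000400000000000080120020400000000006000000000000000000000000000000000000000000000000000
set_option linter.all false
open scoped Cfsg.Agent.FastGrp

-- part: H424/EPX/GPsys
section
/-!
# The `G`-side of the own characteristic case, over a parabolic system of the overgroup (helper424, S5745)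

`S₀ : PSys Y p I₀` for the overgroup `Y` (`Y` simple, in `G` as a normal subgroup) instead of a root group datum.

* `CanV S₀` : canonical Borel–Tits; `canV_of_bt`, `canV_of_rad` : from Borel–Tits, and from the list of the radical
  subgroups;
* `not_V_le`, `exists_QQ'`, `exists_DQ'` : ports of helper470's `GSide`, `QQ`;
* `dq_ps` : `EPS H N e ⊢ DQ H e' S J`, for every parabolic system `S` of `T`, `N ≅ T ^ k`.
-/

set_option autoImplicit false
set_option linter.unusedSectionVars false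

namespace Cfsg.Agent.H424.EPX

open Cfsg.Agent.H284 Cfsg.Agent.H737.EPO Cfsg.Agent.H470.EPO Cfsg.Agent.H209.EPX Cfsg.Agent.H470.EPK

section PS

variable {Y : Type*} [Group Y] {p : ℕ} {I₀ : Type*} (S₀ : PSys Y p I₀)

/-- canonical Borel–Tits -/
def CanV : Prop := ∀ D : Subgroup Y, IsPGroup p D → D ≠ ⊥ → ∃ (J : Set I₀) (g : Y), J ≠ Set.univ ∧
  D ≤ cj g (S₀.V J) ∧ ∀ φ : MulAut Y, (∀ d ∈ D, φ d ∈ D) → ∀ x ∈ cj g (S₀.V J), φ x ∈ cj g (S₀.V J)

theorem psV_ne_bot {J : Set I₀} (hJ : J ≠ Set.univ) : S₀.V J ≠ ⊥ := by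
  intro h
  apply S₀.P_ne_top hJ
  rw [Subgroup.eq_top_iff']
  intro g
  obtain ⟨a, ha, b, hb, rfl⟩ := S₀.dec (J := J) (L := J) (g := g) (by rw [h]; exact bot_le)
  exact mul_mem ha hb

theorem cj_P_ne_top {J : Set I₀} (hJ : J ≠ Set.univ) (g : Y) : cj g (S₀.P J) ≠ ⊤ := by
  intro h1
  apply S₀.P_ne_top hJ
  rw [← cj_inv_cj g (S₀.P J), h1]
  exact Subgroup.map_top_of_surjective _ (MulAut.conj g⁻¹).surjective

theorem cj_V_ne_bot {J : Set I₀} (hJ : J ≠ Set.univ) (g : Y) : cj g (S₀.V J) ≠ ⊥ := by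
  intro h1
  apply psV_ne_bot S₀ hJ
  rw [← cj_inv_cj g (S₀.V J), h1]
  exact Subgroup.map_bot _

theorem P_le_norm {J : Set I₀} {g : Y} : cj g (S₀.P J) ≤ Subgroup.normalizer (cj g (S₀.V J) : Set Y) := by
  rintro _ ⟨a, ha, rfl⟩
  have h5 : cj a (S₀.V J) = S₀.V J := Cfsg.Agent.Nodes.Reps.mem_normalizer_iff_cj.1 (S₀.V_norm J ha)
  rw [Cfsg.Agent.Nodes.Reps.mem_normalizer_iff_cj]
  show cj (g * a * g⁻¹) (cj g (S₀.V J)) = _
  rw [← cj_mul, inv_mul_cancel_right, cj_mul, h5]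

/-- canonical Borel–Tits from Borel–Tits -/
theorem canV_of_bt [Finite Y] [Fact p.Prime]
    (hBT : ∀ Q : Subgroup Y, IsPGroup p Q → Q ≠ ⊥ → ∃ (g : Y) (J : Set I₀), J ≠ Set.univ ∧ Q ≤ cj g (S₀.V J) ∧
      Subgroup.normalizer (Q : Set Y) ≤ cj g (S₀.P J)) : CanV S₀ := by
  classical
  intro D hp h1
  obtain ⟨Q, ⟨hQ1, hQ2, hQ3⟩, hmax⟩ := Set.exists_max_image {Q : Subgroup Y | D ≤ Q ∧ IsPGroup p Q ∧
      ∀ φ : MulAut Y, H459.Gallery.Iv φ D → H459.Gallery.Iv φ Q}
    (fun Q => Nat.card Q) (Set.toFinite _) ⟨D, le_rfl, hp, fun φ hφ => hφ⟩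
  have hQne : Q ≠ ⊥ := fun h2 => h1 (le_bot_iff.1 (h2 ▸ hQ1))
  set N := Subgroup.normalizer (Q : Set Y) with hNd
  have hNφ : ∀ φ : MulAut Y, H459.Gallery.Iv φ D → H459.Gallery.Iv φ N := fun φ hφ =>
    H470.EPK.iv_normalizer (hQ3 φ hφ)
  have hQN : Q ≤ N := Subgroup.le_normalizer
  have hQO : Q ≤ (pCore p ↥N).map N.subtype :=
    le_core hQN (fun g hg a ha => (Subgroup.mem_normalizer_iff.1 hg a).1 ha) hQ2
  have hOQ : (pCore p ↥N).map N.subtype = Q := by
    refine (Subgroup.eq_of_le_of_card_ge hQO (hmax _ ⟨hQ1.trans hQO,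
      (Lib.Cores.pCore_isPGroup (G := N) p).map _, fun φ hφ => H459.RgdRad.iv_core (hNφ φ hφ)⟩)).symm
  obtain ⟨g, J, hJ, h3, h4⟩ := hBT Q hQ2 hQne
  set V := cj g (S₀.V J) with hV
  have hVp : IsPGroup p V := (S₀.V_p J).map _
  have hPV : cj g (S₀.P J) ≤ Subgroup.normalizer (V : Set Y) := P_le_norm S₀
  have hVQ : V = Q := by
    by_contra hne
    have h5 := SmallSimple.SylowMaxInter.lt_inf_normalizer hVp (lt_of_le_of_ne h3 (Ne.symm hne))
    have h6 : V ⊓ N ≤ Q := by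
      rw [← hOQ]
      refine le_core inf_le_right (fun k hk v hv => ⟨?_, N.mul_mem (N.mul_mem hk hv.2) (N.inv_mem hk)⟩)
        (hVp.to_le inf_le_left)
      exact (Subgroup.mem_normalizer_iff.1 (hPV (h4 hk)) v).1 hv.1
    exact lt_irrefl _ (lt_of_lt_of_le h5 h6)
  refine ⟨J, g, hJ, ?_, ?_⟩
  · rw [← hV, hVQ]; exact hQ1
  · intro φ hφ
    rw [← hV, hVQ]; exact hQ3 φ hφ

/-- a maximal core free subgroup `H` of a group `G` with normal subgroup `Y`: `H ∩ Y` does not contain `V_J^g` -/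
theorem not_V_le [Finite Y] [Fact p.Prime] {G : Type*} [Group G] [Finite G] {j : Y →* G}
    (hj : Function.Injective j) (hn : j.range.Normal) {H : Subgroup G} (hmax : IsCoatom H)
    (hcore : ¬ j.range ≤ H) (hOp : ∀ K ≤ H, (∀ g ∈ H, ∀ k ∈ K, g * k * g⁻¹ ∈ K) → IsPGroup p K → K = ⊥)
    {J : Set I₀} (hJ : J ≠ Set.univ) {g : Y} (hV : cj g (S₀.V J) ≤ H.comap j) : False := by
  classical
  set K := H.comap j with hK
  have hKtop : K ≠ ⊤ := by
    intro h1
    apply hcore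
    rintro _ ⟨y, rfl⟩
    have : y ∈ K := by rw [h1]; exact Subgroup.mem_top _
    exact this
  obtain ⟨J', g', hJ', h2, h3⟩ := S₀.canon hKtop hJ hV
  set Q := cj g' (S₀.P J') with hQ
  have hinv : ∀ a ∈ H, ∀ y ∈ K, ∀ φ : MulAut Y, (∀ y, j (φ y) = a * j y * a⁻¹) → φ y ∈ K := by
    intro a ha y hy φ hφ
    show j (φ y) ∈ H
    rw [hφ]
    exact mul_mem (mul_mem ha hy) (inv_mem ha)
  have hQH : ∀ a ∈ H, ∀ x ∈ Q, ∃ x' ∈ Q, a * j x * a⁻¹ = j x' := by
    intro a ha x hx
    obtain ⟨φ, hφ⟩ := exists_conj hj hn a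
    exact ⟨φ x, h3 φ (fun y hy => hinv a ha y hy φ hφ) x hx, (hφ x).symm⟩
  -- the product
  let L : Subgroup G :=
    { carrier := {y | ∃ a ∈ H, ∃ x ∈ Q, y = a * j x}
      one_mem' := ⟨1, one_mem _, 1, one_mem _, by rw [map_one, mul_one]⟩
      mul_mem' := by
        rintro _ _ ⟨a, ha, x, hx, rfl⟩ ⟨b, hb, y, hy, rfl⟩
        obtain ⟨x', hx', e⟩ := hQH b⁻¹ (inv_mem hb) x hx
        refine ⟨a * b, mul_mem ha hb, x' * y, mul_mem hx' hy, ?_⟩
        rw [map_mul, ← e]
        group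
      inv_mem' := by
        rintro _ ⟨a, ha, x, hx, rfl⟩
        obtain ⟨x', hx', e⟩ := hQH a ha x⁻¹ (inv_mem hx)
        refine ⟨a⁻¹, inv_mem ha, x', hx', ?_⟩
        rw [← e, map_inv]
        group }
  have hHL : H ≤ L := fun a ha => ⟨a, ha, 1, one_mem _, by rw [map_one, mul_one]⟩
  rcases hHL.lt_or_eq with h4 | h4
  · have h5 : L = ⊤ := hmax.2 L h4
    apply cj_P_ne_top S₀ hJ' g'
    rw [Subgroup.eq_top_iff']
    intro y
    have h6 : j y ∈ L := by rw [h5]; exact Subgroup.mem_top _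
    obtain ⟨a, ha, x, hx, e⟩ := h6
    have h7 : y * x⁻¹ ∈ K := by
      show j (y * x⁻¹) ∈ H
      rw [map_mul, map_inv, e, mul_inv_cancel_right]
      exact ha
    have h8 := mul_mem (h2 h7) hx
    rwa [inv_mul_cancel_right] at h8
  · have h5 : Q ≤ K := by
      intro x hx
      have h6 : j x ∈ L := ⟨1, one_mem _, x, hx, by rw [one_mul]⟩
      rw [← h4] at h6
      exact h6
    set V := cj g' (S₀.V J') with hVd
    have hVQ : V ≤ Q := Subgroup.map_mono (S₀.V_le J')
    have hVp : IsPGroup p V := (S₀.V_p J').map _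
    have hVO : V ≤ (pCore p ↥K).map K.subtype := by
      refine le_core (hVQ.trans h5) (fun x hx v hv => ?_) hVp
      have hxQ : x ∈ Q := h2 hx
      exact (Subgroup.mem_normalizer_iff.1 (P_le_norm S₀ hxQ) v).1 hv
    set O : Subgroup Y := (pCore p ↥K).map K.subtype with hO
    have hOp' : IsPGroup p O := (Lib.Cores.pCore_isPGroup (G := K) p).map _
    have hOK : O ≤ K := by
      rintro _ ⟨y, _, rfl⟩
      exact y.2
    have h6 := hOp (O.map j) (by
      rintro _ ⟨y, hy, rfl⟩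
      exact hOK hy) (by
      rintro a ha _ ⟨y, hy, rfl⟩
      obtain ⟨φ, hφ⟩ := exists_conj hj hn a
      rw [← hφ]
      exact ⟨φ y, H459.RgdRad.iv_core (fun z hz => hinv a ha z hz φ hφ) y hy, rfl⟩) (hOp'.map _)
    rw [Subgroup.map_eq_bot_iff_of_injective _ hj] at h6
    exact cj_V_ne_bot S₀ hJ' g' (le_bot_iff.1 (h6 ▸ hVO))

/-- the `p`-group `QQ` above `D` -/
theorem exists_QQ' [Finite Y] [Fact p.Prime] (hcan : CanV S₀) {G : Type*} [Group G] [Finite G] {j : Y →* G}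
    (hj : Function.Injective j) (hn : j.range.Normal) {H : Subgroup G} (hmax : IsCoatom H)
    (hcore : ¬ j.range ≤ H) (hOp : ∀ K ≤ H, (∀ g ∈ H, ∀ k ∈ K, g * k * g⁻¹ ∈ K) → IsPGroup p K → K = ⊥)
    {D P : Subgroup G} (hDj : D ≤ j.range) (hDp : IsPGroup p D) (hD1 : D ≠ ⊥) (hDH : D ≤ H)
    (hPH : P ≤ H) (hDn : ∀ g ∈ P, ∀ d ∈ D, g * d * g⁻¹ ∈ D)
    (hDmax : ∀ S : Subgroup G, IsPGroup p S → S ≤ H → S ≤ j.range → (∀ g ∈ P, ∀ s ∈ S, g * s * g⁻¹ ∈ S) → S ≤ D) :
    ∃ Q : Subgroup G, IsPGroup p Q ∧ Q ≤ j.range ∧ (∀ g ∈ P, ∀ w ∈ Q, g * w * g⁻¹ ∈ Q) ∧ D ≤ Q ∧ Q ⊓ H = D ∧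
      Q ≠ D := by
  classical
  have hD' : D = (D.comap j).map j := by
    rw [Subgroup.map_comap_eq, inf_eq_right.2 hDj]
  have hD1' : D.comap j ≠ ⊥ := fun h1 => hD1 (by rw [hD', h1, Subgroup.map_bot])
  have hDp' : IsPGroup p (D.comap j) := hDp.comap_of_injective j hj
  obtain ⟨J, g, hJ, h1, h2⟩ := hcan _ hDp' hD1'
  set V := cj g (S₀.V J) with hV
  have hVp : IsPGroup p V := (S₀.V_p J).map _
  have hDV : D ≤ V.map j := by
    rw [hD']
    exact Subgroup.map_mono h1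
  have hn' : ∀ g ∈ P, ∀ w ∈ V.map j, g * w * g⁻¹ ∈ V.map j := by
    rintro a ha _ ⟨y, hy, rfl⟩
    obtain ⟨φ, hφ⟩ := exists_conj hj hn a
    rw [← hφ]
    refine ⟨φ y, h2 φ (fun z hz => ?_) y hy, rfl⟩
    show j (φ z) ∈ D
    rw [hφ]
    exact hDn a ha _ hz
  refine ⟨V.map j, hVp.map _, ?_, hn', hDV, ?_, ?_⟩
  · rintro _ ⟨y, _, rfl⟩
    exact ⟨y, rfl⟩
  · apply le_antisymm
    · refine hDmax _ ((hVp.map j).to_le inf_le_left) inf_le_right ?_ ?_
      · rintro _ ⟨⟨y, _, rfl⟩, _⟩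
        exact ⟨y, rfl⟩
      · rintro a ha w ⟨hw1, hw2⟩
        exact ⟨hn' a ha w hw1, H.mul_mem (H.mul_mem (hPH ha) hw2) (H.inv_mem (hPH ha))⟩
    · exact le_inf hDV hDH
  · intro h3
    refine not_V_le S₀ hj hn hmax hcore hOp hJ (g := g) ?_
    intro v hv
    have h4 : j v ∈ V.map j := ⟨v, hv, rfl⟩
    rw [h3] at h4
    exact hDH h4

/-- `D = O_p(P ∩ Y)`, `P = PH H e S J` -/
theorem exists_DQ' [Finite Y] [Fact p.Prime] (hcan : CanV S₀) {G : Type*} [Group G] [Finite G] {j : Y →* G}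
    (hj : Function.Injective j) (hn : j.range.Normal) {H : Subgroup G} (hmax : IsCoatom H)
    (hcore : ¬ j.range ≤ H) (hOp : ∀ K ≤ H, (∀ g ∈ H, ∀ k ∈ K, g * k * g⁻¹ ∈ K) → IsPGroup p K → K = ⊥)
    {N : Subgroup G} {Z I' : Type*} [Group Z] [Finite Z] {k : ℕ} (e : N ≃* (Fin k → Z)) (S : PSys Z p I')
    (hNH : N ≤ H) (hNn : ∀ g ∈ H, ∀ n ∈ N, g * n * g⁻¹ ∈ N) (hNj : N ≤ j.range)
    (J : Fin k → Set I') (hV : VV e S J ≠ ⊥) :
    ∃ D Q : Subgroup G, VV e S J ≤ D ∧ D ≤ PH H e S J ∧ D ≤ j.range ∧ IsPGroup p D ∧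
      (∀ g ∈ PH H e S J, ∀ d ∈ D, g * d * g⁻¹ ∈ D) ∧ IsPGroup p Q ∧
      (∀ g ∈ PH H e S J, ∀ w ∈ Q, g * w * g⁻¹ ∈ Q) ∧ D ≤ Q ∧ Q ⊓ H = D ∧ Q ≠ D := by
  classical
  have hPP : PP e S J ≤ PH H e S J := PP_le_PH e S hNH J
  set P := PH H e S J with hP
  set P₁ : Subgroup G := P ⊓ j.range with hP₁
  have hP₁n : ∀ g ∈ P, ∀ x ∈ P₁, g * x * g⁻¹ ∈ P₁ := fun g hg x hx =>
    ⟨P.mul_mem (P.mul_mem hg hx.1) (P.inv_mem hg), hn.conj_mem x hx.2 g⟩
  set D : Subgroup G := (pCore p ↥P₁).map P₁.subtype with hD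
  have hDP₁ : D ≤ P₁ := by
    rintro _ ⟨y, _, rfl⟩
    exact y.2
  have hDp : IsPGroup p D := (Lib.Cores.pCore_isPGroup (G := P₁) p).map _
  have hDn : ∀ g ∈ P, ∀ d ∈ D, g * d * g⁻¹ ∈ D := fun g hg d hd =>
    H459.RgdRad.iv_core (x := MulAut.conj g) (N := P₁) (fun x hx => hP₁n g hg x hx) d hd
  have hVD : VV e S J ≤ D := by
    refine le_core (N := P₁) (le_inf ((VV_le_PP e S J).trans hPP) ((VV_le e S J).trans hNj))
      (fun g hg a ha => PH_nm_VV e S hg.1 ha) (VV_isPGroup e S J)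
  have hD1 : D ≠ ⊥ := fun h1 => hV (le_bot_iff.1 (h1 ▸ hVD))
  obtain ⟨Q, h1, -, h2, h3, h4, h5⟩ := exists_QQ' S₀ hcan hj hn hmax hcore hOp (D := D)
    (P := P) (hDP₁.trans inf_le_right) hDp hD1 (hDP₁.trans (inf_le_left.trans inf_le_left)) inf_le_left
    hDn (fun E hE hEH hEj hEn => by
      -- `E ∩ N ≤ V_J`
      have hEN : E ⊓ N ≤ VV e S J := by
        have hEn' : ∀ g ∈ P, ∀ d ∈ E ⊓ N, g * d * g⁻¹ ∈ E ⊓ N := fun g hg d hd =>
          ⟨hEn g hg d hd.1, hNn g (inf_le_left (a := H) hg) d hd.2⟩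
        have hUD : VV e S (fun _ => ∅) ≤ Subgroup.normalizer ((E ⊓ N : Subgroup G) : Set G) := by
          intro u hu
          have huP : u ∈ P := hPP (VV_le_PP' e S _ J hu)
          rw [Cfsg.Agent.Nodes.Reps.mem_normalizer_iff_cj]
          apply Subgroup.eq_of_le_of_card_ge
          · rintro _ ⟨d, hd, rfl⟩
            exact hEn' u huP d hd
          · exact (H284.card_cj u (E ⊓ N)).ge
        have h6 : IsPGroup p (VV e S (fun _ => ∅) ⊔ (E ⊓ N) : Subgroup G) :=
          (VV_isPGroup e S _).to_sup_of_normal_right' (hE.to_le inf_le_left) hUD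
        have h7 := UU_max e S (sup_le (VV_le e S _) inf_le_right) h6 le_sup_left
        have h8 : E ⊓ N ≤ VV e S (fun _ => ∅) := by rw [← h7]; exact le_sup_right
        exact VV_max e S (h8.trans (VV_le_PP' e S _ J)) (hE.to_le inf_le_left) fun g hg d hd => hEn' g (hPP hg) d hd
      -- `E ≤ P`
      have hEP : E ≤ P := by
        intro s hs
        have hsH := hEH hs
        refine (mem_PH e S).2 ⟨hsH, ?_⟩
        apply Subgroup.eq_of_le_of_card_ge
        · rintro _ ⟨u, hu, rfl⟩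
          have hu' := hPP hu
          have huN := PP_le e S J hu
          have h6 : s * (u * s⁻¹ * u⁻¹) ∈ E ⊓ N := by
            refine ⟨E.mul_mem hs (hEn u hu' _ (E.inv_mem hs)), ?_⟩
            have e1 : s * (u * s⁻¹ * u⁻¹) = s * u * s⁻¹ * u⁻¹ := by group
            rw [e1]
            exact N.mul_mem (hNn s hsH u huN) (N.inv_mem huN)
          have h7 := (PP e S J).mul_mem (VV_le_PP e S J (hEN h6)) hu
          have e2 : s * (u * s⁻¹ * u⁻¹) * u = s * u * s⁻¹ := by group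
          rw [e2] at h7
          exact h7
        · exact (H284.card_cj s _).ge
      exact le_core (N := P₁) (le_inf hEP hEj) (fun g hg a ha => hEn g hg.1 a ha) hE)
  exact ⟨D, Q, hVD, hDP₁.trans inf_le_left, hDP₁.trans inf_le_right, hDp, hDn, h1, h2, h3, h4, h5⟩

/-- **the `G`-side over a parabolic system** -/
theorem dq_ps [Finite Y] [Fact p.Prime] (hcan : CanV S₀) {G : Type*} [Group G] [Finite G] {H N : Subgroup G}
    {T : Type} [Group T] [Finite T] {k : ℕ} {e : N ≃* (Fin k → T)} (h : EPS H N e)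
    {j : Y →* G} (hj : Function.Injective j) (hn : j.range.Normal) (hNj : N ≤ j.range) {I : Type*} (S : PSys T p I)
    (e' : N ≃* (Fin k → T)) (J : Fin k → Set I) (hJ : VV e' S J ≠ ⊥) : DQ H e' S J := by
  obtain ⟨D, Q, h1, h2, h3, h4, h5, h6, h7, h8, h9, h10⟩ := exists_DQ' S₀ hcan hj hn h.ep.max
    (eps_core h hn hNj) (fun K hK hKn hKp => eps_Op h hK hKn hKp) e' S h.le h.nrm hNj J hJ
  exact ⟨D, Q, h1, h2, h4, h5, h6, h7, h8, h9, h10⟩

end PS

end Cfsg.Agent.H424.EPX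
end

-- part: H424/EPX/OwnG
section
/-!
# S5745, own characteristic, `G = ²F₄(q)` (helper424; Borel–Tits by helper564)

`HasCan p G` : `G` has, up to isomorphism, a parabolic system with canonical Borel–Tits.

* `hasCan_TF4` : `G = ²F₄(q)`, `q ≥ 8`;
* `HasCan.dq` : the `G`-side, `EPS H N e ⊢ DQ H e' S J`;
* `HasCan.own_ps`, `HasCan.own_filtC`, `HasCan.own_TF4`, `HasCan.own_r1` : socles with a parabolic system of rank at least
  two; with a filtered root group datum, all simple root groups of order at least three; `²F₄(q)`; of rank one, `k = 1`;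
* `own_G` : `Own 2 G` for `G = ²F₄(q)`, from the two remaining cells.
-/

set_option autoImplicit false
set_option linter.unusedSectionVars false

namespace Cfsg.Agent.H424.EPX

open Cfsg.Agent.H284 Cfsg.Agent.H737.EPO Cfsg.Agent.H470.EPO Cfsg.Agent.H209.EPX
open Cfsg.Agent.KFacts.RgdFilt Cfsg.Agent.H284.Pan
open Cfsg.Agent.KFacts.TwF4 Cfsg.Agent.KFacts.TwF4.SylU Cfsg.Agent.ChevalleyStructure.TwF4.TwistedFix
open Cfsg.Agent.H564.EPF

/-- `G` has, up to isomorphism, a parabolic system with canonical Borel–Tits -/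
def HasCan (p : ℕ) (G : Type*) [Group G] : Prop :=
  ∃ (Y : Type) (_ : Group Y) (_ : Finite Y) (I₀ : Type) (S₀ : PSys Y p I₀) (_ : Y ≃* G), CanV S₀

/-- **`²F₄(q)` has a parabolic system with canonical Borel–Tits.** -/
theorem hasCan_TF4 {G : Type*} [Group G] (hG : Cfsg.Lie.Iso2F4 G) : HasCan 2 G := by
  obtain ⟨K, _, _, m, hm, hK, ⟨f⟩⟩ := hG
  have : CharP K 2 := Cfsg.Agent.ChevalleyStructure.TwF4.Twisted.charP_two hK
  obtain ⟨φ, hφ⟩ := exists_rln hK
  have hfin : Finite (GL Lie.chevF4.Idx K) := inferInstance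
  have hfin' : Finite ↥(Lie.twistedF4 K (2 ^ m)) := inferInstance
  have h8 : 8 ≤ Fintype.card K := by
    rw [hK]
    calc 8 = 2 ^ 3 := by norm_num
      _ ≤ 2 ^ (2 * m + 1) := Nat.pow_le_pow_right (by norm_num) (by omega)
  obtain ⟨c, hc0, hc1⟩ : ∃ c : K, c ≠ 0 ∧ c ≠ 1 := by
    classical
    by_contra hcon
    push Not at hcon
    have h3 : (Finset.univ : Finset K) ⊆ {0, 1} := by
      intro x _
      by_cases hx : x = 0
      · simp only [hx, _root_.Finset.mem_insert, _root_.Finset.mem_singleton, _root_.zero_ne_one, _root_.or_false]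
      · simp only [hcon x hx, _root_.Finset.mem_insert, _root_.one_ne_zero, _root_.Finset.mem_singleton, _root_.or_true]
    have h4 := (Finset.card_le_card h3).trans (Finset.card_le_two)
    rw [Finset.card_univ] at h4
    omega
  have hF : ∃ c : Kˣ, c ≠ 1 := ⟨Units.mk0 c hc0, fun h => hc1 (by simpa using congrArg Units.val h)⟩
  let S := Cfsg.Agent.KFacts.TwF4.Inst.full hK hφ
  obtain ⟨P, hP⟩ := exists_sylow S hF rfl
  let D : OD ↥(Lie.twistedF4 K (2 ^ m)) := ofFull S (opp hK hφ)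
  have hU : D.U = (P : Subgroup ↥(Lie.twistedF4 K (2 ^ m))) := hP.symm
  have h2 : IsPGroup 2 D.U := by rw [hU]; exact P.isPGroup'
  have hs : ∀ R : Subgroup ↥(Lie.twistedF4 K (2 ^ m)), D.U ≤ R → IsPGroup 2 R → R = D.U := by
    intro R hR hR2
    rw [hU] at hR ⊢
    exact P.is_maximal' hR2 hR
  have hfact : Fact (Nat.Prime 2) := ⟨Nat.prime_two⟩
  refine ⟨↥(Lie.twistedF4 K (2 ^ m)), inferInstance, hfin', Fin 2, D.psys h2 hs, f.symm, canV_of_bt _ fun Q hQ hQ1 => ?_⟩
  obtain ⟨g₀, h₀⟩ := OD.exists_le_cj h2 hs hQ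
  exact OD.bt hQ1 h₀

section EPS

variable {G : Type*} [Group G] [Finite G] {p : ℕ} [Fact p.Prime] (hG : HasCan p G) {H N : Subgroup G} {T : Type}
  [Group T] {k : ℕ} {e : N ≃* (Fin k → T)} (h : EPS H N e)

include hG h

/-- **the `G`-side** -/
theorem HasCan.dq [Finite T] {I : Type*} (S : PSys T p I) (e' : N ≃* (Fin k → T)) (J : Fin k → Set I)
    (hJ : VV e' S J ≠ ⊥) : DQ H e' S J := by
  obtain ⟨Y, _, _, I₀, S₀, f, hcan⟩ := hG
  have hr : (f : Y →* G).range = ⊤ := MonoidHom.range_eq_top.2 f.surjective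
  exact dq_ps S₀ hcan h (j := (f : Y →* G)) f.injective (by rw [hr]; infer_instance) (by rw [hr]; exact le_top)
    S e' J hJ

end EPS

end Cfsg.Agent.H424.EPX
end

-- part: H451/EPX/R1Sz
section
/-!
# S5745, own characteristic, rank one: the Suzuki groups (helper451)

`r1 hm hF : R1 2 (Cfsg.Sz F m)` and `hyp hm hF : (r1 hm hF).Hyp` for helper470's interface `H470/EPO/R1.lean`.
-/

set_option autoImplicit false
set_option linter.unusedSectionVars false

namespace Cfsg.Agent.H451.EPX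

open scoped MatrixGroups Matrix Pointwise
open Matrix MulAction
open Cfsg.Agent.LieExceptional
open Cfsg.Agent.LieExceptional.SuzukiBasic Cfsg.Agent.LieExceptional.SuzukiSylow
open Cfsg.Agent.LieExceptional.SuzukiCN Cfsg.Agent.H98.SzBasic Cfsg.Agent.H98.SzPartition
open Cfsg.Agent.H284 Cfsg.Agent.H470.EPO

variable {F : Type*} [Field F] [Fintype F] {m : ℕ}

/-- the stabiliser of infinity -/
def Bst (F : Type*) [Field F] (m : ℕ) : Subgroup (Cfsg.Sz F m) := MulAction.stabilizer (Cfsg.Sz F m) (inf F m)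

theorem mem_Bst {g : Cfsg.Sz F m} : g ∈ Bst F m ↔ g • inf F m = inf F m := Iff.rfl

theorem mem_cj_Bst (hF : Fintype.card F = 2 ^ (2 * m + 1)) {g : Cfsg.Sz F m} :
    g ∈ cj (w hF) (Bst F m) ↔ g • zer F m = zer F m := by
  rw [mem_cj, mem_Bst, w_inv, mul_smul, mul_smul, w_smul_inf]
  constructor
  · intro h
    have := congrArg (fun p => w hF • p) h
    simp only [smul_smul] at this
    rw [w_smul_inf, ← mul_assoc, w_mul_w, one_mul] at this
    exact this
  · intro h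
    rw [h, w_smul_zer]

/-- the rank one data of the Suzuki group -/
noncomputable def r1 (hm : 1 ≤ m) (hF : Fintype.card F = 2 ^ (2 * m + 1)) : R1 2 (Cfsg.Sz F m) where
  U := Q hF
  B := Bst F m
  w := w hF
  nU := by
    ext g
    rw [mem_Bst, ← smul_sylowQ_eq_iff hm hF, Sylow.smul_eq_iff_mem_normalizer]
    have hQ : ((sylowQ hm hF : Subgroup (Cfsg.Sz F m)) : Set (Cfsg.Sz F m)) = (Q hF : Set (Cfsg.Sz F m)) := by
      rw [coe_sylowQ hm hF]
    show g ∈ Subgroup.normalizer (Q hF : Set (Cfsg.Sz F m)) ↔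
      g ∈ Subgroup.normalizer ((sylowQ hm hF : Subgroup (Cfsg.Sz F m)) : Set (Cfsg.Sz F m))
    rw [hQ]
  pU := isPGroup_Q hF
  mU := by
    intro S hS hp
    have h := (sylowQ hm hF).is_maximal' hp (by rw [coe_sylowQ]; exact hS)
    rw [h, coe_sylowQ]
  wB := by
    intro h
    rw [mem_Bst, w_smul_inf] at h
    exact zer_ne_inf h
  ww := by
    rw [w_mul_w]
    exact Subgroup.one_mem _
  tr := by
    intro g hg
    rcases bruhat' hm hF g with ⟨a, b, k, rfl⟩ | ⟨a, b, k, c, d, rfl⟩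
    · exfalso
      apply hg
      rw [mem_Bst, mul_smul, h_smul_inf, u_smul_inf]
    · refine ⟨u hF a b, ⟨a, b, rfl⟩, h hF k * u hF c d, ?_, by group⟩
      rw [mem_Bst, mul_smul, u_smul_inf, h_smul_inf]
  ti := by
    rw [eq_bot_iff]
    rintro g ⟨⟨a, b, rfl⟩, h2⟩
    replace h2 := (mem_cj_Bst hF).1 h2
    by_contra h3
    have h4 : ¬ (a = 0 ∧ b = 0) := by
      rintro ⟨rfl, rfl⟩
      exact h3 (by rw [u_zero_zero]; exact Subgroup.one_mem _)
    exact zer_ne_inf (u_fix hF h4 h2)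

section

variable (hm : 1 ≤ m) (hF : Fintype.card F = 2 ^ (2 * m + 1))

theorem r1_T0 : (r1 hm hF).T0 = T hF := by
  ext g
  show g ∈ Bst F m ⊓ cj (w hF) (Bst F m) ↔ _
  rw [Subgroup.mem_inf, mem_cj_Bst, mem_Bst, mem_T_iff]
  constructor
  · rintro ⟨h1, h2⟩
    obtain ⟨k, hk⟩ := eq_h hm hF h1 h2
    exact ⟨k, hk.symm⟩
  · rintro ⟨k, rfl⟩
    exact ⟨h_smul_inf hF k, h_smul_zer hF k⟩

include hF in
theorem char_two : CharP F 2 := by
  obtain ⟨p, hp⟩ := CharP.exists F
  have hp' : p.Prime := CharP.char_is_prime F p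
  have h1 : p ∣ Fintype.card F := by
    have := FiniteField.card' F
    obtain ⟨n, hpr, hn⟩ := FiniteField.card F p
    rw [hn]
    exact dvd_pow_self _ n.pos.ne'
  rw [hF] at h1
  have := (Nat.prime_dvd_prime_iff_eq hp' Nat.prime_two).1 (hp'.dvd_of_dvd_pow h1)
  rwa [this] at hp

include hm hF in
theorem eight_le : 8 ≤ Fintype.card F := by
  rw [hF]
  calc 8 = 2 ^ 3 := by norm_num
    _ ≤ _ := Nat.pow_le_pow_right (by norm_num) (by omega)

include hm hF in
/-- an element `c ≠ 0, 1` with `c² + c + 1 ≠ 0` -/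
theorem exists_c : ∃ c : F, c ≠ 0 ∧ c ≠ 1 ∧ c ^ 2 + c + 1 ≠ 0 := by
  classical
  have := char_two hF
  by_contra hcon
  push Not at hcon
  have h8 := eight_le hm hF
  -- all elements other than 0, 1 are roots of X² + X + 1
  have h1 : (Finset.univ : Finset F).card ≤ 4 := by
    have h2 : (Finset.univ : Finset F) ⊆ {0, 1} ∪ ((Polynomial.X ^ 2 + Polynomial.X + 1 : Polynomial F).roots.toFinset) := by
      intro c _
      by_cases h3 : c = 0
      · simp only [h3, _root_.Finset.insert_union, _root_.Finset.singleton_union, _root_.Finset.mem_insert, _root_.zero_ne_one, _root_.Multiset.mem_toFinset, _root_.Polynomial.mem_roots', _root_.ne_eq, _root_.Polynomial.IsRoot.def, _root_.Polynomial.eval_add, _root_.Polynomial.eval_pow, _root_.Polynomial.eval_X, _root_.OfNat.ofNat_ne_zero, _root_.not_false_eq_true, _root_.zero_pow, _root_.add_zero, _root_.Polynomial.eval_one, _root_.zero_add, _root_.one_ne_zero, _root_.and_false, _root_.or_self,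 _root_.or_false]
      by_cases h4 : c = 1
      · simp only [h4, _root_.Finset.insert_union, _root_.Finset.singleton_union, _root_.Finset.mem_insert, _root_.one_ne_zero, _root_.Multiset.mem_toFinset, _root_.Polynomial.mem_roots', _root_.ne_eq, _root_.Polynomial.IsRoot.def, _root_.Polynomial.eval_add, _root_.Polynomial.eval_pow, _root_.Polynomial.eval_X, _root_.one_pow, _root_.Polynomial.eval_one, _root_.true_or, _root_.or_true]
      rw [Finset.mem_union]
      right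
      rw [Multiset.mem_toFinset, Polynomial.mem_roots]
      · simp only [Polynomial.IsRoot.def, Polynomial.eval_add, Polynomial.eval_pow, Polynomial.eval_X, Polynomial.eval_one]
        exact hcon c h3 h4
      · intro h5
        have := congrArg (fun f : Polynomial F => f.coeff 2) h5
        simp [Polynomial.coeff_X, Polynomial.coeff_one] at this
    calc (Finset.univ : Finset F).card ≤ _ := Finset.card_le_card h2
      _ ≤ ({0, 1} : Finset F).card + _ := Finset.card_union_le _ _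
      _ ≤ 2 + 2 := by
          apply add_le_add Finset.card_le_two
          refine (Multiset.toFinset_card_le _).trans ((Polynomial.card_roots' _).trans ?_)
          have : (Polynomial.X ^ 2 + Polynomial.X + 1 : Polynomial F) = Polynomial.C 1 * Polynomial.X ^ 2 + Polynomial.C 1 * Polynomial.X + Polynomial.C 1 := by
            simp
          rw [this]
          exact Polynomial.natDegree_quadratic_le
  rw [Finset.card_univ] at h1
  omega

theorem comm_h_u (k : Fˣ) (a b : F) : u hF a b * h hF k * (u hF a b)⁻¹ * (h hF k)⁻¹ =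
    u hF a b * u hF (k * a) ((k : F) ^ (2 ^ (m + 1) + 1) * (b + a ^ (2 ^ (m + 1) + 1))) := by
  rw [u_inv, mul_assoc (u hF a b), h_mul_u]
  group

theorem sigma_add [CharP F 2] (a b : F) (n : ℕ) : (a + b) ^ 2 ^ n = a ^ 2 ^ n + b ^ 2 ^ n := by
  have : Fact (Nat.Prime 2) := ⟨Nat.prime_two⟩
  exact add_pow_char_pow a b 2 n

theorem hyp_comm : ∀ X : Subgroup (Cfsg.Sz F m), X ≤ (r1 hm hF).U →
    (∀ u ∈ (r1 hm hF).U, ∀ t ∈ (r1 hm hF).T0, u * t * u⁻¹ * t⁻¹ ∈ X) → X = (r1 hm hF).U := by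
  intro X hX h
  have h2 := char_two hF
  have hh : ∀ (a b : F) (k : Fˣ), u hF a b * u hF (k * a) ((k : F) ^ (2 ^ (m + 1) + 1) * (b + a ^ (2 ^ (m + 1) + 1))) ∈ X := by
    intro a b k
    rw [← comm_h_u]
    apply h
    · exact ⟨a, b, rfl⟩
    · rw [r1_T0]; exact ⟨k, rfl⟩
  obtain ⟨c, hc0, hc1, -⟩ := exists_c hm hF
  obtain ⟨k, hk0, hk⟩ := exists_pow_sigma_add_one hF c hc0
  have hk1 : k ≠ 1 := by
    rintro rfl
    rw [one_pow] at hk
    exact hc1 hk.symm
  have hc1' : 1 + c ≠ 0 := by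
    intro h3
    apply hc1
    have := CharTwo.add_self_eq_zero (1 : F)
    linear_combination h3 - this
  have hk1' : 1 + k ≠ 0 := by
    intro h3
    apply hk1
    have := CharTwo.add_self_eq_zero (1 : F)
    linear_combination h3 - this
  have hz : ∀ b : F, u hF 0 b ∈ X := by
    intro b
    have h3 := hh 0 (b / (1 + c)) (Units.mk0 k hk0)
    rw [u_mul, Units.val_mk0, hk] at h3
    have e1 : (0 : F) + k * 0 = 0 := by ring
    have e2 : b / (1 + c) + c * (b / (1 + c) + 0 ^ (2 ^ (m + 1) + 1)) + 0 ^ 2 ^ (m + 1) * (k * 0) = b := by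
      rw [zero_pow (by positivity), zero_pow (by positivity)]
      field_simp
      ring
    rw [e1, e2] at h3
    exact h3
  apply le_antisymm hX
  rintro _ ⟨a, b, rfl⟩
  have h3 := hh (a / (1 + k)) 0 (Units.mk0 k hk0)
  rw [u_mul, Units.val_mk0] at h3
  set y : F := 0 + k ^ (2 ^ (m + 1) + 1) * (0 + (a / (1 + k)) ^ (2 ^ (m + 1) + 1)) + (a / (1 + k)) ^ 2 ^ (m + 1) * (k * (a / (1 + k))) with hy
  have e1 : a / (1 + k) + k * (a / (1 + k)) = a := by
    field_simp
  rw [e1] at h3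
  have h4 := X.mul_mem h3 (hz (b - y))
  rw [u_mul] at h4
  have e2 : a + 0 = a := add_zero a
  have e3 : y + (b - y) + a ^ 2 ^ (m + 1) * 0 = b := by ring
  rw [e2, e3] at h4
  exact h4

include hF in
theorem pow_sigma_inj {d : F} (h : d ^ (2 ^ (m + 1) + 1) = 1) : d = 1 := by
  have h0 : d ≠ 0 := by
    rintro rfl
    rw [zero_pow (by positivity)] at h
    exact zero_ne_one h
  have h1 : orderOf d ∣ 2 ^ (m + 1) + 1 := orderOf_dvd_of_pow_eq_one h
  have h2 : orderOf d ∣ 2 ^ (2 * m + 1) - 1 := by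
    apply orderOf_dvd_of_pow_eq_one
    rw [← hF]
    exact FiniteField.pow_card_sub_one_eq_one d h0
  have h3 : orderOf d ∣ 1 := by
    have e1 : (2 ^ (m + 1) - 1) * (2 ^ (m + 1) + 1) = 2 * (2 ^ (2 * m + 1) - 1) + 1 := by
      have h1 : 1 ≤ 2 ^ (m + 1) := Nat.one_le_two_pow
      have h2 : 1 ≤ 2 ^ (2 * m + 1) := Nat.one_le_two_pow
      have h3 : 2 ^ (m + 1) * 2 ^ (m + 1) = 2 * 2 ^ (2 * m + 1) := by
        rw [← pow_add, ← pow_succ']
        congr 1
        ring
      obtain ⟨s, hs⟩ := Nat.exists_eq_add_of_le h1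
      obtain ⟨t, ht⟩ := Nat.exists_eq_add_of_le h2
      rw [hs, ht] at h3
      rw [hs, ht]
      have h4 : 1 + s - 1 = s := by omega
      have h5 : 1 + t - 1 = t := by omega
      rw [h4, h5]
      linarith only [h3]
    have e2 : orderOf d ∣ 2 * (2 ^ (2 * m + 1) - 1) + 1 := by
      rw [← e1]
      exact h1.mul_left _
    exact (Nat.dvd_add_right (h2.mul_left 2)).1 e2
  exact orderOf_eq_one_iff.1 (Nat.dvd_one.1 h3)

theorem hyp_p2 : ∀ φ : MulAut (r1 hm hF).U, (∀ t ∈ (r1 hm hF).T0, ∀ u v : (r1 hm hF).U,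
    (v : Cfsg.Sz F m) = t * u * t⁻¹ →
    ((φ v : (r1 hm hF).U) : Cfsg.Sz F m) = t * (φ u : (r1 hm hF).U) * t⁻¹) → ∀ n : ℕ, φ ^ 2 ^ n = 1 → φ = 1 := by
  intro φ hφ n hn
  have h2 := char_two hF
  change MulAut (Q hF) at φ
  have hT : ∀ (k : Fˣ) (a b : F), ((φ (qu hF (k * a) ((k : F) ^ (2 ^ (m + 1) + 1) * b)) : Q hF) : Cfsg.Sz F m) =
      h hF k * (φ (qu hF a b) : Q hF) * (h hF k)⁻¹ := by
    intro k a b
    apply hφ (h hF k) (by rw [r1_T0]; exact ⟨k, rfl⟩) (qu hF a b) (qu hF (k * a) ((k : F) ^ (2 ^ (m + 1) + 1) * b))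
    show u hF _ _ = h hF k * u hF a b * (h hF k)⁻¹
    rw [h_mul_u, mul_inv_cancel_right]
  have hT' : ∀ (k : Fˣ) (a b c d : F), φ (qu hF a b) = qu hF c d →
      φ (qu hF (k * a) ((k : F) ^ (2 ^ (m + 1) + 1) * b)) = qu hF (k * c) ((k : F) ^ (2 ^ (m + 1) + 1) * d) := by
    intro k a b c d h3
    apply Subtype.ext
    rw [hT, h3]
    show h hF k * u hF c d * (h hF k)⁻¹ = u hF _ _
    rw [h_mul_u, mul_inv_cancel_right]
  -- the centre
  have hcen : ∀ b : F, ∃ c : F, φ (qu hF 0 b) = qu hF 0 c := by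
    intro b
    have h3 : qu hF 0 b ∈ Subgroup.center (Q hF) := (mem_center_Q_iff hm hF _).2 ⟨b, rfl⟩
    have h4 : φ (qu hF 0 b) ∈ Subgroup.center (Q hF) := by
      rw [Subgroup.mem_center_iff] at h3 ⊢
      intro g
      have := congrArg φ (h3 (φ⁻¹ g))
      rw [map_mul, map_mul, MulAut.apply_inv_self] at this
      exact this
    exact (mem_center_Q_iff hm hF _).1 h4
  obtain ⟨c, hc⟩ := hcen 1
  have hcb : ∀ b : F, φ (qu hF 0 b) = qu hF 0 (c * b) := by
    intro b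
    by_cases hb : b = 0
    · rw [hb, mul_zero, qu_zero_zero, map_one]
    obtain ⟨k, hk0, hk⟩ := exists_pow_sigma_add_one hF b hb
    have h3 := hT' (Units.mk0 k hk0) 0 1 0 c hc
    rw [Units.val_mk0, hk, mul_zero, mul_one] at h3
    rw [h3, mul_comm]
  have hiter : ∀ (j : ℕ) (b : F), (φ ^ j) (qu hF 0 b) = qu hF 0 (c ^ j * b) := by
    intro j
    induction j with
    | zero => intro b; simp
    | succ j ih =>
      intro b
      rw [pow_succ, MulAut.mul_apply, hcb, ih]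
      congr 1
      ring
  have hc1 : c = 1 := by
    have h3 := hiter (2 ^ n) 1
    have hn' : (φ ^ 2 ^ n) (qu hF 0 1) = qu hF 0 1 := by
      have := congrArg (fun ψ : MulAut (Q hF) => ψ (qu hF 0 1)) hn
      exact this
    rw [hn', qu_eq_iff, mul_one] at h3
    have h4 : c ^ 2 ^ n = 1 ^ 2 ^ n := by rw [one_pow, ← h3.2]
    have : Fact (Nat.Prime 2) := ⟨Nat.prime_two⟩
    exact iterateFrobenius_inj F 2 n (by simpa only [iterateFrobenius_def, _root_.one_pow] using h4)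
  rw [hc1] at hcb
  simp only [one_mul] at hcb
  obtain ⟨d, e, hde⟩ := exists_qu hF (φ (qu hF 1 0))
  have hgen : ∀ (k : Fˣ) (b : F), φ (qu hF k b) = qu hF (k * d) ((k : F) ^ (2 ^ (m + 1) + 1) * e + b) := by
    intro k b
    have h3 := hT' k 1 0 d e hde
    rw [mul_one, mul_zero] at h3
    have h4 : qu hF (k : F) b = qu hF (k : F) 0 * qu hF 0 b := by
      rw [qu_mul, qu_eq_iff]
      exact ⟨by ring, by ring⟩
    rw [h4, map_mul, h3, hcb, qu_mul, qu_eq_iff]
    exact ⟨by ring, by ring⟩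
  have hd : d = 1 := by
    have h3 := congrArg φ (qu_sq hF (1 : F) 0)
    rw [map_pow, hde, qu_sq, one_pow, hcb, qu_eq_iff] at h3
    have h4 : d ^ (2 ^ (m + 1) + 1) = 1 := by
      rw [pow_succ, h3.2, one_mul]
    exact pow_sigma_inj hF h4
  rw [hd] at hgen
  simp only [mul_one] at hgen
  obtain ⟨l, hl⟩ := exists_sigma_ne (F := F) hm hF
  have hl0 : l ≠ 0 := by
    rintro rfl
    exact hl (zero_pow (by positivity))
  have hl1 : 1 + l ≠ 0 := by
    intro h3
    apply hl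
    have h4 : l = 1 := by
      have := CharTwo.add_self_eq_zero (1 : F)
      linear_combination h3 - this
    rw [h4, one_pow]
  have he : e = 0 := by
    have h3 : qu hF (1 : F) 0 * qu hF l 0 = qu hF (1 + l) l := by
      rw [qu_mul, qu_eq_iff]
      exact ⟨rfl, by ring⟩
    have h4 := congrArg φ h3
    have g1 := hgen 1 0
    have g2 := hgen (Units.mk0 l hl0) 0
    have g3 := hgen (Units.mk0 (1 + l) hl1) l
    rw [Units.val_one, one_pow] at g1
    rw [Units.val_mk0] at g2 g3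
    rw [map_mul, g1, g2, g3, qu_mul, qu_eq_iff] at h4
    have h5 := h4.2
    have h6 : (1 + l) ^ (2 ^ (m + 1) + 1) = (1 + l ^ 2 ^ (m + 1)) * (1 + l) := by
      rw [pow_succ, sigma_add, one_pow]
    have h7 : l ^ (2 ^ (m + 1) + 1) = l ^ 2 ^ (m + 1) * l := pow_succ _ _
    rw [h6, h7, one_pow] at h5
    have h8 : e * (l ^ 2 ^ (m + 1) + l) = 0 := by
      linear_combination -h5
    rcases mul_eq_zero.1 h8 with h9 | h9
    · exact h9
    · exfalso
      apply hl
      have := CharTwo.add_self_eq_zero l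
      linear_combination h9 - this
  rw [he] at hgen
  simp only [mul_zero, zero_add] at hgen
  apply MulEquiv.ext
  intro g
  obtain ⟨a, b, hab⟩ := exists_qu hF g
  show φ g = g
  rw [hab]
  by_cases ha : a = 0
  · rw [ha]; exact hcb b
  · exact hgen (Units.mk0 a ha) b

/-- the fixed points of a torus element -/
theorem fix_h {k : Fˣ} (hk : k ≠ 1) {p : Cfsg.suzukiOvoid F m} (hp : h hF k • p = p) :
    p = inf F m ∨ p = zer F m := by
  rcases point_cases p with e | ⟨x, y, rfl⟩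
  · exact Or.inl e
  · right
    rw [h_smul_opt, opt_eq_iff] at hp
    have hk' : (k : F) ≠ 1 := fun e => hk (Units.ext e)
    have hx : x = 0 := by
      have h1 : ((k : F) - 1) * x = 0 := by linear_combination hp.1
      rcases mul_eq_zero.1 h1 with h2 | h2
      · exact (hk' (sub_eq_zero.1 h2)).elim
      · exact h2
    have hy : y = 0 := by
      have h1 : ((k : F) ^ (2 ^ (m + 1) + 1) - 1) * y = 0 := by linear_combination hp.2
      rcases mul_eq_zero.1 h1 with h2 | h2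
      · exact (hk' (pow_sigma_inj hF (sub_eq_zero.1 h2))).elim
      · exact h2
    rw [hx, hy, opt_zero_zero]

include hm hF in
theorem exists_k : ∃ k : Fˣ, k ≠ 1 := by
  obtain ⟨c, hc0, hc1, -⟩ := exists_c hm hF
  exact ⟨Units.mk0 c hc0, fun e => hc1 (congrArg Units.val e)⟩

/-- a point whose Sylow subgroup is normalised by the torus -/
theorem point_of_T {y : Cfsg.Sz F m} (hT : ∀ k : Fˣ, h hF k • (y • sylowQ hm hF) = y • sylowQ hm hF) :
    y • inf F m = inf F m ∨ y • inf F m = zer F m := by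
  obtain ⟨k, hk⟩ := exists_k hm hF
  apply fix_h hF hk
  have h1 := hT k
  have h2 : (y⁻¹ * h hF k * y) • sylowQ hm hF = sylowQ hm hF := by
    rw [mul_smul, mul_smul, h1, inv_smul_smul]
  rw [smul_sylowQ_eq_iff, mul_smul, mul_smul, inv_smul_eq_iff] at h2
  exact h2

theorem smul_sylow_eq_of {y z : Cfsg.Sz F m} (e : y • inf F m = z • inf F m) :
    y • sylowQ hm hF = z • sylowQ hm hF := by
  have h1 : (z⁻¹ * y) • sylowQ hm hF = sylowQ hm hF := by
    rw [smul_sylowQ_eq_iff, mul_smul, e, inv_smul_smul]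
  rw [mul_smul, inv_smul_eq_iff] at h1
  exact h1

theorem hyp_inv : ∀ φ : MulAut (Cfsg.Sz F m), (∀ t ∈ (r1 hm hF).T0, φ t = t) → ∀ b ∈ (r1 hm hF).B, φ b ∈ (r1 hm hF).B := by
  intro φ hφ
  have h2 := char_two hF
  have hfin := finite_ovoid F m
  have : Fact (Nat.Prime 2) := ⟨Nat.prime_two⟩
  have hT : ∀ k : Fˣ, φ (h hF k) = h hF k := fun k => hφ _ (by rw [r1_T0]; exact ⟨k, rfl⟩)
  obtain ⟨y, hy⟩ := MulAction.exists_smul_eq (Cfsg.Sz F m) (sylowQ hm hF) (φ • sylowQ hm hF)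
  have hmem : ∀ g : Cfsg.Sz F m, g ∈ Q hF → φ g ∈ ((y • sylowQ hm hF : Sylow 2 (Cfsg.Sz F m)) : Subgroup (Cfsg.Sz F m)) := by
    intro g hg
    rw [hy]
    show φ g ∈ φ • (sylowQ hm hF : Subgroup (Cfsg.Sz F m))
    rw [coe_sylowQ]
    exact Subgroup.smul_mem_pointwise_smul g φ (Q hF) hg
  have hcompat : ∀ g : Cfsg.Sz F m, g • sylowQ hm hF = sylowQ hm hF → φ g • (y • sylowQ hm hF) = y • sylowQ hm hF := by
    intro g hg
    rw [Sylow.smul_eq_iff_mem_normalizer] at hg
    rw [hy, Sylow.smul_eq_iff_mem_normalizer]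
    show φ g ∈ Subgroup.normalizer ((φ • (sylowQ hm hF : Subgroup (Cfsg.Sz F m)) : Subgroup (Cfsg.Sz F m)) : Set (Cfsg.Sz F m))
    have hg' : g ∈ Subgroup.normalizer ((sylowQ hm hF : Subgroup (Cfsg.Sz F m)) : Set (Cfsg.Sz F m)) := hg
    rw [Subgroup.mem_normalizer_iff]
    intro x
    have h3 := Subgroup.mem_normalizer_iff.1 hg' (φ⁻¹ x)
    rw [Subgroup.mem_pointwise_smul_iff_inv_smul_mem, Subgroup.mem_pointwise_smul_iff_inv_smul_mem]
    have e1 : φ⁻¹ • x = φ⁻¹ x := rfl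
    have e2 : φ⁻¹ • (φ g * x * (φ g)⁻¹) = g * φ⁻¹ x * g⁻¹ := by
      show φ⁻¹ (φ g * x * (φ g)⁻¹) = _
      rw [map_mul, map_mul, map_inv, MulAut.inv_apply_self]
    rw [e1, e2]
    exact h3
  have hTy : ∀ k : Fˣ, h hF k • (y • sylowQ hm hF) = y • sylowQ hm hF := by
    intro k
    have := hcompat (h hF k) ((smul_sylowQ_eq_iff hm hF _).2 (h_smul_inf hF k))
    rwa [hT] at this
  rcases point_of_T hm hF hTy with hp | hp
  · intro b hb
    have h3 : y • sylowQ hm hF = sylowQ hm hF := (smul_sylowQ_eq_iff hm hF y).2 hp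
    have h4 := hcompat b ((smul_sylowQ_eq_iff hm hF b).2 hb)
    rw [h3] at h4
    exact (smul_sylowQ_eq_iff hm hF _).1 h4
  · exfalso
    have h3 : y • sylowQ hm hF = w hF • sylowQ hm hF := smul_sylow_eq_of hm hF (by rw [hp, w_smul_inf])
    rw [h3] at hmem
    have hz : ∀ b : F, ∃ d : F, φ (u hF 0 b) = w hF * u hF 0 d * (w hF)⁻¹ := by
      intro b
      have h4 := hmem (u hF 0 b) ⟨0, b, rfl⟩
      rw [mem_smul_sylowQ_iff] at h4
      obtain ⟨a', b', h5⟩ := h4
      have h6 : φ (u hF 0 b) = w hF * u hF a' b' * (w hF)⁻¹ := by rw [← h5]; group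
      have h7 : φ (u hF 0 b) * φ (u hF 0 b) = 1 := by
        rw [← map_mul, u_mul]
        have e1 : (0 : F) + 0 = 0 := add_zero 0
        have e2 : b + b + 0 ^ 2 ^ (m + 1) * 0 = (0 : F) := by
          rw [mul_zero, add_zero, CharTwo.add_self_eq_zero]
        rw [e1, e2, u_zero_zero, map_one]
      have h8 : u hF a' b' * u hF a' b' = 1 := by
        rw [h6] at h7
        have h9 : w hF * u hF a' b' * (w hF)⁻¹ * (w hF * u hF a' b' * (w hF)⁻¹) =
          w hF * (u hF a' b' * u hF a' b') * (w hF)⁻¹ := by group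
        rw [h9] at h7
        exact conj_eq_one_iff.1 h7
      rw [u_mul, ← u_zero_zero hF, u_eq_iff] at h8
      have h9 : a' ^ 2 ^ (m + 1) * a' = 0 := by
        have := h8.2
        rwa [CharTwo.add_self_eq_zero, zero_add] at this
      have h10 : a' = 0 := by
        rcases mul_eq_zero.1 h9 with h11 | h11
        · exact (pow_eq_zero_iff (by positivity)).1 h11
        · exact h11
      exact ⟨b', by rw [h6, h10]⟩
    have hinj : ∀ b d : F, w hF * u hF 0 b * (w hF)⁻¹ = w hF * u hF 0 d * (w hF)⁻¹ → b = d := by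
      intro b d h4
      have h5 : u hF 0 b = u hF 0 d := by
        have := mul_right_cancel h4
        exact mul_left_cancel this
      exact ((u_eq_iff hF _ _ _ _).1 h5).2
    obtain ⟨e, he⟩ := hz 1
    have he0 : e ≠ 0 := by
      rintro rfl
      rw [u_zero_zero, mul_one, mul_inv_cancel] at he
      have h4 := (map_eq_one_iff φ φ.injective).1 he
      rw [u_eq_one_iff] at h4
      exact one_ne_zero h4.2
    have hall : ∀ c : F, c ≠ 0 → φ (u hF 0 c) = w hF * u hF 0 (c⁻¹ * e) * (w hF)⁻¹ := by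
      intro c hc
      obtain ⟨k, hk0, hk⟩ := exists_pow_sigma_add_one hF c hc
      set k' : Fˣ := Units.mk0 k hk0 with hk'
      have h4 : u hF 0 c = h hF k' * u hF 0 1 * (h hF k')⁻¹ := by
        rw [h_mul_u, mul_inv_cancel_right, hk', Units.val_mk0, hk, mul_zero, mul_one]
      rw [h4, map_mul, map_mul, map_inv, hT, he]
      have h5 : h hF k' * (w hF * u hF 0 e * (w hF)⁻¹) * (h hF k')⁻¹ =
          w hF * (h hF k'⁻¹ * u hF 0 e * (h hF k'⁻¹)⁻¹) * (w hF)⁻¹ := by
        have h6 : h hF k' * w hF = w hF * h hF k'⁻¹ := by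
          rw [w_mul_h, inv_inv]
        have h7 : (w hF)⁻¹ * (h hF k')⁻¹ = (h hF k'⁻¹)⁻¹ * (w hF)⁻¹ := by
          rw [← _root_.mul_inv_rev, h6, _root_.mul_inv_rev]
        calc h hF k' * (w hF * u hF 0 e * (w hF)⁻¹) * (h hF k')⁻¹
            = (h hF k' * w hF) * u hF 0 e * ((w hF)⁻¹ * (h hF k')⁻¹) := by group
          _ = _ := by rw [h6, h7]; group
      rw [h5, h_mul_u, mul_inv_cancel_right]
      congr 3
      · ring
      · rw [Units.val_inv_eq_inv_val, hk', Units.val_mk0, inv_pow, hk]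
    obtain ⟨c, hc0, hc1, hc2⟩ := exists_c hm hF
    have hc1' : 1 + c ≠ 0 := by
      intro h3
      apply hc1
      have := CharTwo.add_self_eq_zero (1 : F)
      linear_combination h3 - this
    have h4 : u hF 0 1 * u hF 0 c = u hF 0 (1 + c) := by
      rw [u_mul, u_eq_iff]
      exact ⟨by ring, by ring⟩
    have h5 := congrArg φ h4
    rw [map_mul, he, hall c hc0, hall (1 + c) hc1'] at h5
    have h6 : w hF * u hF 0 e * (w hF)⁻¹ * (w hF * u hF 0 (c⁻¹ * e) * (w hF)⁻¹) =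
        w hF * u hF 0 (e + c⁻¹ * e) * (w hF)⁻¹ := by
      have : u hF 0 (e + c⁻¹ * e) = u hF 0 e * u hF 0 (c⁻¹ * e) := by
        rw [u_mul, u_eq_iff]
        exact ⟨by ring, by ring⟩
      rw [this]
      group
    rw [h6] at h5
    have h7 := hinj _ _ h5
    apply hc2
    have h8 : (e + c⁻¹ * e) * (c * (1 + c)) = (1 + c)⁻¹ * e * (c * (1 + c)) := by rw [h7]
    have h9 : (1 + c)⁻¹ * e * (c * (1 + c)) = e * c := by field_simp
    have h10 : (e + c⁻¹ * e) * (c * (1 + c)) = e * (1 + c) * (1 + c) := by field_simp; ring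
    rw [h9, h10] at h8
    have h11 : e * (c ^ 2 + c + 1) = 0 := by linear_combination h8
    rcases mul_eq_zero.1 h11 with h12 | h12
    · exact (he0 h12).elim
    · exact h12

include hm in
/-- a subgroup which permutes `{∞, 0}`: its elements of odd order are in the torus -/
theorem mem_T_of_perm {x : Cfsg.Sz F m} (hx : Odd (orderOf x)) (h1 : x • inf F m = inf F m ∨ x • inf F m = zer F m)
    (h2 : x • zer F m = inf F m ∨ x • zer F m = zer F m) : x ∈ T hF := by
  have hsq : ∀ p : Cfsg.suzukiOvoid F m, (x * x) • p = p → x • p = p := by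
    intro p hp
    obtain ⟨n, hn⟩ := hx
    have h3 : ∀ j : ℕ, (x * x) ^ j • p = p := by
      intro j
      induction j with
      | zero => rw [pow_zero, one_smul]
      | succ j ih => rw [pow_succ, mul_smul, hp, ih]
    have h4 : (x * x) ^ (n + 1) = x := by
      have h5 : x ^ (2 * n + 1) = 1 := by rw [← hn]; exact pow_orderOf_eq_one x
      rw [← pow_two, ← pow_mul, show 2 * (n + 1) = (2 * n + 1) + 1 by ring, pow_succ, h5, one_mul]
    have := h3 (n + 1)
    rwa [h4] at this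
  have hne : x • zer F m ≠ x • inf F m := fun e => zer_ne_inf (smul_left_cancel x e)
  have a1 : x • inf F m = inf F m := by
    rcases h1 with h3 | h3
    · exact h3
    · apply hsq
      rw [mul_smul, h3]
      rcases h2 with h4 | h4
      · exact h4
      · exact (hne (by rw [h3, h4])).elim
  have a2 : x • zer F m = zer F m := by
    rcases h2 with h3 | h3
    · exact (hne (by rw [a1, h3])).elim
    · exact h3
  obtain ⟨k, hk⟩ := eq_h hm hF a1 a2
  exact ⟨k, hk.symm⟩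

include hm in
/-- elements of odd order of `N(T)` are in `T` -/
theorem mem_T_of_normalizer {x : Cfsg.Sz F m} (hx : Odd (orderOf x)) (hN : ∀ t ∈ T hF, x⁻¹ * t * x ∈ T hF) :
    x ∈ T hF := by
  obtain ⟨k, hk⟩ := exists_k hm hF
  have h1 : ∀ p : Cfsg.suzukiOvoid F m, (∀ t ∈ T hF, t • p = p) → x • p = inf F m ∨ x • p = zer F m := by
    intro p hp
    apply fix_h hF hk
    have h2 := hp _ (hN (h hF k) ⟨k, rfl⟩)
    rw [mul_smul, mul_smul, inv_smul_eq_iff] at h2
    exact h2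
  apply mem_T_of_perm hm hF hx
  · apply h1
    rintro _ ⟨l, rfl⟩
    exact h_smul_inf hF l
  · apply h1
    rintro _ ⟨l, rfl⟩
    exact h_smul_zer hF l

/-- If `E` normalises `X` and no non-identity element of `E` centralises a non-identity element of
`X`, then `|E|` divides `|X| - 1`. -/
theorem card_dvd_sub {G : Type*} [Group G] [Finite G] {E X : Subgroup G} (hn : ∀ w ∈ E, ∀ x ∈ X, w * x * w⁻¹ ∈ X)
    (hfree : ∀ w ∈ E, ∀ x ∈ X, x ≠ 1 → w * x = x * w → w = 1) : Nat.card E ∣ Nat.card X - 1 := by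
  classical
  have := Fintype.ofFinite G
  let A := {x : G // x ∈ X ∧ x ≠ 1}
  let act : MulAction E A :=
    { smul := fun w x => ⟨w * x.1 * (w : G)⁻¹, hn w w.2 x.1 x.2.1, fun e => x.2.2 (conj_eq_one_iff.1 e)⟩
      one_smul := fun x => Subtype.ext (by show (1 : G) * x.1 * (1 : G)⁻¹ = x.1; group)
      mul_smul := fun a b x => Subtype.ext (by
        show ((a : G) * b) * x.1 * ((a : G) * b)⁻¹ = a * (b * x.1 * (b : G)⁻¹) * (a : G)⁻¹
        group) }
  have h1 : Nat.card E ∣ Nat.card A := by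
    apply Cfsg.Agent.H23.FreeAct.card_dvd_of_free
    intro d x hd
    have h2 : (d : G) * x.1 * (d : G)⁻¹ = x.1 := congrArg Subtype.val hd
    rw [mul_inv_eq_iff_eq_mul] at h2
    exact Subtype.ext (hfree d d.2 x.1 x.2.1 x.2.2 h2)
  have h2 : Nat.card X = Nat.card A + 1 := by
    have e : Option A ≃ X :=
      { toFun := fun o => match o with
          | none => 1
          | some a => ⟨a.1, a.2.1⟩
        invFun := fun x => if h : (x : G) = 1 then none else some ⟨x.1, x.2, h⟩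
        left_inv := by
          rintro (_ | a)
          · simp
          · have := a.2.2
            simp [this]
        right_inv := by
          intro x
          by_cases h : (x : G) = 1
          · simp only [h, dite_true]
            exact Subtype.ext h.symm
          · simp only [h, dite_false] }
    have : Finite A := Subtype.finite
    rw [← Nat.card_congr e, Finite.card_option]
  rw [h2, Nat.add_sub_cancel]
  exact h1

theorem card_Sz_arith (hm : 1 ≤ m) {k : ℕ} (hkm : k < m) (hd : 2 * k + 1 ∣ 2 * m + 1)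
    (h : 2 ^ (2 * m + 1) - 1 ∣ ((2 ^ (2 * k + 1)) ^ 2 + 1) * ((2 ^ (2 * k + 1)) ^ 2 * (2 ^ (2 * k + 1) - 1))) : False := by
  have h1 : 3 * (2 * k + 1) ≤ 2 * m + 1 := by
    obtain ⟨c, hc⟩ := hd
    have hc3 : 3 ≤ c := by
      by_contra hlt
      have : c = 0 ∨ c = 1 ∨ c = 2 := by omega
      rcases this with rfl | rfl | rfl <;> (clear * - hc hkm; omega)
    calc 3 * (2 * k + 1) = (2 * k + 1) * 3 := by ring
      _ ≤ (2 * k + 1) * c := Nat.mul_le_mul_left _ hc3
      _ = _ := hc.symm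
  have h2 : (2 ^ (2 * k + 1)) ^ 3 ≤ 2 ^ (2 * m + 1) := by
    rw [← pow_mul]
    exact Nat.pow_le_pow_right (by norm_num) (by omega)
  have hcop : Nat.Coprime (2 ^ (2 * m + 1) - 1) ((2 ^ (2 * k + 1)) ^ 2) := by
    rw [← pow_mul]
    apply Nat.Coprime.pow_right
    apply Nat.Coprime.symm
    rw [Nat.coprime_two_left]
    have : Even (2 ^ (2 * m + 1)) := (Nat.even_pow.2 ⟨even_two, by omega⟩)
    exact Nat.Even.sub_odd Nat.one_le_two_pow this odd_one
  set s := 2 ^ (2 * k + 1) with hs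
  have hs2 : 2 ≤ s := by
    calc 2 = 2 ^ 1 := rfl
      _ ≤ 2 ^ (2 * k + 1) := Nat.pow_le_pow_right (by norm_num) (by omega)
  have h3 : 2 ^ (2 * m + 1) - 1 ∣ (s ^ 2 + 1) * (s - 1) := by
    have e : (s ^ 2 + 1) * (s ^ 2 * (s - 1)) = s ^ 2 * ((s ^ 2 + 1) * (s - 1)) := by ring
    rw [e] at h
    exact hcop.dvd_of_dvd_mul_left h
  have h4 := Nat.le_of_dvd (by
    apply Nat.mul_pos
    · positivity
    · omega) h3
  obtain ⟨r, hr⟩ : ∃ r, s = r + 1 := ⟨s - 1, by omega⟩
  rw [hr, Nat.add_sub_cancel] at h4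
  rw [hr] at h2
  have h5 : (r + 1) ^ 3 - 1 ≤ ((r + 1) ^ 2 + 1) * r := by omega
  have h6 : (r + 1) ^ 3 = ((r + 1) ^ 2 + 1) * r + (r + 1) ^ 2 - r := by
    have : r ≤ (r + 1) ^ 2 := by nlinarith only []
    zify [le_trans this (Nat.le_add_left _ (((r + 1) ^ 2 + 1) * r))]
    ring
  have h7 : r + 1 < (r + 1) ^ 2 := by nlinarith only [hs2, hr]
  omega

theorem hyp_ov : ∀ K : Subgroup (Cfsg.Sz F m), (r1 hm hF).T0 ≤ K → K ≠ ⊤ → K ≤ (r1 hm hF).B ∨
    K ≤ cj (r1 hm hF).w (r1 hm hF).B ∨ ∀ φ : MulAut (Cfsg.Sz F m), (∀ x ∈ K, φ x ∈ K) → ∀ z ∈ T hF, φ z ∈ T hF := by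
  intro K hK hKt
  rw [r1_T0] at hK
  have hfin := finite_ovoid F m
  have : Fact (Nat.Prime 2) := ⟨Nat.prime_two⟩
  have hoddT : ∀ z ∈ T hF, Odd (orderOf z) := by
    intro z hz
    have h1 : orderOf z ∣ Nat.card (T hF) := Subgroup.orderOf_dvd_natCard _ hz
    rw [card_T] at h1
    have h2 : Odd (2 ^ (2 * m + 1) - 1) := odd_of_mem (m := m) (Or.inl rfl)
    exact h2.of_dvd_nat h1
  rcases Cfsg.Agent.S2251.result hm hF K hKt with ⟨P, hP⟩ | ⟨C, hC1, hC2, hC3⟩ | ⟨L, _, _, k, hk, hkm, hL, hd, S, ⟨e⟩, hKS⟩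
  · obtain ⟨y, rfl⟩ := MulAction.exists_smul_eq (Cfsg.Sz F m) (sylowQ hm hF) P
    have hg : ∀ g ∈ K, g • (y • sylowQ hm hF) = y • sylowQ hm hF := by
      intro g hg
      rw [Sylow.smul_eq_iff_mem_normalizer]
      exact hP hg
    have hg' : ∀ g ∈ K, g • (y • inf F m) = y • inf F m := by
      intro g hgK
      have h1 := hg g hgK
      have h2 : (y⁻¹ * g * y) • sylowQ hm hF = sylowQ hm hF := by
        rw [mul_smul, mul_smul, h1, inv_smul_smul]
      rw [smul_sylowQ_eq_iff, mul_smul, mul_smul, inv_smul_eq_iff] at h2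
      exact h2
    rcases point_of_T hm hF (y := y) (fun k => hg _ (hK ⟨k, rfl⟩)) with hp | hp
    · left
      intro g hgK
      have := hg' g hgK
      rw [hp] at this
      exact this
    · right; left
      intro g hgK
      have := hg' g hgK
      rw [hp] at this
      exact (mem_cj_Bst hF).2 this
  · right; right
    have hCm : Nat.card C ∈ torusOrders m := hC2
    have hTC : T hF = C := by
      by_cases hint : ∃ g, g ∈ T hF ∧ g ∈ C ∧ g ≠ 1
      · obtain ⟨g, hg1, hg2, hg3⟩ := hint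
        have e1 := eq_centralizer hm hF hg3 hg2 hC1 hCm
        have e2 := eq_centralizer hm hF hg3 hg1 (isCyclic_T hF) (by rw [card_T]; exact Or.inl rfl)
        rw [e1, e2]
      · exfalso
        push Not at hint
        have h1 : Nat.card (T hF) ∣ Nat.card C - 1 := by
          apply card_dvd_sub
          · intro t ht c hc
            exact (Subgroup.mem_normalizer_iff.1 (hC3 (hK ht)) c).1 hc
          · intro t ht c hc hc1 htc
            have e1 := eq_centralizer hm hF hc1 hc hC1 hCm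
            apply hint t ht
            rw [e1, Subgroup.mem_centralizer_singleton_iff]
            exact htc
        rw [card_T] at h1
        have h8 : 2 ^ (m + 1) + 2 < 2 ^ (2 * m + 1) := by
          obtain ⟨n, rfl⟩ : ∃ n, m = n + 1 := ⟨m - 1, by omega⟩
          have e1 : 2 ^ (2 * (n + 1) + 1) = 2 ^ (n + 1) * 2 ^ (n + 2) := by
            rw [← pow_add]; congr 1; ring
          have e2 : 2 ^ (n + 1 + 1) = 2 ^ (n + 2) := rfl
          have e3 : 2 ≤ 2 ^ (n + 1) := by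
            calc 2 = 2 ^ 1 := rfl
              _ ≤ 2 ^ (n + 1) := Nat.pow_le_pow_right (by norm_num) (by omega)
          have e4 : 4 ≤ 2 ^ (n + 2) := by
            calc 4 = 2 ^ 2 := rfl
              _ ≤ 2 ^ (n + 2) := Nat.pow_le_pow_right (by norm_num) (by omega)
          rw [e1, e2]
          nlinarith only [e3, e4]
        rw [mem_torusOrders_iff] at hCm
        generalize 2 ^ (2 * m + 1) = q at h1 h8 hCm
        generalize hr : 2 ^ (m + 1) = r at h1 h8 hCm
        rcases hCm with h2 | h2 | h2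
        · rw [h2] at h1
          have := Nat.le_of_dvd (by omega) h1
          omega
        · rw [h2] at h1
          have h3 : q + r + 1 - 1 = (q - 1) + (r + 1) := by (clear * - h8; omega)
          rw [h3] at h1
          have h4 := (Nat.dvd_add_right (dvd_refl _)).1 h1
          have := Nat.le_of_dvd (by omega) h4
          omega
        · rw [h2] at h1
          have h0 : 1 ≤ r := by rw [← hr]; exact Nat.one_le_two_pow
          have := Nat.le_of_dvd (by omega) h1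
          omega
    intro φ hφ z hz
    have h1 : φ z ∈ K := hφ z (hK hz)
    apply mem_T_of_normalizer hm hF
    · rw [MulEquiv.orderOf_eq]
      exact hoddT z hz
    · intro t ht
      have h2 := hC3 h1
      rw [← hTC] at h2
      have h3 := (Subgroup.mem_normalizer_iff.1 (Subgroup.inv_mem _ h2) t).1 ht
      rwa [inv_inv] at h3
  · exfalso
    have hTS : T hF ≤ S := hK.trans hKS
    have h1 : Nat.card (T hF) ∣ Nat.card S := Subgroup.card_dvd_of_le hTS
    rw [card_T, Nat.card_congr e.toEquiv, card_Sz hk hL] at h1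
    exact card_Sz_arith hm hkm hd h1

/-- **helper470's hypotheses hold for the Suzuki groups** -/
theorem hyp : (r1 hm hF).Hyp where
  comm := hyp_comm hm hF
  p2 := fun _ => hyp_p2 hm hF
  inv := fun _ => hyp_inv hm hF
  ov := by
    have hfin := finite_ovoid F m
    apply (r1 hm hF).ov_of (T hF)
    · intro h1
      have h2 := card_T (m := m) hF
      rw [h1, Subgroup.card_bot] at h2
      have h8 := eight_le hm hF
      rw [hF] at h8
      omega
    · intro h1
      have h2 : u hF 1 0 ∈ T hF := by rw [h1]; exact Subgroup.mem_top _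
      obtain ⟨k, hk⟩ := h2
      have h3 : u hF 1 0 • zer F m = zer F m := by
        rw [← hk]; exact h_smul_zer hF k
      exact zer_ne_inf (u_fix hF (fun h4 => one_ne_zero h4.1) h3)
    · intro φ hφ z hz
      rw [r1_T0] at hφ
      exact hφ z hz
    · exact hyp_ov hm hF

end

end Cfsg.Agent.H451.EPX
end

-- part: H451/EPX/R1SzIso
section
/-!
# S5745, own characteristic, rank one: the Suzuki groups, final form (helper451)
-/

set_option autoImplicit false

namespace Cfsg.Agent.H451.EPX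

open Cfsg.Agent.H470.EPO

/-- field `sz` of helper470's `R1All` -/
theorem r1_sz {T : Type*} [Group T] (h : Cfsg.Lie.IsoSuzuki T) : ∃ D : R1 2 T, D.Hyp := by
  obtain ⟨F, i1, i2, m, hm, hF, ⟨e⟩⟩ := h
  obtain ⟨e'⟩ := Cfsg.Agent.OddCyclic.ClaimC.SzIso.iso (F := F) hm hF
  exact R1.exists_ofEquiv (e.trans e'.symm) ⟨r1 hm hF, hyp hm hF⟩

end Cfsg.Agent.H451.EPX
end

-- part: H137/EPX/R1ReeA
section
/-!
# The rank one data of a small Ree group (own characteristic), part A (helper137)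

* `r1` : the data;
* `T0_eq` : the torus is `{h a}`;
* `of_le` : `h a ∈ cj g B` with `h a ^ 18 ≠ 1` implies `g ∈ B ∪ n B`;
* `comm`, `inv`.
-/

set_option autoImplicit false
set_option linter.unusedSectionVars false

namespace Cfsg.Agent.H137.EPX.R1Ree

open Subgroup Cfsg.Agent.H284 Cfsg.Agent.H470.EPO
open Cfsg.Agent.LieRecognition
open Cfsg.Agent.LieRecognition.ReeAbs

variable {K : Type} [Field K] [Fintype K] {G : Type} [Group G] [Finite G] {m : ℕ} {U : K → K → K → G} {h : Kˣ → G}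
  {n : G} (D : ReeAbs.Data m U h n)

include D

theorem n_inv : n⁻¹ = n := inv_eq_of_mul_eq_one_right D.n_n

theorem h_n (a : Kˣ) : h a * n = n * h a⁻¹ := by rw [D.n_h, inv_inv]

theorem n_notMem : n ∉ ReeSplit.bSub D := by
  rintro ⟨t, u, v, a, e⟩
  apply D.ne t u v a 0 0 0 1 0 0 0
  rw [← e, D.U_zero, D.h_one, one_mul, one_mul, mul_one]

theorem norm_U : normalizer (ReeSylowThree.uSub D : Set G) = ReeSplit.bSub D := by
  ext g
  constructor
  · intro hg
    have hx : U 0 0 1 ∈ ReeSylowThree.uSub D := ⟨0, 0, 1, rfl⟩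
    have hx1 : U 0 0 1 ≠ 1 := by
      intro e
      rw [← D.U_zero] at e
      obtain ⟨-, -, h1⟩ := ReeSylowThree.U_injective D e
      exact one_ne_zero h1
    exact ReeSplit.mem_bSub_of_inv_conj_mem D hx hx1 ((mem_normalizer_iff''.1 hg _).1 hx)
  · intro hg
    rw [mem_normalizer_iff]
    intro x
    constructor
    · exact fun hx => ReeSplit.conj_mem_uSub D hg hx
    · intro hx
      have := ReeSplit.inv_conj_mem_uSub D hg hx
      have e : g⁻¹ * (g * x * g⁻¹) * g = x := by group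
      rwa [e] at this

theorem inf_cj : ReeSylowThree.uSub D ⊓ cj n (ReeSplit.bSub D) = ⊥ := by
  rw [Subgroup.eq_bot_iff_forall]
  intro x hx
  obtain ⟨⟨t, u, v, rfl⟩, h2⟩ := mem_inf.1 hx
  rw [mem_cj, n_inv D] at h2
  obtain ⟨t', u', v', a, h3⟩ := h2
  obtain ⟨t'', u'', v'', h4⟩ : ∃ t'' u'' v'', U t' u' v' * h a = h a * U t'' u'' v'' := by
    obtain ⟨t'', u'', v'', h4⟩ := ReeSplit.inv_conj_mem_uSub D (ReeSplit.h_mem_bSub D a)
      (⟨t', u', v', rfl⟩ : U t' u' v' ∈ ReeSylowThree.uSub D)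
    refine ⟨t'', u'', v'', ?_⟩
    rw [← h4]
    group
  have h5 : U t u v * h 1 * n * U 0 0 0 = U 0 0 0 * h a⁻¹ * n * U t'' u'' v'' := by
    rw [D.h_one, D.U_zero, mul_one, mul_one, one_mul]
    calc U t u v * n = n * (n * U t u v * n) := by
          rw [← mul_assoc, ← mul_assoc, D.n_n, one_mul]
      _ = n * (h a * U t'' u'' v'') := by rw [h3, h4]
      _ = (n * h a) * U t'' u'' v'' := by rw [mul_assoc]
      _ = h a⁻¹ * n * U t'' u'' v'' := by rw [D.n_h]
  obtain ⟨rfl, rfl, rfl, -⟩ := D.inj₂ _ _ _ _ _ _ _ _ _ _ _ _ _ _ h5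
  exact D.U_zero

/-- the rank one data -/
def r1 (hK : Fintype.card K = 3 ^ (2 * m + 1)) : R1 3 G where
  U := ReeSylowThree.uSub D
  B := ReeSplit.bSub D
  w := n
  nU := norm_U D
  pU := Cfsg.Agent.H247.EPR.isPGroup_uSub D hK
  mU := by
    intro S hS hp
    obtain ⟨P, hP⟩ := Cfsg.Agent.H247.EPR.exists_sylow_uSub D hK
    rw [← hP] at hS ⊢
    exact P.is_maximal' hp hS
  wB := n_notMem D
  ww := by
    rw [D.n_n]
    exact one_mem _
  tr := by
    intro g hg
    rcases D.bruhat g with ⟨t, u, v, a, rfl⟩ | ⟨t, u, v, a, t', u', v', rfl⟩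
    · exact absurd ⟨t, u, v, a, rfl⟩ hg
    · refine ⟨U t u v, ⟨t, u, v, rfl⟩, h a⁻¹ * U t' u' v', mul_mem (ReeSplit.h_mem_bSub D _)
        (ReeSplit.uSub_le_bSub D ⟨t', u', v', rfl⟩), ?_⟩
      rw [mul_assoc (U t u v) (h a) n, h_n D]
      group
  ti := inf_cj D

variable (hK : Fintype.card K = 3 ^ (2 * m + 1))

theorem h_mem_cj (a : Kˣ) : h a ∈ cj n (ReeSplit.bSub D) := by
  rw [mem_cj, n_inv D, D.n_h, mul_assoc, D.n_n, mul_one]
  exact ReeSplit.h_mem_bSub D _

theorem inf_eq : ReeSplit.bSub D ⊓ cj n (ReeSplit.bSub D) = ReeSplit.hSub D := by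
  apply le_antisymm
  · intro x hx
    obtain ⟨⟨t, u, v, a, rfl⟩, h2⟩ := mem_inf.1 hx
    have h3 : U t u v ∈ ReeSylowThree.uSub D ⊓ cj n (ReeSplit.bSub D) := by
      refine mem_inf.2 ⟨⟨t, u, v, rfl⟩, ?_⟩
      have := mul_mem h2 (inv_mem (h_mem_cj D a))
      rwa [mul_inv_cancel_right] at this
    rw [inf_cj D, mem_bot] at h3
    rw [h3, one_mul]
    exact (ReeSplit.mem_hSub D).2 ⟨a, rfl⟩
  · intro x hx
    obtain ⟨a, rfl⟩ := (ReeSplit.mem_hSub D).1 hx
    exact mem_inf.2 ⟨ReeSplit.h_mem_bSub D a, h_mem_cj D a⟩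

theorem T0_eq : (r1 D hK).T0 = ReeSplit.hSub D := inf_eq D

include hK

theorem exists_big (hm : 1 ≤ m) : ∃ a : Kˣ, h a ^ 18 ≠ 1 := by
  obtain ⟨a, ha⟩ := IsCyclic.exists_generator (α := Kˣ)
  refine ⟨a, fun e => ?_⟩
  have h1 : orderOf a = Nat.card Kˣ := orderOf_eq_card_of_forall_mem_zpowers ha
  rw [Nat.card_units, Nat.card_eq_fintype_card, hK] at h1
  have h2 : orderOf a ∣ 18 := by
    rw [orderOf_dvd_iff_pow_eq_one, ← ReeSplit.h_eq_iff D, ReeSplit.h_pow D, e, D.h_one]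
  have h3 := Nat.le_of_dvd (by norm_num) h2
  have h4 : 27 ≤ 3 ^ (2 * m + 1) := by
    calc 27 = 3 ^ 3 := by norm_num
      _ ≤ 3 ^ (2 * m + 1) := Nat.pow_le_pow_right (by norm_num) (by omega)
  omega

theorem sq_ne_of_big {a : Kˣ} (ha : h a ^ 18 ≠ 1) : a ^ 2 ≠ 1 := by
  intro e
  apply ha
  rw [← ReeSplit.h_pow D, show 18 = 2 * 9 by norm_num, pow_mul, e, one_pow, D.h_one]

/-- two Borel subgroups contain `h a` -/
theorem of_mem {a : Kˣ} (ha : h a ^ 18 ≠ 1) {g : G} (hg : h a ∈ cj g (ReeSplit.bSub D)) :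
    g ∈ ReeSplit.bSub D ∨ ∃ b ∈ ReeSplit.bSub D, g = n * b := by
  by_cases hgB : g ∈ ReeSplit.bSub D
  · exact Or.inl hgB
  right
  obtain ⟨u, hu, b, hb, rfl⟩ := (r1 D hK).tr g hgB
  change u ∈ ReeSylowThree.uSub D at hu
  change b ∈ ReeSplit.bSub D at hb
  change h a ∈ cj (u * n * b) (ReeSplit.bSub D) at hg
  refine ⟨b, hb, ?_⟩
  rw [cj_mul, cj_eq_self hb, cj_mul, mem_cj] at hg
  have h1 : u⁻¹ * h a * u ∈ ReeSplit.hSub D := by
    rw [← inf_eq D]
    refine mem_inf.2 ⟨?_, hg⟩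
    exact mul_mem (mul_mem (inv_mem (ReeSplit.uSub_le_bSub D hu)) (ReeSplit.h_mem_bSub D a))
      (ReeSplit.uSub_le_bSub D hu)
  have h2 : (h a)⁻¹ * (u⁻¹ * h a * u) ∈ ReeSylowThree.uSub D ⊓ cj n (ReeSplit.bSub D) := by
    refine mem_inf.2 ⟨?_, ?_⟩
    · have h3 := ReeSplit.inv_conj_mem_uSub D (ReeSplit.h_mem_bSub D a) (inv_mem hu)
      have h4 := mul_mem h3 hu
      have e : (h a)⁻¹ * (u⁻¹ * h a * u) = (h a)⁻¹ * u⁻¹ * h a * u := by group
      rwa [e]
    · refine mul_mem (inv_mem (h_mem_cj D a)) ?_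
      have := inf_eq D
      rw [← this] at h1
      exact (mem_inf.1 h1).2
  rw [inf_cj D, mem_bot, inv_mul_eq_one] at h2
  have h3 : h a * u = u * h a := by
    nth_rw 2 [h2]
    group
  have h4 : u = 1 := by
    by_contra hne
    exact ha (ReeSplit.pow_eighteen_of_commute D hK hu hne h3)
  rw [h4, one_mul]
  rfl

theorem cj_of_mem {a : Kˣ} (ha : h a ^ 18 ≠ 1) {g : G} (hg : h a ∈ cj g (ReeSplit.bSub D)) :
    (cj g (ReeSplit.bSub D) = ReeSplit.bSub D ∧ cj g (ReeSylowThree.uSub D) = ReeSylowThree.uSub D) ∨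
      (cj g (ReeSplit.bSub D) = cj n (ReeSplit.bSub D) ∧ cj g (ReeSylowThree.uSub D) = cj n (ReeSylowThree.uSub D)) := by
  have hU : ∀ b ∈ ReeSplit.bSub D, cj b (ReeSylowThree.uSub D) = ReeSylowThree.uSub D := by
    intro b hb
    ext x
    rw [mem_cj]
    constructor
    · intro hx
      have := ReeSplit.conj_mem_uSub D hb hx
      have e : b * (b⁻¹ * x * b) * b⁻¹ = x := by group
      rwa [e] at this
    · exact fun hx => ReeSplit.inv_conj_mem_uSub D hb hx
  rcases of_mem D hK ha hg with h1 | ⟨b, hb, rfl⟩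
  · exact Or.inl ⟨cj_eq_self h1, hU g h1⟩
  · right
    rw [cj_mul, cj_mul, cj_eq_self hb, hU b hb]
    exact ⟨rfl, rfl⟩

/-- `[U, T0] = U` -/
theorem comm (hm : 1 ≤ m) : ∀ X : Subgroup G, X ≤ (r1 D hK).U →
    (∀ u ∈ (r1 D hK).U, ∀ t ∈ (r1 D hK).T0, u * t * u⁻¹ * t⁻¹ ∈ X) → X = (r1 D hK).U := by
  intro X hX hXc
  obtain ⟨a, ha⟩ := exists_big D hK hm
  apply le_antisymm hX
  let φ : ReeSylowThree.uSub D → ReeSylowThree.uSub D := fun u => ⟨u * h a * (u : G)⁻¹ * (h a)⁻¹, by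
    have h1 := ReeSplit.conj_mem_uSub D (ReeSplit.h_mem_bSub D a) (inv_mem u.2)
    have h2 := mul_mem u.2 h1
    have e : (u : G) * h a * (u : G)⁻¹ * (h a)⁻¹ = u * (h a * (u : G)⁻¹ * (h a)⁻¹) := by group
    rwa [e]⟩
  have hφ : Function.Injective φ := by
    intro u v e
    have e1 : (u : G) * h a * (u : G)⁻¹ * (h a)⁻¹ = v * h a * (v : G)⁻¹ * (h a)⁻¹ := Subtype.ext_iff.1 e
    have e2 : (u : G) * h a * (u : G)⁻¹ = v * h a * (v : G)⁻¹ := mul_right_cancel e1
    have e3 : h a * ((v : G)⁻¹ * u) = (v : G)⁻¹ * u * h a := by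
      have e4 : (u : G) * h a = v * h a * (v : G)⁻¹ * u := mul_inv_eq_iff_eq_mul.1 e2
      calc h a * ((v : G)⁻¹ * u) = (v : G)⁻¹ * (v * h a * (v : G)⁻¹ * u) := by group
        _ = (v : G)⁻¹ * (u * h a) := by rw [← e4]
        _ = _ := by group
    have e5 : (v : G)⁻¹ * u = 1 := by
      by_contra hne
      exact ha (ReeSplit.pow_eighteen_of_commute D hK (mul_mem (inv_mem v.2) u.2) hne e3)
    rw [inv_mul_eq_one] at e5
    exact Subtype.ext e5.symm
  intro x hx
  obtain ⟨u, hu⟩ := (Finite.injective_iff_surjective.1 hφ) ⟨x, hx⟩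
  have h1 := hXc u u.2 (h a) (by
    rw [T0_eq D hK]
    exact (ReeSplit.mem_hSub D).2 ⟨a, rfl⟩)
  have h2 : (u : G) * h a * (u : G)⁻¹ * (h a)⁻¹ = x := Subtype.ext_iff.1 hu
  rwa [h2] at h1

/-- the exponent is a permutation -/
theorem exists_root (c : Kˣ) : ∃ a : Kˣ, a ^ (2 * 3 ^ (m + 1) + 3) = c := by
  have h1 : Function.Injective (fun a : Kˣ => a ^ (2 * 3 ^ (m + 1) + 3)) := by
    intro a b e
    have e1 : a ^ (2 * 3 ^ (m + 1) + 3) = b ^ (2 * 3 ^ (m + 1) + 3) := e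
    have e2 : (a * b⁻¹) ^ (2 * 3 ^ (m + 1) + 3) = 1 := by
      rw [mul_pow, e1, ← mul_pow, mul_inv_cancel, one_pow]
    have e3 := ReeTorus.eq_one_of_pow_two_mul_add_three hK _ e2
    rwa [mul_inv_eq_one] at e3
  exact Finite.injective_iff_surjective.1 h1 c

omit hK in
/-- the centre of `U` -/
theorem central {x : G} (hx : x ∈ ReeSylowThree.uSub D) (hc : ∀ y ∈ ReeSylowThree.uSub D, x * y = y * x) :
    ∃ v, x = U 0 0 v := by
  obtain ⟨t, u, v, rfl⟩ := hx
  have h0 : (0 : K) ^ (3 ^ (m + 1)) = 0 := zero_pow (by positivity)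
  have h1 := hc _ ⟨0, 1, 0, rfl⟩
  rw [D.U_mul, D.U_mul] at h1
  obtain ⟨-, -, h2⟩ := ReeSylowThree.U_injective D h1
  simp only [h0, mul_zero, sub_zero, add_zero, zero_mul, zero_add, one_mul, ne_eq, OfNat.ofNat_ne_zero,
    not_false_eq_true, zero_pow] at h2
  have ht : t = 0 := by
    have : v = v - t := h2
    linear_combination this
  subst ht
  have h4 := hc _ ⟨1, 0, 0, rfl⟩
  rw [D.U_mul, D.U_mul] at h4
  obtain ⟨-, -, h5⟩ := ReeSylowThree.U_injective D h4
  simp only [h0, mul_zero, sub_zero, add_zero, zero_add, mul_one, one_pow, ne_eq,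
    OfNat.ofNat_ne_zero, not_false_eq_true, zero_pow] at h5
  have hu : u = 0 := by linear_combination -h5
  exact ⟨v, by rw [hu]⟩

omit hK in
theorem U_zz (v w : K) : U 0 0 v * U 0 0 w = U 0 0 (v + w) := by
  have h0 : (0 : K) ^ (3 ^ (m + 1)) = 0 := zero_pow (by positivity)
  rw [D.U_mul]
  simp [h0]

omit hK in
theorem U_zz_ne {v : K} (hv : v ≠ 0) : U 0 0 v ≠ 1 := by
  intro e
  rw [← D.U_zero] at e
  obtain ⟨-, -, h1⟩ := ReeSylowThree.U_injective D e
  exact hv h1

/-- an automorphism which centralises `T0` normalises `B` -/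
theorem inv (hm : 1 ≤ m) : ∀ φ : MulAut G, (∀ t ∈ (r1 D hK).T0, φ t = t) → ∀ b ∈ (r1 D hK).B,
    φ b ∈ (r1 D hK).B := by
  intro φ hφ b hb
  change b ∈ ReeSplit.bSub D at hb
  change φ b ∈ ReeSplit.bSub D
  have hφh : ∀ a, φ (h a) = h a := fun a => hφ _ (by
    rw [T0_eq D hK]
    exact (ReeSplit.mem_hSub D).2 ⟨a, rfl⟩)
  obtain ⟨a, ha⟩ := exists_big D hK hm
  obtain ⟨P, hP⟩ := Cfsg.Agent.H247.EPR.exists_sylow_uSub D hK
  obtain ⟨g, hg⟩ := MulAction.exists_smul_eq G P (φ • P)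
  have h1 : ∀ y : G, y ∈ ReeSylowThree.uSub D ↔ φ y ∈ cj g (ReeSylowThree.uSub D) := by
    intro y
    have h2 : φ y ∈ ((φ • P : Sylow 3 G) : Subgroup G) ↔ y ∈ (P : Subgroup G) := by
      rw [Sylow.pointwise_smul_def]
      exact Subgroup.smul_mem_pointwise_smul_iff (a := φ) (S := (P : Subgroup G)) (x := y)
    rw [← hg, Sylow.coe_subgroup_smul, hP] at h2
    rw [← h2, Subgroup.mem_pointwise_smul_iff_inv_smul_mem, mem_cj]
    rfl
  have h2 : ∀ y ∈ ReeSplit.bSub D, φ y ∈ cj g (ReeSplit.bSub D) := by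
    intro y hy
    rw [mem_cj]
    rw [← norm_U D] at hy ⊢
    rw [mem_normalizer_iff]
    have key : ∀ z, z ∈ ReeSylowThree.uSub D ↔ φ.symm (g * z * g⁻¹) ∈ ReeSylowThree.uSub D := by
      intro z
      rw [h1 (φ.symm (g * z * g⁻¹)), MulEquiv.apply_symm_apply, mem_cj]
      have e : g⁻¹ * (g * z * g⁻¹) * g = z := by group
      rw [e]
    intro z
    rw [key, key (g⁻¹ * φ y * g * z * (g⁻¹ * φ y * g)⁻¹)]
    have e : φ.symm (g * (g⁻¹ * φ y * g * z * (g⁻¹ * φ y * g)⁻¹) * g⁻¹) = y * φ.symm (g * z * g⁻¹) * y⁻¹ := by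
      rw [← φ.symm_apply_apply y, ← map_mul, ← map_inv, ← map_mul, φ.apply_symm_apply]
      congr 1
      group
    rw [e]
    exact mem_normalizer_iff.1 hy _
  rcases cj_of_mem D hK ha (g := g) (by
    have := h2 _ (ReeSplit.h_mem_bSub D a)
    rwa [hφh] at this) with ⟨h3, -⟩ | ⟨-, h4⟩
  · rw [← h3]
    exact h2 b hb
  exfalso
  rw [h4] at h1
  have hψ : ∀ x y : G, n * φ (x * y) * n = (n * φ x * n) * (n * φ y * n) := by
    intro x y
    rw [map_mul]
    have e : (n * φ x * n) * (n * φ y * n) = n * φ x * (n * n) * φ y * n := by group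
    rw [e, D.n_n]
    group
  have hψU : ∀ x ∈ ReeSylowThree.uSub D, n * φ x * n ∈ ReeSylowThree.uSub D := by
    intro x hx
    have := (h1 x).1 hx
    rwa [mem_cj, n_inv D] at this
  have hψi : ∀ x y : G, n * φ x * n = n * φ y * n → x = y := by
    intro x y e
    exact φ.injective (mul_left_cancel (mul_right_cancel e))
  have hψs : ∀ y ∈ ReeSylowThree.uSub D, ∃ x ∈ ReeSylowThree.uSub D, n * φ x * n = y := by
    intro y hy
    let ψ : ReeSylowThree.uSub D → ReeSylowThree.uSub D := fun x => ⟨n * φ x * n, hψU x x.2⟩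
    have hi : Function.Injective ψ := fun x y e => Subtype.ext (hψi _ _ (Subtype.ext_iff.1 e))
    obtain ⟨x, hx⟩ := (Finite.injective_iff_surjective.1 hi) ⟨y, hy⟩
    exact ⟨x, x.2, Subtype.ext_iff.1 hx⟩
  have hZ : ∀ v : K, ∃ v', n * φ (U 0 0 v) * n = U 0 0 v' := by
    intro v
    apply central D (hψU _ ⟨0, 0, v, rfl⟩)
    intro y hy
    obtain ⟨x, hx, rfl⟩ := hψs y hy
    rw [← hψ, ← hψ, Cfsg.Agent.H247.EPR.zU_comm D _ (Cfsg.Agent.H247.EPR.U_mem_zU D v) x hx]
  choose f hf using hZ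
  have hadd : ∀ v w, f (v + w) = f v + f w := by
    intro v w
    have h5 := hψ (U 0 0 v) (U 0 0 w)
    rw [U_zz D, hf, hf, hf, U_zz D] at h5
    obtain ⟨-, -, h6⟩ := ReeSylowThree.U_injective D h5
    exact h6
  have hne : f 1 ≠ 0 := by
    intro e
    have h5 := hf 1
    rw [e, D.U_zero] at h5
    have h6 : U 0 0 (1 : K) = 1 := by
      apply hψi
      rw [h5, map_one, mul_one, D.n_n]
    exact U_zz_ne D one_ne_zero h6
  have hmul : ∀ (c : Kˣ) (v : K), f (c * v) = (c : K)⁻¹ * f v := by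
    intro c v
    obtain ⟨a, rfl⟩ := exists_root D hK c
    have h5 := D.h_U a 0 0 v
    rw [mul_zero, mul_zero] at h5
    have h6 := hψ (h a) (U 0 0 v)
    have h7 := hψ (U 0 0 ((a : K) ^ (2 * 3 ^ (m + 1) + 3) * v)) (h a)
    rw [h5, h7, hf, hf, hφh, D.n_h, mul_assoc (h a⁻¹) n n, D.n_n, mul_one, D.h_U, mul_zero, mul_zero] at h6
    obtain ⟨-, -, h8⟩ := ReeSylowThree.U_injective D (mul_right_cancel h6)
    rw [Units.val_pow_eq_pow_val, h8, Units.val_inv_eq_inv_val, inv_pow]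
  -- an element outside the prime field
  have h27 : 27 ≤ 3 ^ (2 * m + 1) := by
    calc 27 = 3 ^ 3 := by norm_num
      _ ≤ 3 ^ (2 * m + 1) := Nat.pow_le_pow_right (by norm_num) (by omega)
  classical
  obtain ⟨c, hc⟩ : ∃ c : K, c ∉ ({0, 1, -1} : Finset K) := by
    by_contra hcon
    push Not at hcon
    have h5 : (Finset.univ : Finset K) ⊆ {0, 1, -1} := fun x _ => hcon x
    have h6 := Finset.card_le_card h5
    rw [Finset.card_univ, hK] at h6
    have h7 := Finset.card_le_three (a := (0 : K)) (b := 1) (c := -1)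
    omega
  simp only [Finset.mem_insert, Finset.mem_singleton, not_or] at hc
  obtain ⟨hc0, hc1, hc2⟩ := hc
  have hc3 : c + 1 ≠ 0 := fun e => hc2 (by linear_combination e)
  have h5 := hmul (Units.mk0 c hc0) 1
  have h6 := hmul (Units.mk0 (c + 1) hc3) 1
  rw [Units.val_mk0, mul_one] at h5 h6
  rw [hadd, h5] at h6
  have h7 : c⁻¹ + 1 = (c + 1)⁻¹ := by
    have : (c⁻¹ + 1) * f 1 = (c + 1)⁻¹ * f 1 := by
      rw [← h6]; ring
    exact mul_right_cancel₀ hne this
  have h8 : (c⁻¹ + 1) * (c + 1) = 1 := by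
    rw [h7, inv_mul_cancel₀ hc3]
  have h9 : (1 + c) * (c + 1) = c := by
    calc (1 + c) * (c + 1) = (c * c⁻¹ + c) * (c + 1) := by rw [mul_inv_cancel₀ hc0]
      _ = c * ((c⁻¹ + 1) * (c + 1)) := by ring
      _ = c := by rw [h8, mul_one]
  have h3 := ReeSplit.three_eq_zero hK
  have h10 : (c - 1) * (c - 1) = 0 := by linear_combination h9 - c * h3
  exact hc1 (sub_eq_zero.1 (mul_self_eq_zero.1 h10))

end Cfsg.Agent.H137.EPX.R1Ree
end

-- part: H137/EPX/R1ReeB
section
/-!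
# The rank one data of a small Ree group (own characteristic), part B (helper137)

`centralises` : a subgroup `Y ≥ A` of order `q (q² - 1) / 2` with `q + 1` Sylow 3-subgroups, which is normalised by the
involution `h(-1)`, is centralised by `h(-1)`.
-/

set_option autoImplicit false
set_option linter.unusedSectionVars false

namespace Cfsg.Agent.H137.EPX.R1Ree

open Subgroup Cfsg.Agent.H284 Cfsg.Agent.H470.EPO MulAction
open Cfsg.Agent.LieRecognition
open Cfsg.Agent.LieRecognition.ReeAbs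
open scoped Pointwise

variable {K : Type} [Field K] [Fintype K] {G : Type} [Group G] [Finite G] {m : ℕ} {U : K → K → K → G} {h : Kˣ → G}
  {n : G} (D : ReeAbs.Data m U h n)

include D

theorem fix_iff (x g : G) : x • (g : G ⧸ ReeSplit.bSub D) = (g : G ⧸ ReeSplit.bSub D) ↔ x ∈ cj g (ReeSplit.bSub D) := by
  rw [← mem_stabilizer_iff]
  have h1 : (g : G ⧸ ReeSplit.bSub D) = g • ((1 : G) : G ⧸ ReeSplit.bSub D) := by
    rw [MulAction.Quotient.smul_coe, smul_eq_mul, mul_one]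
  rw [h1, stab_smul, MulAction.stabilizer_quotient]

theorem pt_eq (x y : G) : (x : G ⧸ ReeSplit.bSub D) = (y : G ⧸ ReeSplit.bSub D) ↔ x⁻¹ * y ∈ ReeSplit.bSub D :=
  QuotientGroup.eq

/-- `U` acts semiregularly outside `∞` -/
theorem free_U {x y : G} (hx : x ∈ ReeSylowThree.uSub D) (hy : y ∈ ReeSylowThree.uSub D)
    (e : x • (n : G ⧸ ReeSplit.bSub D) = y • (n : G ⧸ ReeSplit.bSub D)) : x = y := by
  have h1 : (y⁻¹ * x) • (n : G ⧸ ReeSplit.bSub D) = n := by
    rw [mul_smul, e, inv_smul_smul]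
  rw [fix_iff] at h1
  have h2 : y⁻¹ * x ∈ ReeSylowThree.uSub D ⊓ cj n (ReeSplit.bSub D) := mem_inf.2 ⟨mul_mem (inv_mem hy) hx, h1⟩
  rw [inf_cj D, mem_bot, inv_mul_eq_one] at h2
  exact h2.symm

theorem inf_ne_zero : (n : G ⧸ ReeSplit.bSub D) ≠ ((1 : G) : G ⧸ ReeSplit.bSub D) := by
  rw [Ne, pt_eq, mul_one, n_inv D]
  exact n_notMem D

variable (hK : Fintype.card K = 3 ^ (2 * m + 1))

include hK

/-- the fixed points of a big element of the torus -/
theorem fix_big {a : Kˣ} (ha : h a ^ 18 ≠ 1) (ω : G ⧸ ReeSplit.bSub D) (hω : h a • ω = ω) :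
    ω = ((1 : G) : G ⧸ ReeSplit.bSub D) ∨ ω = (n : G ⧸ ReeSplit.bSub D) := by
  obtain ⟨g, rfl⟩ := QuotientGroup.mk_surjective ω
  rw [fix_iff] at hω
  rcases of_mem D hK ha hω with h1 | ⟨b, hb, rfl⟩
  · left
    rw [pt_eq, mul_one]
    exact inv_mem h1
  · right
    rw [pt_eq]
    have e : (n * b)⁻¹ * n = b⁻¹ := by group
    rw [e]
    exact inv_mem hb

theorem exists_alpha (hm : 1 ≤ m) : ∃ r : ℕ, r.Prime ∧ r ≠ 2 ∧ r ∣ 3 ^ (2 * m + 1) - 1 ∧
    ∃ a : Kˣ, h a ∈ ReeSplit.aSub D ∧ orderOf (h a) = r ∧ h a ^ 18 ≠ 1 := by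
  have h8 := three_pow_odd_mod m
  have hq : 27 ≤ 3 ^ (2 * m + 1) := by
    calc 27 = 3 ^ 3 := by norm_num
      _ ≤ 3 ^ (2 * m + 1) := Nat.pow_le_pow_right (by norm_num) (by omega)
  have hA := ReeSplit.card_aSub D hK
  have h9 : 3 ^ (2 * m + 1) % 3 = 0 := by
    rw [pow_succ]; (clear * -; omega)
  obtain ⟨r, hr, hrd⟩ := Nat.exists_prime_and_dvd (n := (3 ^ (2 * m + 1) - 1) / 2) (by (clear * - hq; omega))
  have hf := Fact.mk hr
  have hd : r ∣ 3 ^ (2 * m + 1) - 1 := hrd.trans ⟨2, by omega⟩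
  have hr2 : r ≠ 2 := by
    rintro rfl
    omega
  have hr3 : r ≠ 3 := by
    rintro rfl
    (clear * - hq hd; omega)
  obtain ⟨⟨x, hx⟩, hxo⟩ := exists_prime_orderOf_dvd_card' (G := ReeSplit.aSub D) r (by rw [hA]; exact hrd)
  rw [Subgroup.orderOf_mk] at hxo
  obtain ⟨a, -, rfl⟩ := (ReeSplit.mem_aSub D).1 hx
  refine ⟨r, hr, hr2, hd, a, hx, hxo, fun e => ?_⟩
  have h1 := orderOf_dvd_of_pow_eq_one e
  rw [hxo, show 18 = 2 * 3 ^ 2 by norm_num, hr.dvd_mul] at h1
  rcases h1 with h1 | h1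
  · exact hr2 ((Nat.prime_dvd_prime_iff_eq hr Nat.prime_two).1 h1)
  · exact hr3 ((Nat.prime_dvd_prime_iff_eq hr Nat.prime_three).1 (hr.dvd_of_dvd_pow h1))

/-- a subgroup of `U` normalised by `A` has order `1` modulo `(q-1)/2` -/
theorem card_modA {C : Subgroup G} (hC : C ≤ ReeSylowThree.uSub D)
    (hn : ∀ x ∈ ReeSplit.aSub D, ∀ c ∈ C, x * c * x⁻¹ ∈ C) : (3 ^ (2 * m + 1) - 1) / 2 ∣ Nat.card C - 1 := by
  classical
  let A := ReeSplit.aSub D
  let S := {c : C // c ≠ 1}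
  let act : MulAction A S :=
    { smul := fun x c => ⟨⟨x * (c.1 : G) * (x : G)⁻¹, hn x x.2 _ c.1.2⟩, fun e => c.2 (by
        have e1 : (x : G) * (c.1 : G) * (x : G)⁻¹ = 1 := Subtype.ext_iff.1 e
        rw [mul_inv_eq_one] at e1
        exact Subtype.ext (mul_eq_left.1 e1))⟩
      one_smul := fun c => Subtype.ext (Subtype.ext (by
        show ((1 : A) : G) * (c.1 : G) * ((1 : A) : G)⁻¹ = _
        simp only [_root_.OneMemClass.coe_one, _root_.ne_eq, _root_.one_mul, _root_.inv_one, _root_.mul_one]))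
      mul_smul := fun x y c => Subtype.ext (Subtype.ext (by
        show ((x * y : A) : G) * (c.1 : G) * ((x * y : A) : G)⁻¹ = (x : G) * ((y : G) * (c.1 : G) * (y : G)⁻¹) * (x : G)⁻¹
        push_cast
        group)) }
  have hfree : ∀ b : S, stabilizer A b = ⊥ := by
    rintro ⟨⟨c, hc⟩, hc1⟩
    rw [Subgroup.eq_bot_iff_forall]
    rintro ⟨x, hx⟩ hxb
    rw [mem_stabilizer_iff] at hxb
    have h1 : x * c * x⁻¹ = c := Subtype.ext_iff.1 (Subtype.ext_iff.1 hxb)
    have h2 : x * c = c * x := mul_inv_eq_iff_eq_mul.1 h1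
    have hc1' : c ≠ 1 := fun e => hc1 (Subtype.ext e)
    by_contra hx1
    have hx1' : x ≠ 1 := fun e => hx1 (Subtype.ext e)
    have Dl := ReeSetup.local_of_data D hK
    -- `c` centralises `x`, so `c` is in the torus
    have h3 := Dl.cent_A x hx hx1' c h2.symm
    have h4 : c ∈ ReeSylowThree.uSub D ⊓ cj n (ReeSplit.bSub D) := by
      refine mem_inf.2 ⟨hC hc, ?_⟩
      obtain ⟨b, rfl⟩ := (ReeSplit.mem_hSub D).1 h3
      exact h_mem_cj D b
    rw [inf_cj D, mem_bot] at h4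
    exact hc1' h4
  have h1 := Nat.card_congr (selfEquivOrbitsQuotientProd hfree)
  rw [Nat.card_prod] at h1
  have h2 : Nat.card S = Nat.card C - 1 := by
    have := Fintype.ofFinite C
    rw [Nat.card_eq_fintype_card, Fintype.card_subtype_compl, Fintype.card_subtype_eq, ← Nat.card_eq_fintype_card]
  have h3 : Nat.card A = (3 ^ (2 * m + 1) - 1) / 2 := ReeSplit.card_aSub D hK
  rw [h2, h3] at h1
  exact ⟨_, by rw [h1, mul_comm]⟩

/-- **The main lemma** -/
theorem centralises (hm : 1 ≤ m) {Y : Subgroup G}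
    (hY : 2 * Nat.card Y = 3 ^ (2 * m + 1) * ((3 ^ (2 * m + 1)) ^ 2 - 1))
    (hnum : Nat.card (Sylow 3 Y) = 3 ^ (2 * m + 1) + 1) (hA : ReeSplit.aSub D ≤ Y)
    (ht : ∀ y ∈ Y, h (-1) * y * (h (-1))⁻¹ ∈ Y)
    (hV : ∃ V ≤ Y, 4 ≤ Nat.card V ∧ ∀ v ∈ V, v * v = 1 ∧ v * h (-1) = h (-1) * v) :
    ∀ y ∈ Y, y * h (-1) = h (-1) * y := by
  classical
  have h8 := three_pow_odd_mod m
  have hq : 27 ≤ 3 ^ (2 * m + 1) := by
    calc 27 = 3 ^ 3 := by norm_num
      _ ≤ 3 ^ (2 * m + 1) := Nat.pow_le_pow_right (by norm_num) (by omega)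
  have Dl := ReeSetup.local_of_data D hK
  set q := 3 ^ (2 * m + 1) with hqdef
  -- a Sylow 3-subgroup of `Y`
  obtain ⟨P⟩ : Nonempty (Sylow 3 Y) := inferInstance
  have hPq : q ≤ Nat.card (P : Subgroup Y) := by
    have h1 : q ∣ Nat.card Y := by
      have h2 : q ∣ 2 * Nat.card Y := by rw [hY]; exact Nat.dvd_mul_right _ _
      exact (Nat.Coprime.pow_left _ (by norm_num : Nat.Coprime 3 2)).dvd_of_dvd_mul_left h2
    exact Nat.le_of_dvd Nat.card_pos (P.pow_dvd_card_of_pow_dvd_card h1)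
  obtain ⟨R, hR⟩ := (P.isPGroup'.map Y.subtype).exists_le_sylow
  obtain ⟨R0, hR0⟩ := Cfsg.Agent.H247.EPR.exists_sylow_uSub D hK
  obtain ⟨g0, rfl⟩ := MulAction.exists_smul_eq G R0 R
  have hPg : ∀ x : Y, x ∈ (P : Subgroup Y) → g0⁻¹ * x * g0 ∈ ReeSylowThree.uSub D := by
    intro x hx
    have h1 : (x : G) ∈ MulAut.conj g0 • (R0 : Subgroup G) := hR ⟨x, hx, rfl⟩
    rw [Subgroup.mem_pointwise_smul_iff_inv_smul_mem, hR0] at h1
    have e : (MulAut.conj g0)⁻¹ • (x : G) = g0⁻¹ * x * g0 := by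
      rw [← map_inv]
      show g0⁻¹ * (x : G) * g0⁻¹⁻¹ = _
      rw [inv_inv]
    rwa [e] at h1
  obtain ⟨z, hzP, hz1⟩ : ∃ z ∈ (P : Subgroup Y), z ≠ 1 := by
    by_contra hcon
    push Not at hcon
    rw [(Subgroup.eq_bot_iff_forall _).2 hcon, Subgroup.card_bot] at hPq
    omega
  set ω0 : G ⧸ ReeSplit.bSub D := (g0 : G ⧸ ReeSplit.bSub D) with hω0
  have hstab : stabilizer Y ω0 = normalizer ((P : Subgroup Y) : Set Y) := by
    ext y
    have h1 : y ∈ stabilizer Y ω0 ↔ (y : G) ∈ cj g0 (ReeSplit.bSub D) := by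
      rw [mem_stabilizer_iff]
      exact fix_iff D y g0
    rw [h1, mem_cj]
    constructor
    · intro hy
      -- the 3-subgroup `Y ∩ cj g0 U`
      let Q : Subgroup Y := (cj g0 (ReeSylowThree.uSub D)).subgroupOf Y
      have hQp : IsPGroup 3 Q := by
        have h2 : IsPGroup 3 (cj g0 (ReeSylowThree.uSub D)) := (Cfsg.Agent.H247.EPR.isPGroup_uSub D hK).map _
        exact h2.comap_of_injective Y.subtype Y.subtype_injective
      have hPQ : (P : Subgroup Y) ≤ Q := by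
        intro x hx
        rw [Subgroup.mem_subgroupOf, mem_cj]
        exact hPg x hx
      have hQ : Q = P := P.is_maximal' hQp hPQ
      rw [mem_normalizer_iff]
      have key : ∀ y : Y, g0⁻¹ * y * g0 ∈ ReeSplit.bSub D → ∀ x ∈ (P : Subgroup Y), y * x * y⁻¹ ∈ (P : Subgroup Y) := by
        intro y hy x hx
        rw [← hQ] at hx ⊢
        rw [Subgroup.mem_subgroupOf, mem_cj] at hx ⊢
        have h3 := ReeSplit.conj_mem_uSub D hy hx
        have e : g0⁻¹ * ((y * x * y⁻¹ : Y) : G) * g0 =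
            g0⁻¹ * y * g0 * (g0⁻¹ * x * g0) * (g0⁻¹ * y * g0)⁻¹ := by
          push_cast
          group
        rwa [e]
      intro x
      refine ⟨key y hy x, fun hx => ?_⟩
      have h3 := key y⁻¹ (by
        have h4 := inv_mem hy
        have e : g0⁻¹ * ((y⁻¹ : Y) : G) * g0 = (g0⁻¹ * y * g0)⁻¹ := by
          push_cast
          group
        rwa [e]) _ hx
      have e : y⁻¹ * (y * x * y⁻¹) * y⁻¹⁻¹ = x := by group
      rwa [e] at h3
    · intro hy
      have h2 := (mem_normalizer_iff''.1 hy z).1 hzP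
      have h3 := hPg _ h2
      have h4 := hPg z hzP
      apply ReeSplit.mem_bSub_of_inv_conj_mem D h4 (fun e => hz1 (by
        have e1 : (z : G) = g0 * (g0⁻¹ * z * g0) * g0⁻¹ := by group
        rw [e, mul_one, mul_inv_cancel] at e1
        exact Subtype.ext e1))
      have e : (g0⁻¹ * (y : G) * g0)⁻¹ * (g0⁻¹ * z * g0) * (g0⁻¹ * y * g0) =
          g0⁻¹ * ((y⁻¹ * z * y : Y) : G) * g0 := by
        push_cast
        group
      rwa [e]
  have hO : (orbit Y ω0).ncard = q + 1 := by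
    have h1 := P.card_eq_index_normalizer
    rw [hnum] at h1
    rw [← MulAction.index_stabilizer, hstab]
    exact h1.symm
  set inf : G ⧸ ReeSplit.bSub D := ((1 : G) : G ⧸ ReeSplit.bSub D) with hinf
  set zer : G ⧸ ReeSplit.bSub D := (n : G ⧸ ReeSplit.bSub D) with hzer
  have hiz : zer ≠ inf := inf_ne_zero D
  have hfixB : ∀ x ∈ ReeSplit.bSub D, x • inf = inf := by
    intro x hx
    rw [fix_iff, cj_one]
    exact hx
  have hmemB : ∀ x : G, x • inf = inf → x ∈ ReeSplit.bSub D := by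
    intro x hx
    rw [fix_iff, cj_one] at hx
    exact hx
  have hinv : ∀ y ∈ Y, ∀ ω ∈ orbit Y ω0, y • ω ∈ orbit Y ω0 := by
    rintro y hy _ ⟨x, rfl⟩
    refine ⟨⟨y, hy⟩ * x, ?_⟩
    show ((⟨y, hy⟩ : Y) * x) • ω0 = y • (x • ω0)
    rw [mul_smul]
    rfl
  -- `∞` and `0` are in the orbit
  have hboth : inf ∈ orbit Y ω0 ∧ zer ∈ orbit Y ω0 := by
    obtain ⟨r, hr, hr2, hrd, a, haA, har, ha18⟩ := exists_alpha D hK hm
    have hfr := Fact.mk hr
    let α : Y := ⟨h a, hA haA⟩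
    have hαo : orderOf α = r := by rw [← har]; exact Subgroup.orderOf_mk _ _
    have hZp : IsPGroup r (zpowers α) := IsPGroup.of_card (n := 1) (by rw [Nat.card_zpowers, hαo, pow_one])
    have hmod := hZp.card_modEq_card_fixedPoints (orbit Y ω0)
    rw [Nat.card_coe_set_eq, hO] at hmod
    have hfp : ∀ ω ∈ fixedPoints (zpowers α) (orbit Y ω0), (ω : G ⧸ ReeSplit.bSub D) = inf ∨ (ω : G ⧸ ReeSplit.bSub D) = zer := by
      intro ω hω
      apply fix_big D hK ha18
      have h1 := hω ⟨α, mem_zpowers α⟩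
      exact congrArg Subtype.val h1
    by_contra hcon
    have hsub : Subsingleton (fixedPoints (zpowers α) (orbit Y ω0)) := by
      refine ⟨?_⟩
      rintro ⟨⟨x, hx⟩, hx'⟩ ⟨⟨y, hy⟩, hy'⟩
      have h1 : x = inf ∨ x = zer := hfp _ hx'
      have h2 : y = inf ∨ y = zer := hfp _ hy'
      have h3 : x = y := by
        rcases h1 with rfl | rfl <;> rcases h2 with rfl | rfl
        · rfl
        · exact absurd ⟨hx, hy⟩ hcon
        · exact absurd ⟨hy, hx⟩ hcon
        · rfl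
      subst h3
      rfl
    have h1 : Nat.card (fixedPoints (zpowers α) (orbit Y ω0)) ≤ 1 := Finite.card_le_one_iff_subsingleton.2 hsub
    obtain ⟨k, hk⟩ := hrd
    have h2 : q + 1 = 2 + r * k := by (clear * - hq hk; omega)
    rw [h2] at hmod
    have h3 : 2 ≡ Nat.card (fixedPoints (zpowers α) (orbit Y ω0)) [MOD r] := by
      have h4 : 2 + r * k ≡ 2 [MOD r] := by
        have := Nat.modEq_zero_iff_dvd.2 (Dvd.intro k rfl : r ∣ r * k)
        exact (Nat.ModEq.refl 2).add this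
      exact h4.symm.trans hmod
    have hr3 : 3 ≤ r := by
      have := hr.two_le
      (clear * - hr2 this; omega)
    have h5 := Nat.ModEq.eq_of_lt_of_lt h3 (by omega) (by omega)
    omega
  obtain ⟨hI, hZ⟩ := hboth
  have hOmem : ∀ ω ∈ orbit Y ω0, ∀ ω' ∈ orbit Y ω0, ∃ y ∈ Y, y • ω = ω' := by
    rintro _ ⟨x, rfl⟩ _ ⟨x', rfl⟩
    refine ⟨((x' * x⁻¹ : Y) : G), (x' * x⁻¹).2, ?_⟩
    show (x' * x⁻¹ : Y) • x • ω0 = x' • ω0
    rw [mul_smul, inv_smul_smul]
  -- the group `E = Y ∩ U`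
  set E : Subgroup G := Y ⊓ ReeSylowThree.uSub D with hE
  have hEq : q ≤ Nat.card E := by
    obtain ⟨y, hy, hy1⟩ := hOmem ω0 (mem_orbit_self ω0) inf hI
    have h1 : y * g0 ∈ ReeSplit.bSub D := by
      have h2 : ((y * g0 : G) : G ⧸ ReeSplit.bSub D) = ((1 : G) : G ⧸ ReeSplit.bSub D) := hy1
      have h3 := (pt_eq D _ _).1 h2
      rw [mul_one] at h3
      have := inv_mem h3
      rwa [inv_inv] at this
    refine hPq.trans (Nat.card_le_card_of_injective (fun x : (P : Subgroup Y) =>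
      (⟨y * (x : Y) * y⁻¹, mem_inf.2 ⟨mul_mem (mul_mem hy (x : Y).2) (inv_mem hy), ?_⟩⟩ : E)) ?_)
    · have h2 := ReeSplit.conj_mem_uSub D h1 (hPg _ x.2)
      have e : y * g0 * (g0⁻¹ * ((x : Y) : G) * g0) * (y * g0)⁻¹ = y * ((x : Y) : G) * y⁻¹ := by group
      rwa [e] at h2
    · intro x x' e
      have e1 : y * ((x : Y) : G) * y⁻¹ = y * ((x' : Y) : G) * y⁻¹ := Subtype.ext_iff.1 e
      exact Subtype.ext (Subtype.ext (mul_left_cancel (mul_right_cancel e1)))
  have hfE : ∀ x ∈ E, x • zer ∈ orbit Y ω0 \ {inf} := by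
    intro x hx
    refine ⟨hinv x (mem_inf.1 hx).1 _ hZ, fun e => hiz ?_⟩
    have h1 : x • zer = inf := e
    have h2 := hfixB x (ReeSplit.uSub_le_bSub D (mem_inf.1 hx).2)
    exact MulAction.injective x (h1.trans h2.symm)
  have hinj : Set.InjOn (fun x : G => x • zer) (E : Set G) := by
    intro x hx y hy e
    exact free_U D (mem_inf.1 hx).2 (mem_inf.1 hy).2 e
  have hcard1 : (orbit Y ω0 \ {inf}).ncard = q := by
    rw [Set.ncard_sdiff_singleton_of_mem hI, hO, Nat.add_sub_cancel]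
  have hcard2 : ((fun x : G => x • zer) '' (E : Set G)).ncard = Nat.card E := by
    rw [hinj.ncard_image]
    exact (Nat.card_coe_set_eq (E : Set G)).symm
  have himg : (fun x : G => x • zer) '' (E : Set G) = orbit Y ω0 \ {inf} := by
    apply Set.eq_of_subset_of_ncard_le
    · rintro _ ⟨x, hx, rfl⟩
      exact hfE x hx
    · rw [hcard1, hcard2]
      exact hEq
    · exact Set.toFinite _
  have hEcard : Nat.card E = q := by rw [← hcard2, himg, hcard1]
  have hsurj : ∀ ω ∈ orbit Y ω0, ω ≠ inf → ∃ x ∈ E, ω = x • zer := by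
    intro ω hω hne
    have h1 : ω ∈ orbit Y ω0 \ {inf} := ⟨hω, hne⟩
    rw [← himg] at h1
    obtain ⟨x, hx, rfl⟩ := h1
    exact ⟨x, hx, rfl⟩
  -- the torus commutes with the involution
  have htor : ∀ b : Kˣ, h b * h (-1) = h (-1) * h b := fun b => D.h_comm _ _
  have htB : h (-1) ∈ ReeSplit.bSub D := ReeSplit.h_mem_bSub D _
  have hfix2 : ∀ x : G, x • inf = inf → x • zer = zer → ∃ b, x = h b := by
    intro x h1 h2
    rw [← ReeSplit.mem_hSub D, ← inf_eq D]
    exact mem_inf.2 ⟨hmemB x h1, (fix_iff D x n).1 h2⟩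
  -- the element `w1`
  obtain ⟨w1, hw1, hw1c⟩ : ∃ w1 ∈ Y, w1 • inf = zer ∧ w1 * h (-1) = h (-1) * w1 := by
    obtain ⟨y1, hy1, e1⟩ := hOmem inf hI zer hZ
    obtain ⟨x, hx, e2⟩ := hsurj (y1⁻¹ • inf) (hinv _ (inv_mem hy1) _ hI) (by
      intro e
      rw [inv_smul_eq_iff] at e
      exact hiz (e1.symm.trans e.symm))
    have hxB := hfixB x (ReeSplit.uSub_le_bSub D (mem_inf.1 hx).2)
    have h1 : (y1 * x) • inf = zer := by rw [mul_smul, hxB, e1]
    have h2 : (y1 * x) • zer = inf := by rw [mul_smul, ← e2, smul_inv_smul]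
    have hnz : n • zer = inf := by
      show ((n * n : G) : G ⧸ ReeSplit.bSub D) = _
      rw [D.n_n]
    have hni : n • inf = zer := by
      show ((n * 1 : G) : G ⧸ ReeSplit.bSub D) = _
      rw [mul_one]
    obtain ⟨b, hb⟩ := hfix2 (n * (y1 * x)) (by rw [mul_smul, h1, hnz]) (by rw [mul_smul, h2, hni])
    refine ⟨y1 * x, mul_mem hy1 (mem_inf.1 hx).1, h1, ?_⟩
    have h3 : y1 * x = n * h b := by
      rw [← hb, ← mul_assoc, D.n_n, one_mul]
    rw [h3, mul_assoc, htor, ← mul_assoc, D.n_h, inv_neg_one, mul_assoc]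
  obtain ⟨hw1i, hw1t⟩ := hw1c
  have hEt : ∀ x ∈ E, h (-1) * x * (h (-1))⁻¹ ∈ E := by
    intro x hx
    exact mem_inf.2 ⟨ht x (mem_inf.1 hx).1, ReeSplit.conj_mem_uSub D htB (mem_inf.1 hx).2⟩
  -- the dichotomy
  let C : Subgroup G := E ⊓ centralizer {h (-1)}
  have hCE : C ≤ E := inf_le_left
  have hdvd := card_modA D hK (C := C) (hCE.trans inf_le_right) (by
    intro x hx c hc
    have hxB : x ∈ ReeSplit.bSub D := by
      obtain ⟨b, rfl⟩ := (ReeSplit.mem_hSub D).1 (ReeSplit.aSub_le D hx)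
      exact ReeSplit.h_mem_bSub D b
    refine mem_inf.2 ⟨mem_inf.2 ⟨mul_mem (mul_mem (hA hx) (mem_inf.1 (mem_inf.1 hc).1).1) (inv_mem (hA hx)),
      ReeSplit.conj_mem_uSub D hxB (mem_inf.1 (mem_inf.1 hc).1).2⟩, ?_⟩
    have h1 : x ∈ centralizer {h (-1)} := by
      obtain ⟨b, rfl⟩ := (ReeSplit.mem_hSub D).1 (ReeSplit.aSub_le D hx)
      exact mem_centralizer_singleton_iff.2 (htor b)
    exact mul_mem (mul_mem h1 (mem_inf.1 hc).2) (inv_mem h1))
  have hCodd : Nat.card C % 2 = 1 := by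
    have h1 : Nat.card C ∣ q ^ 3 := by
      rw [← Dl.card_U]
      exact Subgroup.card_dvd_of_le (hCE.trans inf_le_right)
    have h2 : (q ^ 3) % 2 = 1 := by
      have : q % 2 = 1 := by omega
      rw [Nat.pow_mod, this]
    have h3 : Odd (Nat.card C) := Odd.of_dvd_nat (Nat.odd_iff.2 h2) h1
    exact Nat.odd_iff.1 h3
  have hCle : Nat.card C ≤ q := by
    rw [← hEcard]
    exact Subgroup.card_le_of_le hCE
  have hC0 : 0 < Nat.card C := Nat.card_pos
  rw [← hqdef] at hdvd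
  have hdich : C = ⊥ ∨ C = E := by
    obtain ⟨j, hj⟩ := hdvd
    have hj3 : j < 3 := by
      by_contra hcon
      have h1 : (q - 1) / 2 * 3 ≤ (q - 1) / 2 * j := Nat.mul_le_mul_left _ (by omega)
      (clear * - hCodd hCle hj h1; omega)
    rcases (by omega : j = 0 ∨ j = 1 ∨ j = 2) with rfl | rfl | rfl
    · left
      exact Subgroup.card_eq_one.1 (by (clear * - hCodd hj; omega))
    · exfalso
      omega
    · right
      apply Subgroup.eq_of_le_of_card_ge hCE
      rw [hEcard]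
      omega
  rcases hdich with hC | hC
  · exfalso
    obtain ⟨V, hVY, hV4, hVc⟩ := hV
    have hVfix : ∀ v ∈ V, v • inf = inf ∨ v • inf = zer := by
      intro v hv
      by_cases h1 : v • inf = inf
      · exact Or.inl h1
      right
      obtain ⟨x, hx, e⟩ := hsurj (v • inf) (hinv v (hVY hv) _ hI) h1
      have h2 : h (-1) • (v • inf) = v • inf := by
        rw [← mul_smul, ← (hVc v hv).2, mul_smul, hfixB _ htB]
      have h3 : h (-1) * x * (h (-1))⁻¹ = x := by
        apply free_U D (mem_inf.1 (hEt x hx)).2 (mem_inf.1 hx).2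
        have h4 : (h (-1))⁻¹ • zer = zer := by
          rw [inv_smul_eq_iff]
          exact ((fix_iff D _ _).2 (h_mem_cj D _)).symm
        show (h (-1) * x * (h (-1))⁻¹) • zer = x • zer
        rw [mul_smul, h4, mul_smul, ← e, h2]
      have h4 : x ∈ C := mem_inf.2 ⟨hx, mem_centralizer_singleton_iff.2 (mul_inv_eq_iff_eq_mul.1 h3).symm⟩
      rw [hC, mem_bot] at h4
      rw [e, h4, one_smul]
    obtain ⟨v, hv, hv1, hvi⟩ : ∃ v ∈ V, v ≠ 1 ∧ v • inf = inf := by
      by_contra hcon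
      push Not at hcon
      have h1 : Nat.card V ≤ Nat.card ({inf, zer} : Set (G ⧸ ReeSplit.bSub D)) := by
        refine Nat.card_le_card_of_injective (fun v : V => (⟨v • inf, ?_⟩ : ({inf, zer} : Set (G ⧸ ReeSplit.bSub D)))) ?_
        · rcases hVfix v v.2 with h2 | h2
          · exact Or.inl h2
          · exact Or.inr h2
        · intro v v' e
          have e1 : (v : G) • inf = (v' : G) • inf := Subtype.ext_iff.1 e
          by_contra hne
          apply hcon ((v' : G)⁻¹ * v) (mul_mem (inv_mem v'.2) v.2)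
          · intro e2
            rw [inv_mul_eq_one] at e2
            exact hne (Subtype.ext e2.symm)
          · rw [mul_smul, e1, inv_smul_smul]
      have h2 : Nat.card ({inf, zer} : Set (G ⧸ ReeSplit.bSub D)) = 2 := by
        rw [Nat.card_coe_set_eq, Set.ncard_pair hiz.symm]
      omega
    -- the stabiliser of `∞` in `Y` has odd order
    have h1 : Nat.card Y = Nat.card (stabilizer Y inf) * (q + 1) := by
      rw [← hO]
      have h2 : orbit Y ω0 = orbit Y inf := (orbit_eq_iff.2 hI).symm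
      rw [h2, ← MulAction.index_stabilizer, Subgroup.card_mul_index]
    have h2 : 2 ∣ Nat.card (stabilizer Y inf) := by
      have h3 : (⟨v, hVY hv⟩ : Y) ∈ stabilizer Y inf := hvi
      have h4 : orderOf (⟨⟨v, hVY hv⟩, h3⟩ : stabilizer Y inf) = 2 := by
        apply orderOf_eq_prime
        · apply Subtype.ext
          apply Subtype.ext
          show v ^ 2 = 1
          rw [pow_two]
          exact (hVc v hv).1
        · intro e
          exact hv1 (congrArg (fun z : stabilizer Y inf => ((z : Y) : G)) e)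
      rw [← h4]
      exact orderOf_dvd_natCard _
    obtain ⟨l, hl⟩ := h2
    obtain ⟨t, ht'⟩ : ∃ t, q = 8 * t + 3 := ⟨q / 8, by omega⟩
    rw [h1, hl] at hY
    have h3 : (q ^ 2 - 1) = (q - 1) * (q + 1) := by
      obtain ⟨s, hs⟩ : ∃ s, q = s + 1 := ⟨q - 1, by (clear * - hq; omega)⟩
      rw [hs, Nat.add_sub_cancel]
      have : (s + 1) ^ 2 = s * (s + 1 + 1) + 1 := by ring
      omega
    rw [h3] at hY
    have h4 : 4 * l = q * (q - 1) := by
      have : (4 * l) * (q + 1) = (q * (q - 1)) * (q + 1) := by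
        calc (4 * l) * (q + 1) = 2 * (2 * l * (q + 1)) := by ring
          _ = q * ((q - 1) * (q + 1)) := hY
          _ = _ := by ring
      exact Nat.eq_of_mul_eq_mul_right (by omega) this
    have h5 : q * (q - 1) = 4 * (16 * t * t + 10 * t + 1) + 2 := by
      rw [ht']
      have : 8 * t + 3 - 1 = 8 * t + 2 := by (clear * -; omega)
      rw [this]
      ring
    omega
  -- the involution centralises `E`
  have hEc : ∀ x ∈ E, x * h (-1) = h (-1) * x := by
    intro x hx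
    rw [← hC] at hx
    exact mem_centralizer_singleton_iff.1 (mem_inf.1 hx).2
  have hBc : ∀ y ∈ Y, y • inf = inf → y * h (-1) = h (-1) * y := by
    intro y hy hyi
    obtain ⟨x, hx, e⟩ := hsurj (y • zer) (hinv y hy _ hZ) (by
      intro e
      exact hiz (MulAction.injective y (e.trans hyi.symm)))
    have hxB := hfixB x (ReeSplit.uSub_le_bSub D (mem_inf.1 hx).2)
    obtain ⟨b, hb⟩ := hfix2 (x⁻¹ * y) (by rw [mul_smul, hyi, inv_smul_eq_iff, hxB]) (by
      rw [mul_smul, e, inv_smul_smul])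
    have h1 : y = x * h b := by rw [← hb]; group
    rw [h1, mul_assoc, htor, ← mul_assoc, hEc x hx, mul_assoc]
  intro y hy
  by_cases hyi : y • inf = inf
  · exact hBc y hy hyi
  obtain ⟨x, hx, e⟩ := hsurj (y • inf) (hinv y hy _ hI) hyi
  have h1 := hBc ((x * w1)⁻¹ * y) (mul_mem (inv_mem (mul_mem (mem_inf.1 hx).1 hw1)) hy) (by
    rw [mul_smul, e, inv_smul_eq_iff, mul_smul, hw1i])
  have h2 : (x * w1) * h (-1) = h (-1) * (x * w1) := by
    rw [mul_assoc, hw1t, ← mul_assoc, hEc x hx, mul_assoc]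
  calc y * h (-1) = (x * w1) * (((x * w1)⁻¹ * y) * h (-1)) := by group
    _ = (x * w1) * h (-1) * ((x * w1)⁻¹ * y) := by rw [h1]; group
    _ = h (-1) * (x * w1) * ((x * w1)⁻¹ * y) := by rw [h2]
    _ = h (-1) * y := by group

end Cfsg.Agent.H137.EPX.R1Ree
end

-- part: H137/EPX/R1ReeC
section
/-!
# The rank one data of a small Ree group (own characteristic), part C (helper137)

`ov_main` : a proper subgroup which contains the torus `T0` is in `B`, in `B^n` or in the centraliser of `h(-1)`.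
-/

set_option autoImplicit false
set_option linter.unusedSectionVars false

namespace Cfsg.Agent.H137.EPX.R1Ree

open Subgroup Cfsg.Agent.H284 Cfsg.Agent.H470.EPO MulAction
open Cfsg.Agent.LieRecognition
open Cfsg.Agent.LieRecognition.ReeAbs
open Cfsg.Agent.H963 Cfsg.Agent.H963.ReeCtx Cfsg.Agent.H963.ReeSep Cfsg.Agent.H963.ReeSepB
open scoped Pointwise

section arith

theorem num168 {q : ℕ} (h27 : 27 ≤ q) (h8 : q % 8 = 3) (h9 : q % 9 = 0) : ¬ (q - 1) ∣ 168 := by
  intro h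
  have h1 := Nat.le_of_dvd (by norm_num) h
  rcases (by omega : q = 27 ∨ q = 99) with rfl | rfl
  · norm_num at h
  · norm_num at h

theorem num6 {q c : ℕ} (h27 : 27 ≤ q) (h : (q - 1) ∣ 6 * c) (hc : c = q + 1 ∨ c ∣ q ^ 2 - q + 1) : False := by
  obtain ⟨s, rfl⟩ : ∃ s, q = s + 1 := ⟨q - 1, by omega⟩
  rw [Nat.add_sub_cancel] at h
  rcases hc with rfl | hc
  · have h1 : 6 * (s + 1 + 1) = s * 6 + 12 := by ring
    rw [h1] at h
    have h2 := (Nat.dvd_add_right (Nat.dvd_mul_right s 6)).1 h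
    have := Nat.le_of_dvd (by norm_num) h2
    omega
  · have h0 : (s + 1) ^ 2 - (s + 1) + 1 = s * (s + 1) + 1 := by
      have : (s + 1) ^ 2 = s * (s + 1) + (s + 1) := by ring
      omega
    rw [h0] at hc
    have h1 : s ∣ 6 * (s * (s + 1) + 1) := h.trans (Nat.mul_dvd_mul_left 6 hc)
    have h2 : 6 * (s * (s + 1) + 1) = s * (6 * (s + 1)) + 6 := by ring
    rw [h2] at h1
    have h3 := (Nat.dvd_add_right (Nat.dvd_mul_right s _)).1 h1
    have := Nat.le_of_dvd (by norm_num) h3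
    omega

theorem num8 {m : ℕ} (hm : 1 ≤ m) : ¬ (3 ^ (2 * m + 1) - 1) ∣ 21 * 504 := by
  intro h
  have h1 := Nat.le_of_dvd (by norm_num) h
  have h2 : m ≤ 3 := by
    by_contra hcon
    have h3 : 3 ^ 9 ≤ 3 ^ (2 * m + 1) := Nat.pow_le_pow_right (by norm_num) (by omega)
    norm_num at h3
    omega
  interval_cases m
  · norm_num at h
  · norm_num at h
  · norm_num at h

theorem copA {m : ℕ} : Nat.Coprime ((3 ^ (2 * m + 1) - 1) / 2) (6 * (3 ^ (2 * m + 1) + 1)) := by
  have h8 := (ReeClass.arith m).q8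
  have h3 : 3 ^ (2 * m + 1) % 3 = 0 := by
    rw [pow_succ]; (clear * -; omega)
  generalize 3 ^ (2 * m + 1) = q at h8 h3
  obtain ⟨k, rfl⟩ : ∃ k, q = 8 * k + 3 := ⟨q / 8, by omega⟩
  have e : (8 * k + 3 - 1) / 2 = 4 * k + 1 := by (clear * -; omega)
  have e' : 6 * (8 * k + 3 + 1) = 2 * (2 * (2 * (3 * (2 * k + 1)))) := by ring
  rw [e, e']
  have h1 : Nat.Coprime (4 * k + 1) 2 := by
    have : IsCoprime ((4 * k + 1 : ℕ) : ℤ) ((2 : ℕ) : ℤ) := ⟨1, -(2 * k), by push_cast; ring⟩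
    exact Nat.isCoprime_iff_coprime.1 this
  have h2 : Nat.Coprime (4 * k + 1) (2 * k + 1) := by
    have : IsCoprime ((4 * k + 1 : ℕ) : ℤ) ((2 * k + 1 : ℕ) : ℤ) := ⟨-1, 2, by push_cast; ring⟩
    exact Nat.isCoprime_iff_coprime.1 this
  have h4 : Nat.Coprime (4 * k + 1) 3 := by
    rw [Nat.coprime_comm, Nat.prime_three.coprime_iff_not_dvd]
    omega
  exact h1.mul_right (h1.mul_right (h1.mul_right (h4.mul_right h2)))

theorem cop3 {m : ℕ} (c : ℕ) : Nat.Coprime ((3 ^ (2 * m + 1) - 1) / 2) (3 ^ c) := by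
  have h1 : Nat.Coprime ((3 ^ (2 * m + 1) - 1) / 2) 3 :=
    Nat.Coprime.coprime_dvd_right ⟨2 * (3 ^ (2 * m + 1) + 1), by ring⟩ (copA (m := m))
  exact h1.pow_right c

theorem exp_eq {m c : ℕ} (hc : c ≤ 2 * m + 1) (hc0 : 0 < c)
    (h : (3 ^ (2 * m + 1) - 1) ∣ 3 ^ (2 * c) - 1) : c = 2 * m + 1 := by
  have h1 := Nat.gcd_eq_left h
  rw [Nat.pow_sub_one_gcd_pow_sub_one] at h1
  have h2 : 3 ^ (2 * m + 1).gcd (2 * c) = 3 ^ (2 * m + 1) := by
    have h3 : 0 < 3 ^ (2 * m + 1).gcd (2 * c) := by positivity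
    have h4 : 0 < 3 ^ (2 * m + 1) := by positivity
    omega
  have h3 := Nat.pow_right_injective (le_refl 2 |>.trans (by norm_num : 2 ≤ 3)) h2
  have h4 : (2 * m + 1) ∣ 2 * c := by
    rw [← h3]
    exact Nat.gcd_dvd_right _ _
  have h5 : Nat.Coprime (2 * m + 1) 2 := by
    rw [Nat.coprime_comm, Nat.prime_two.coprime_iff_not_dvd]
    omega
  have h6 := Nat.le_of_dvd hc0 (h5.dvd_of_dvd_mul_left h4)
  omega

end arith

variable {K : Type} [Field K] [Fintype K] {G : Type} [Group G] [Finite G] {m : ℕ} {U : K → K → K → G} {h : Kˣ → G}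
  {n : G} (D : ReeAbs.Data m U h n)

include D

variable (hK : Fintype.card K = 3 ^ (2 * m + 1)) (C : Ctx G m)

include hK C

theorem dvd_cardX {X : Subgroup G} (hX : ReeSplit.hSub D ≤ X) : 3 ^ (2 * m + 1) - 1 ∣ Nat.card X := by
  have h1 := Subgroup.card_dvd_of_le hX
  rwa [ReeSplit.card_hSub D, hK] at h1

/-- normal 3-subgroups -/
theorem three_case {X : Subgroup G} (hX : ReeSplit.hSub D ≤ X) {M : Subgroup G} (hM : IsPGroup 3 M) (hM1 : M ≠ ⊥)
    (hn : ∀ g ∈ X, ∀ x ∈ M, g⁻¹ * x * g ∈ M) : X ≤ ReeSplit.bSub D ∨ X ≤ cj n (ReeSplit.bSub D) := by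
  obtain ⟨R, hR⟩ := hM.exists_le_sylow
  obtain ⟨R0, hR0⟩ := Cfsg.Agent.H247.EPR.exists_sylow_uSub D hK
  obtain ⟨g, rfl⟩ := MulAction.exists_smul_eq G R0 R
  have hMg : ∀ x ∈ M, g⁻¹ * x * g ∈ ReeSylowThree.uSub D := by
    intro x hx
    have h1 : x ∈ MulAut.conj g • (R0 : Subgroup G) := hR hx
    rw [Subgroup.mem_pointwise_smul_iff_inv_smul_mem, hR0] at h1
    have e : (MulAut.conj g)⁻¹ • x = g⁻¹ * x * g := by
      rw [← map_inv]
      show g⁻¹ * x * g⁻¹⁻¹ = _
      rw [inv_inv]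
    rwa [e] at h1
  obtain ⟨⟨z, hz⟩, hz1'⟩ := Subgroup.ne_bot_iff_exists_ne_one.1 hM1
  have hz1 : z ≠ 1 := fun e => hz1' (Subtype.ext e)
  have hXg : X ≤ cj g (ReeSplit.bSub D) := by
    intro x hx
    rw [mem_cj]
    apply ReeSplit.mem_bSub_of_inv_conj_mem D (hMg z hz) (fun e => hz1 (by
      have e1 : z = g * (g⁻¹ * z * g) * g⁻¹ := by group
      rwa [e, mul_one, mul_inv_cancel] at e1))
    have e : (g⁻¹ * x * g)⁻¹ * (g⁻¹ * z * g) * (g⁻¹ * x * g) = g⁻¹ * (x⁻¹ * z * x) * g := by group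
    rw [e]
    exact hMg _ (hn x hx z hz)
  obtain ⟨a, ha⟩ := exists_big D hK C.hm
  rcases cj_of_mem D hK ha (hXg (hX ((ReeSplit.mem_hSub D).2 ⟨a, rfl⟩))) with ⟨h1, -⟩ | ⟨h1, -⟩
  · exact Or.inl (by rwa [h1] at hXg)
  · exact Or.inr (by rwa [h1] at hXg)

omit C in
theorem nSub_le : ReeSplit.nSub D ≤ centralizer {h (-1)} := by
  intro g hg
  rw [mem_centralizer_singleton_iff]
  rcases (ReeSplit.mem_nSub D).1 hg with ⟨a, rfl⟩ | ⟨a, rfl⟩
  · exact D.h_comm _ _
  · rw [mul_assoc, D.n_h, inv_neg_one, ← mul_assoc, D.h_comm, mul_assoc]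

/-- normal `s`-subgroups, `s ≥ 5` -/
theorem five_case {X : Subgroup G} (hX : ReeSplit.hSub D ≤ X) {s : ℕ} (hs : s.Prime) (hs2 : s ≠ 2) (hs3 : s ≠ 3)
    {M0 : Subgroup X} (hMn : M0.Normal) (hM : IsPGroup s M0) (hM1 : M0 ≠ ⊥) : X ≤ centralizer {h (-1)} := by
  classical
  have hfs := Fact.mk hs
  have A := ar C.hm
  have hq27 := A.q27
  have hdX := dvd_cardX D hK C hX
  set M := M0.map X.subtype with hMdef
  have hMp : IsPGroup s M := hM.map _
  have hMne : M ≠ ⊥ := map_ne_bot hM1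
  have hMnorm := map_norm hMn
  set H0 : Subgroup X := (ReeSplit.hSub D).subgroupOf X with hH0
  have hH0c : Nat.card H0 = 3 ^ (2 * m + 1) - 1 := by
    rw [hH0, Nat.card_congr (Subgroup.subgroupOfEquivOfLe hX).toEquiv, ReeSplit.card_hSub D, hK]
  have hidx := H0.card_mul_index
  rw [hH0c] at hidx
  have hdvd : ¬ s ∣ H0.index := by
    intro hsd
    rcases C.odd X M s hs hs2 hMp hMne hMnorm with h1 | h1 | h1 | h1 | h1
    · rw [← hidx, mul_comm] at h1
      have h2 : H0.index ∣ (3 ^ (2 * m + 1)) ^ 3 := Nat.dvd_of_mul_dvd_mul_right (by omega) h1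
      have h3 := hs.dvd_of_dvd_pow (hsd.trans h2)
      exact hs3 ((Nat.prime_dvd_prime_iff_eq hs Nat.prime_three).1 (hs.dvd_of_dvd_pow h3))
    · rw [← hidx, mul_comm] at h1
      have h2 : H0.index ∣ 2 := Nat.dvd_of_mul_dvd_mul_right (by omega) h1
      exact hs2 ((Nat.prime_dvd_prime_iff_eq hs Nat.prime_two).1 (hsd.trans h2))
    · exact num6 hq27 (hdX.trans h1) (Or.inl rfl)
    · exact num6 hq27 (hdX.trans h1) (Or.inr (IsA.dvd (Or.inl rfl)))
    · exact num6 hq27 (hdX.trans h1) (Or.inr (IsA.dvd (Or.inr rfl)))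
  obtain ⟨ξ, hξ⟩ := hM.nonempty_fixed_point_of_prime_not_dvd_card (X ⧸ H0) hdvd
  obtain ⟨x, rfl⟩ := QuotientGroup.mk_surjective ξ
  have hMH : M0 ≤ H0 := by
    intro y hy
    have h1 : x * y * x⁻¹ ∈ M0 := hMn.conj_mem y hy x
    have h2 := hξ ⟨_, h1⟩
    have h3 : ((x * y * x⁻¹ * x : X) : X ⧸ H0) = (x : X ⧸ H0) := h2
    rw [QuotientGroup.eq] at h3
    have e : (x * y * x⁻¹ * x)⁻¹ * x = y⁻¹ := by group
    rw [e] at h3
    have := inv_mem h3
    rwa [inv_inv] at this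
  have hMA : M ≤ ReeSplit.aSub D := by
    rintro _ ⟨y, hy, rfl⟩
    apply ReeSplit.mem_aSub_of_odd D hK (hMH hy)
    obtain ⟨k, hk⟩ := IsPGroup.iff_orderOf.1 hM ⟨y, hy⟩
    rw [Subgroup.orderOf_mk] at hk
    have : orderOf (X.subtype y) = orderOf y := orderOf_injective _ X.subtype_injective y
    rw [this, hk]
    exact (hs.odd_of_ne_two hs2).pow
  have h1 := le_normalizer_of hMnorm
  rw [ReeSplit.normalizer_eq D hK hMA hMne] at h1
  exact h1.trans (nSub_le D hK)

/-- normal 2-subgroups -/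
theorem two_case {X : Subgroup G} (hX : ReeSplit.hSub D ≤ X) {M0 : Subgroup X} (hMn : M0.Normal) (hM : IsPGroup 2 M0)
    (hM1 : M0 ≠ ⊥) : X ≤ centralizer {h (-1)} := by
  classical
  have A := ar C.hm
  have hq27 := A.q27
  have hdX := dvd_cardX D hK C hX
  set M' := M0.map X.subtype with hM'
  have hM'p : IsPGroup 2 M' := hM.map _
  have hM'1 : M' ≠ ⊥ := map_ne_bot hM1
  have hM'n := map_norm hMn
  have hXM := le_normalizer_of hM'n
  obtain ⟨P, hP⟩ := hM'p.exists_le_sylow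
  have hd : Nat.card M' ∣ 2 ^ 3 := by
    have := Subgroup.card_dvd_of_le hP
    have h4 : Nat.card (P : Subgroup G) = 8 := C.card2 P
    rw [h4] at this
    exact this
  obtain ⟨k, hk, hk'⟩ := (Nat.dvd_prime_pow Nat.prime_two).1 hd
  have hk4 : k = 0 ∨ k = 1 ∨ k = 2 ∨ k = 3 := by omega
  rcases hk4 with rfl | rfl | rfl | rfl
  · rw [pow_zero] at hk'
    exact absurd (Subgroup.eq_bot_of_card_eq _ hk') hM'1
  · rw [pow_one] at hk'
    obtain ⟨⟨x, hx⟩, hx1'⟩ := Subgroup.ne_bot_iff_exists_ne_one.1 hM'1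
    have hx1 : x ≠ 1 := fun h => hx1' (Subtype.ext h)
    have hxx := two_sq C hM'p x hx
    have hox : orderOf x = 2 := orderOf_eq_prime (by rw [pow_two, hxx]) hx1
    have hz : zpowers x = M' := by
      apply Subgroup.eq_of_le_of_card_ge
      · rw [Subgroup.zpowers_le]; exact hx
      · rw [Nat.card_zpowers, hox, hk']
    have h1 : ∀ y ∈ M', y = 1 ∨ y = x := by
      intro y hy
      rw [← hz, Subgroup.mem_zpowers_iff] at hy
      obtain ⟨n, rfl⟩ := hy
      rcases Int.even_or_odd' n with ⟨c, rfl | rfl⟩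
      · left
        rw [zpow_mul, zpow_ofNat, pow_two, hxx, one_zpow]
      · right
        rw [zpow_add, zpow_mul, zpow_ofNat, pow_two, hxx, one_zpow, one_mul, zpow_one]
    have h2 : X ≤ centralizer {x} := by
      intro g hg
      rw [mem_centralizer_singleton_iff]
      rcases h1 _ (hM'n g hg x hx) with h3 | h3
      · exfalso
        apply hx1
        calc x = g * (g⁻¹ * x * g) * g⁻¹ := by group
          _ = 1 := by rw [h3]; group
      · calc g * x = g * (g⁻¹ * x * g) := by rw [h3]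
          _ = x * g := by group
    obtain ⟨a, ha⟩ := exists_big D hK C.hm
    have h3 := mem_centralizer_singleton_iff.1 (h2 (hX ((ReeSplit.mem_hSub D).2 ⟨a, rfl⟩)))
    have h4 : x ∈ centralizer {h a} := mem_centralizer_singleton_iff.2 h3.symm
    rw [ReeSplit.centralizer_h D hK (sq_ne_of_big D hK ha)] at h4
    obtain ⟨b, rfl⟩ := (ReeSplit.mem_hSub D).1 h4
    have h5 : b ^ 2 = 1 := by
      rw [← ReeSplit.h_eq_iff D, ReeSplit.h_pow D, pow_two, hxx, D.h_one]
    rcases ReeSplit.eq_one_or_neg_one_of_sq h5 with rfl | rfl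
    · exact absurd D.h_one hx1
    · exact h2
  · exfalso
    have h1 := C.four M' (by rw [hk']; norm_num) (two_sq C hM'p)
    have h2 := Subgroup.card_dvd_of_le hXM
    rw [h1] at h2
    exact num6 hq27 (hdX.trans h2) (Or.inl rfl)
  · exfalso
    have h1 : M' = P := Subgroup.eq_of_le_of_card_ge hP (by
      rw [hk']
      exact (C.card2 P).le)
    have h2 := Subgroup.card_dvd_of_le hXM
    rw [← hM', h1, C.norm2 P] at h2
    exact num168 hq27 A.q8 A.q9 (hdX.trans h2)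

/-- the torus is in no small Ree group -/
theorem ree_case {X : Subgroup G} (hX : ReeSplit.hSub D ≤ X) (hXt : X ≠ ⊤) (Y : Subgroup X) (hYn : Y.Normal) {l : ℕ}
    (hl : Ctx Y l) : False := by
  have hYt : Y = ⊤ := (big_two C X Y hYn (card_sylow_dvd hl.card2)).2 hl.norm2
  have A := ar C.hm
  have Al := ar hl.hm
  have hlt : 3 ^ (2 * l + 1) < 3 ^ (2 * m + 1) := by
    by_contra hcon
    apply hXt
    rw [← Subgroup.card_eq_iff_eq_top]
    apply le_antisymm (Subgroup.card_le_card_group X)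
    exact (card_mono C hl (not_lt.1 hcon)).trans (Subgroup.card_le_card_group Y)
  have hlm : l < m := by
    by_contra hcon
    exact absurd hlt (not_lt.2 (Nat.pow_le_pow_right (by norm_num) (by omega)))
  have h9 : 9 * 3 ^ (2 * l + 1) ≤ 3 ^ (2 * m + 1) := by
    calc 9 * 3 ^ (2 * l + 1) = 3 ^ (2 * l + 1 + 2) := by rw [pow_add]; ring
      _ ≤ 3 ^ (2 * m + 1) := Nat.pow_le_pow_right (by norm_num) (by omega)
  obtain ⟨⟨c, hc⟩, hcg⟩ := (ReeSplit.isCyclic_hSub D).exists_generator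
  have hco : orderOf c = 3 ^ (2 * m + 1) - 1 := by
    have h1 := orderOf_eq_card_of_forall_mem_zpowers hcg
    rwa [ReeSplit.card_hSub D, hK, Subgroup.orderOf_mk] at h1
  have hcY : (⟨c, hX hc⟩ : X) ∈ Y := by rw [hYt]; trivial
  have h1 := hl.orders ⟨⟨c, hX hc⟩, hcY⟩
  have h2 : orderOf (⟨⟨c, hX hc⟩, hcY⟩ : Y) = 3 ^ (2 * m + 1) - 1 := by
    rw [← hco, Subgroup.orderOf_mk, Subgroup.orderOf_mk]
  rw [h2] at h1
  have h27 := A.q27
  have hl27 := Al.q27
  have hls := Al.sle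
  rcases h1 with h1 | h1 | h1 | h1 | h1 | h1
  · have := Nat.le_of_dvd (by norm_num) h1; omega
  · have := Nat.le_of_dvd (by norm_num) h1; omega
  · have := Nat.le_of_dvd (by omega) h1; omega
  · have := Nat.le_of_dvd (by omega) h1; omega
  · have := Nat.le_of_dvd (by omega) h1; omega
  · have := Nat.le_of_dvd (by omega) h1; omega

/-- `L₂(3^c)` -/
theorem three_psl {X : Subgroup G} (hX : ReeSplit.hSub D ≤ X) (hfit : Fit X) (Y : Subgroup X) (hYn : Y.Normal)
    [IsSimpleGroup Y] (hYna : ¬ IsMulCommutative Y) (h4 : 4 ∣ Nat.card Y) {F : Type} [Field F] [Fintype F]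
    (hF : Fintype.card F % 8 = 3 ∨ Fintype.card F % 8 = 5) {c : ℕ} (hc : Fintype.card F = 3 ^ c)
    (hcm : c ≤ 2 * m + 1) (e : Y ≃* Matrix.ProjectiveSpecialLinearGroup (Fin 2) F) : False := by
  classical
  have A := ar C.hm
  have hq27 := A.q27
  have hq8 := A.q8
  have htX : h (-1) ∈ X := hX ((ReeSplit.mem_hSub D).2 ⟨_, rfl⟩)
  have h1 := Cfsg.Agent.SmallSimple.PSLTwoPart.card_psl_two_odd (F := F) (by rw [Nat.odd_iff]; omega)
  rw [← Nat.card_congr e.toEquiv] at h1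
  have hno8 := (psl_four hF h1).2
  have fact2 : Fact (Nat.Prime 2) := ⟨Nat.prime_two⟩
  obtain ⟨P⟩ : Nonempty (Sylow 2 Y) := inferInstance
  have hP4 : Nat.card (P : Subgroup Y) = 4 := by
    have h2 : 2 ^ 2 ∣ Nat.card (P : Subgroup Y) := P.pow_dvd_card_of_pow_dvd_card (by norm_num only []; exact h4)
    obtain ⟨k, hk⟩ := IsPGroup.iff_card.1 P.isPGroup'
    have h3 : k = 2 := by
      rw [hk] at h2
      have h5 := (Nat.pow_dvd_pow_iff_le_right (by norm_num)).1 h2
      by_contra hne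
      apply hno8
      calc 8 = 2 ^ 3 := by norm_num
        _ ∣ 2 ^ k := pow_dvd_pow 2 (by omega)
        _ ∣ Nat.card Y := by rw [← hk]; exact Subgroup.card_subgroup_dvd_card _
    rw [hk, h3]
    norm_num
  set P' : Subgroup X := P.map Y.subtype with hP'
  have hP'4 : Nat.card P' = 4 := by
    rw [← hP4]
    exact (Nat.card_congr ((P : Subgroup Y).equivMapOfInjective _ Y.subtype_injective).toEquiv).symm
  have hP''4 : Nat.card (P'.map X.subtype) = 4 := by
    rw [← hP'4]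
    exact (Nat.card_congr (P'.equivMapOfInjective _ X.subtype_injective).toEquiv).symm
  have hP''p : IsPGroup 2 (P'.map X.subtype) := (P.isPGroup'.map Y.subtype).map X.subtype
  set N := normalizer (P' : Set X) with hN
  have hNd : Nat.card N ∣ 6 * (3 ^ (2 * m + 1) + 1) := by
    rw [← C.four _ hP''4 (two_sq C hP''p)]
    have h2 : N.map X.subtype ≤ normalizer ((P'.map X.subtype : Subgroup G) : Set G) := by
      rintro _ ⟨x, hx, rfl⟩
      rw [mem_normalizer_iff]
      intro y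
      constructor
      · rintro ⟨z, hz, rfl⟩
        exact ⟨x * z * x⁻¹, (mem_normalizer_iff.1 hx z).1 hz, rfl⟩
      · rintro ⟨z, hz, hzy⟩
        refine ⟨x⁻¹ * z * x, ?_, ?_⟩
        · have := (mem_normalizer_iff.1 (N.inv_mem hx) z).1 hz
          rwa [inv_inv] at this
        · have h2 : (z : G) = x * y * (x : G)⁻¹ := hzy
          change (x : G)⁻¹ * z * x = y
          rw [h2]; group
    have h3 := Subgroup.card_dvd_of_le h2
    rwa [← Nat.card_congr (N.equivMapOfInjective _ X.subtype_injective).toEquiv] at h3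
  have hfr := frattini_card Y hYn P
  rw [← hP', ← hN] at hfr
  set a := (3 ^ (2 * m + 1) - 1) / 2 with ha
  have ha2 : 2 * a = 3 ^ (2 * m + 1) - 1 := by (clear * - hq8; omega)
  have haX : a ∣ Nat.card X := (Dvd.intro_left 2 ha2).trans (dvd_cardX D hK C hX)
  have hcopN : Nat.Coprime a (Nat.card N) := Nat.Coprime.coprime_dvd_right hNd copA
  have haY : a ∣ Nat.card Y := by
    apply hcopN.dvd_of_dvd_mul_left
    rw [← hfr]
    exact haX.mul_right _
  have hc2 : a ∣ 3 ^ (2 * c) - 1 := by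
    apply (cop3 (m := m) c).dvd_of_dvd_mul_left
    rw [pow_mul', ← hc, ← h1]
    exact haY.mul_left _
  have hc0 : 0 < c := by
    by_contra hcon
    rw [(by omega : c = 0), pow_zero] at hc
    (clear * - hF hc hq27 hq8; omega)
  have hceq : c = 2 * m + 1 := by
    apply exp_eq hcm hc0
    rw [← ha2]
    apply Nat.Coprime.mul_dvd_of_dvd_of_dvd _ _ hc2
    · have := copA (m := m)
      exact (Nat.Coprime.coprime_dvd_right ⟨3 * (3 ^ (2 * m + 1) + 1), by ring⟩ this).symm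
    · have h2 : 3 ^ (2 * c) % 2 = 1 := by rw [Nat.pow_mod]; norm_num
      omega
  rw [hceq] at hc
  rw [hc] at h1
  -- `A ≤ Y`
  have hidx : Nat.Coprime a Y.index := by
    apply Nat.Coprime.coprime_dvd_right _ hcopN
    refine ⟨Nat.card (N ⊓ Y : Subgroup X), ?_⟩
    have h2 := Y.card_mul_index
    rw [← h2] at hfr
    have h3 : Nat.card Y * (Y.index * Nat.card (N ⊓ Y : Subgroup X)) = Nat.card Y * Nat.card N := by
      rw [← mul_assoc, hfr, mul_comm]
    exact (Nat.eq_of_mul_eq_mul_left Nat.card_pos h3).symm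
  have hAY : ReeSplit.aSub D ≤ Y.map X.subtype := by
    intro x hx
    have hxX : x ∈ X := hX (ReeSplit.aSub_le D hx)
    have h2 : orderOf (⟨x, hxX⟩ : X) ∣ a := by
      have h3 : orderOf (⟨x, hx⟩ : ReeSplit.aSub D) ∣ Nat.card (ReeSplit.aSub D) := orderOf_dvd_natCard _
      rw [ReeSplit.card_aSub D hK, Subgroup.orderOf_mk] at h3
      rw [Subgroup.orderOf_mk]
      exact h3
    obtain ⟨k, hk⟩ := exists_pow_eq_self_of_coprime (x := (⟨x, hxX⟩ : X)) (n := Y.index)
      (Nat.Coprime.coprime_dvd_right h2 hidx.symm)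
    refine ⟨⟨x, hxX⟩, ?_, rfl⟩
    rw [← hk]
    exact pow_mem (Y.pow_index_mem _) k
  -- the four-group
  obtain ⟨E, hE⟩ : ∃ E : Sylow 2 X, (⟨h (-1), htX⟩ : X) ∈ E := by
    have h2 : IsPGroup 2 (zpowers (⟨h (-1), htX⟩ : X)) := by
      rw [IsPGroup.iff_card]
      have h3 : (⟨h (-1), htX⟩ : X) ^ 2 = 1 := by
        apply Subtype.ext
        show h (-1) ^ 2 = 1
        rw [← ReeSplit.h_pow D]
        simp only [D.h_one, _root_.even_two, _root_.Even.neg_pow, _root_.one_pow]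
      obtain ⟨k, -, hk⟩ := (Nat.dvd_prime_pow Nat.prime_two).1
        (by rw [pow_one]; exact orderOf_dvd_of_pow_eq_one h3 : orderOf (⟨h (-1), htX⟩ : X) ∣ 2 ^ 1)
      exact ⟨k, by rw [Nat.card_zpowers, hk]⟩
    obtain ⟨E, hE⟩ := h2.exists_le_sylow
    exact ⟨E, hE (mem_zpowers _)⟩
  have hEp : IsPGroup 2 ((E : Subgroup X).map X.subtype) := E.isPGroup'.map _
  have hEc : ∀ u ∈ (E : Subgroup X), ∀ v ∈ (E : Subgroup X), u * v = v * u := by
    intro u hu v hv
    have h3 : ∀ z ∈ (E : Subgroup X), z⁻¹ = z := by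
      intro z hz
      apply inv_eq_of_mul_eq_one_left
      apply Subtype.ext
      exact two_sq C hEp (z : G) ⟨z, hz, rfl⟩
    have h2 := h3 _ ((E : Subgroup X).mul_mem hu hv)
    rw [mul_inv_rev, h3 _ hu, h3 _ hv] at h2
    exact h2.symm
  have hV4 : 4 ≤ Nat.card ((E : Subgroup X) ⊓ Y : Subgroup X) := by
    obtain ⟨E1, hE1⟩ := (P.isPGroup'.map Y.subtype).exists_le_sylow
    obtain ⟨g, hg⟩ := MulAction.exists_smul_eq X E1 E
    rw [← hP'4]
    refine Nat.card_le_card_of_injective (fun x : P' => (⟨g * x * g⁻¹, mem_inf.2 ⟨?_, ?_⟩⟩ :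
      ((E : Subgroup X) ⊓ Y : Subgroup X))) ?_
    · have h2 : (x : X) ∈ (E1 : Subgroup X) := hE1 x.2
      rw [← hg, Sylow.coe_subgroup_smul, Subgroup.mem_pointwise_smul_iff_inv_smul_mem, ← map_inv]
      show g⁻¹ * (g * x * g⁻¹) * g⁻¹⁻¹ ∈ (E1 : Subgroup X)
      have e : g⁻¹ * (g * x * g⁻¹) * g⁻¹⁻¹ = x := by group
      rwa [e]
    · obtain ⟨y, -, hy⟩ := x.2
      have h2 : (x : X) ∈ Y := by rw [← hy]; exact y.2
      exact hYn.conj_mem _ h2 g
    · intro x y e
      have e1 : g * (x : X) * g⁻¹ = g * y * g⁻¹ := Subtype.ext_iff.1 e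
      exact Subtype.ext (mul_left_cancel (mul_right_cancel e1))
  have key := centralises D hK C.hm (Y := Y.map X.subtype) (by rw [card_map_subtype, h1]) (by
      have hp : H389.RSq.IsPSL 3 (2 * m + 1) (Y.map X.subtype) :=
        ⟨Nat.prime_three, F, _, _, hc, ⟨(Y.equivMapOfInjective _ X.subtype_injective).symm.trans e⟩⟩
      have hfin : Finite (Y.map X.subtype) := inferInstance
      exact Cfsg.Agent.H333.S3530.number_sylow hp (by (clear * - hq27; omega))) hAY (by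
      intro y hy
      have h2 := map_norm hYn (h (-1))⁻¹ (inv_mem htX) y hy
      rwa [inv_inv] at h2) (by
      refine ⟨((E : Subgroup X) ⊓ Y : Subgroup X).map X.subtype, Subgroup.map_mono inf_le_right, ?_, ?_⟩
      · rw [card_map_subtype]
        exact hV4
      · rintro _ ⟨v, hv, rfl⟩
        refine ⟨two_sq C hEp (v : G) ⟨v, (mem_inf.1 hv).1, rfl⟩, ?_⟩
        exact congrArg (Subtype.val) (hEc v (mem_inf.1 hv).1 _ hE))
  have h8 := cent_bot C ReeFive.kinds X hfit Y hYn hYna h4 ⟨h (-1), htX⟩ (by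
    intro y hy
    exact Subtype.ext (key (y : G) ⟨y, hy, rfl⟩).symm)
  have h9 : h (-1) = h 1 := by
    rw [D.h_one]
    exact congrArg Subtype.val h8
  have h10 := (ReeSplit.h_eq_iff D).1 h9
  exact ReeAbs.neg_one_ne_one hK (by
    have := congrArg Units.val h10
    simpa using this)

/-- no normal subgroups of prime power order -/
theorem fit_case {X : Subgroup G} (hX : ReeSplit.hSub D ≤ X) (hXt : X ≠ ⊤) (hfit : Fit X) : False := by
  classical
  have A := ar C.hm
  have hq27 := A.q27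
  have hdX := dvd_cardX D hK C hX
  have hX1 : 1 < Nat.card X := by
    have := Nat.le_of_dvd Nat.card_pos hdX
    omega
  obtain ⟨Y, hYn, -, hYs, hYna, hcand, h4⟩ := exists_simple C ReeFive.kinds X hfit ⊤ inferInstance
    (top_ne_bot' hX1)
  rcases hcand with ⟨F, _, _, hF, ⟨e⟩⟩ | ⟨F, _, _, hF, hF5, ⟨e⟩⟩ | ⟨l, hl⟩
  · have h1 := Cfsg.Agent.SmallSimple.PSLTwoPart.card_psl_two_even (F := F) (by rw [hF]; decide)
    rw [← Nat.card_congr e.toEquiv, hF] at h1
    have h2 := (big_two C X Y hYn (by rw [h1]; norm_num)).1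
    rw [h1] at h2
    exact num8 C.hm (hdX.trans h2)
  · have h1 := Cfsg.Agent.SmallSimple.PSLTwoPart.card_psl_two_odd (F := F) (by rw [Nat.odd_iff]; omega)
    rw [← Nat.card_congr e.toEquiv] at h1
    let ψ : Matrix.ProjectiveSpecialLinearGroup (Fin 2) F →* G :=
      (X.subtype.comp Y.subtype).comp e.symm.toMonoidHom
    have hψ : Function.Injective ψ :=
      (X.subtype_injective.comp Y.subtype_injective).comp e.symm.injective
    have hYG : Nat.card Y ∣ Nat.card G :=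
      Subgroup.card_dvd_of_injective (X.subtype.comp Y.subtype) (X.subtype_injective.comp Y.subtype_injective)
    obtain ⟨s, hs⟩ := CharP.exists F
    obtain ⟨c, hsp, hc'⟩ := FiniteField.card F s
    have hs2 : s ≠ 2 := by
      rintro rfl
      have : 2 ∣ Fintype.card F := by
        rw [hc']; exact dvd_pow_self 2 c.ne_zero
      omega
    by_cases hs3 : s = 3
    · subst hs3
      have h38 := pow_three_mod (c : ℕ)
      rw [← hc'] at h38
      have hq4 : Fintype.card F % 4 = 3 := by omega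
      have hT := ReePSL.card_T (K := F) hq4
      have hcyc := (ReePSL.torus (K := F) hq4).cyc
      obtain ⟨g, hg⟩ := hcyc.exists_generator
      have hgo : orderOf g = Nat.card (ReePSL.T F) := orderOf_eq_card_of_forall_mem_zpowers hg
      have hgo' : orderOf (ψ (g : ReePSL.L F)) = Nat.card (ReePSL.T F) := by
        rw [orderOf_injective ψ hψ, Subgroup.orderOf_coe, hgo]
      have hord := C.orders (ψ (g : ReePSL.L F))
      rw [hgo'] at hord
      have h3s := A.sle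
      have hs9 := A.s9'
      have hbd : Nat.card (ReePSL.T F) ≤ 3 ^ (2 * m + 1) + 3 ^ (m + 1) + 1 := by
        rcases hord with h | h | h | h | h | h
        · have := Nat.le_of_dvd (by norm_num) h; (clear * - h3s hs9 this; omega)
        · have := Nat.le_of_dvd (by norm_num) h; (clear * - h3s hs9 this; omega)
        · have := Nat.le_of_dvd (by omega) h; (clear * - hT hs9 this; omega)
        · have := Nat.le_of_dvd (by omega) h; (clear * - hs9 this; omega)
        · have := Nat.le_of_dvd (by omega) h; (clear * - h3s this; omega)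
        · exact Nat.le_of_dvd (by omega) h
      have hcm : (c : ℕ) ≤ 2 * m + 1 := by
        by_contra hcm
        have h5 : 3 ^ (2 * m + 1 + 1) ≤ 3 ^ (c : ℕ) := Nat.pow_le_pow_right (by norm_num) (by omega)
        rw [← hc', pow_succ] at h5
        omega
      exact three_psl D hK C hX hfit Y hYn hYna h4 hF hc' hcm e
    · have hs5 : 5 ≤ s := by
        have := hsp.two_le
        by_contra h
        interval_cases s
        · exact hs2 rfl
        · exact hs3 rfl
        · exact absurd hsp (by norm_num)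
      have h2 := C.psl F s hsp hs5 ψ hψ
      rcases (by (clear * - hF hF5 h2; omega) : Fintype.card F = 5 ∨ Fintype.card F = 11 ∨ Fintype.card F = 13) with h3 | h3 | h3
      · rw [h3] at h1
        exact not5 C (Dvd.dvd.trans (by omega) hYG)
      · rw [h3] at h1
        exact not5 C (Dvd.dvd.trans (by omega) hYG)
      · obtain ⟨x, g, hx, hg⟩ := psl_thirteen (F := F) h3
        apply no_thirteen D hK (x := ψ x) (g := ψ g)
        · rw [orderOf_injective ψ hψ, hx]
        · rw [← map_inv, ← map_mul, ← map_mul, hg, map_pow]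
  · exact ree_case D hK C hX hXt Y hYn hl

/-- **The proper overgroups of the torus.** -/
theorem ov_main {X : Subgroup G} (hX : ReeSplit.hSub D ≤ X) (hXt : X ≠ ⊤) :
    X ≤ ReeSplit.bSub D ∨ X ≤ cj n (ReeSplit.bSub D) ∨ X ≤ centralizer {h (-1)} := by
  by_cases hfit : Fit X
  · exact (fit_case D hK C hX hXt hfit).elim
  unfold Fit at hfit
  push Not at hfit
  obtain ⟨s, hs, M, hMn, hMp, hM1⟩ := hfit
  by_cases hs2 : s = 2
  · subst hs2
    exact Or.inr (Or.inr (two_case D hK C hX hMn hMp hM1))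
  by_cases hs3 : s = 3
  · subst hs3
    rcases three_case D hK C hX (hMp.map X.subtype) (map_ne_bot hM1) (map_norm hMn) with h1 | h1
    · exact Or.inl h1
    · exact Or.inr (Or.inl h1)
  · exact Or.inr (Or.inr (five_case D hK C hX hs hs2 hs3 hMn hMp hM1))

/-- an automorphism which fixes a subgroup `K ≥ T0` of the centraliser of the involution fixes the involution -/
theorem fix_inv {X : Subgroup G} (hX : ReeSplit.hSub D ≤ X) (hXc : X ≤ centralizer {h (-1)}) (φ : MulAut G)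
    (hφ : ∀ x ∈ X, φ x ∈ X) : φ (h (-1)) = h (-1) := by
  have hsurj : ∀ y ∈ X, ∃ x ∈ X, φ x = y := by
    intro y hy
    let ψ : X → X := fun x => ⟨φ x, hφ x x.2⟩
    have hi : Function.Injective ψ := fun x y e => Subtype.ext (φ.injective (Subtype.ext_iff.1 e))
    obtain ⟨x, hx⟩ := (Finite.injective_iff_surjective.1 hi) ⟨y, hy⟩
    exact ⟨x, x.2, Subtype.ext_iff.1 hx⟩
  obtain ⟨a, ha⟩ := exists_big D hK C.hm
  obtain ⟨x, hx, e⟩ := hsurj (h a) (hX ((ReeSplit.mem_hSub D).2 ⟨a, rfl⟩))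
  have h1 := mem_centralizer_singleton_iff.1 (hXc hx)
  have h2 : φ (h (-1)) ∈ centralizer {h a} := by
    rw [mem_centralizer_singleton_iff, ← e, ← map_mul, ← map_mul, h1]
  rw [ReeSplit.centralizer_h D hK (sq_ne_of_big D hK ha)] at h2
  obtain ⟨b, hb⟩ := (ReeSplit.mem_hSub D).1 h2
  have h0 : h (-1) * h (-1) = 1 := by rw [← D.h_mul]; simp [D.h_one]
  have h5 : b ^ 2 = 1 := by
    rw [← ReeSplit.h_eq_iff D, ReeSplit.h_pow D, ← hb, pow_two, ← map_mul, h0, map_one, D.h_one]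
  rcases ReeSplit.eq_one_or_neg_one_of_sq h5 with rfl | rfl
  · exfalso
    rw [D.h_one, map_eq_one_iff φ φ.injective, ← D.h_one, ReeSplit.h_eq_iff D] at hb
    exact ReeAbs.neg_one_ne_one hK (by
      have := congrArg Units.val hb
      simpa using this)
  · exact hb

/-- the hypotheses of the rank one theorem -/
theorem hyp : (r1 D hK).Hyp where
  comm := comm D hK C.hm
  p2 := fun e => absurd e (by norm_num)
  inv := fun _ => inv D hK C.hm
  ov := by
    have h0 : h (-1) * h (-1) = 1 := by rw [← D.h_mul]; simp [D.h_one]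
    have hne : h (-1) ≠ 1 := by
      intro e
      rw [← D.h_one, ReeSplit.h_eq_iff D] at e
      exact ReeAbs.neg_one_ne_one hK (by
        have := congrArg Units.val e
        simpa using this)
    have hcase : ∀ φ : MulAut G, φ (h (-1)) = h (-1) → ∀ z ∈ zpowers (h (-1)), φ z ∈ zpowers (h (-1)) := by
      rintro φ hφ _ ⟨k, rfl⟩
      refine ⟨k, ?_⟩
      show h (-1) ^ k = φ (h (-1) ^ k)
      rw [map_zpow, hφ]
    refine R1.ov_of (r1 D hK) (zpowers (h (-1))) ?_ ?_ ?_ ?_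
    · rw [Ne, zpowers_eq_bot]
      exact hne
    · intro e
      have h1 : Nat.card (zpowers (h (-1))) ≤ 2 := by
        rw [Nat.card_zpowers]
        exact Nat.le_of_dvd (by norm_num) (orderOf_dvd_of_pow_eq_one (by rw [pow_two]; exact h0))
      rw [e, Subgroup.card_top] at h1
      have h2 := card_gt C
      have h3 : 27 ^ 3 ≤ (3 ^ (2 * m + 1)) ^ 3 := Nat.pow_le_pow_left (ar C.hm).q27 3
      omega
    · intro φ hφ
      apply hcase φ
      rw [T0_eq D hK] at hφ
      apply fix_inv D hK C le_rfl _ φ hφ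
      exact (ReeSplit.hSub_le_nSub D).trans (nSub_le D hK)
    · intro X hX hXt
      rw [T0_eq D hK] at hX
      rcases ov_main D hK C hX hXt with h1 | h1 | h1
      · exact Or.inl h1
      · exact Or.inr (Or.inl h1)
      · exact Or.inr (Or.inr fun φ hφ => hcase φ (fix_inv D hK C hX h1 φ hφ))

end Cfsg.Agent.H137.EPX.R1Ree

namespace Cfsg.Agent.H137.EPX

open Cfsg.Agent.LieRecognition Cfsg.Agent.H470.EPO Cfsg.Agent.H963

/-- **The small Ree groups satisfy the hypotheses of the rank one theorem.** -/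
theorem r1_ree {T : Type} [Group T] {K : Type} [Field K] [Fintype K] {m : ℕ} (hm : 1 ≤ m)
    (hK : Fintype.card K = 3 ^ (2 * m + 1)) (e : T ≃* ↥(Cfsg.Lie.twistedG2 K (3 ^ m))) : ∃ D : R1 3 T, D.Hyp := by
  have hfin := H125.TwoRee.finite_ree hm hK
  have : Finite T := Finite.of_equiv _ e.symm.toEquiv
  exact ⟨_, R1Ree.hyp (ReeFive.data_map e (ReeFinal.data hK)) hK (ReeFive.ctx_of_equiv hm hK e)⟩

theorem r1_isoRee {T : Type} [Group T] (h : Cfsg.Lie.IsoRee T) : ∃ D : R1 3 T, D.Hyp := by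
  obtain ⟨K, _, _, m, hm, hK, ⟨e⟩⟩ := h
  exact r1_ree hm hK e

end Cfsg.Agent.H137.EPX
end

private theorem dce_bd53cab2adda : _root_.True := by
  try have : _root_.True := by simp only [_root_.Cfsg.Agent.H98.SzBasic.w.congr_simp]
  try have : _root_.True := by simp only [_root_.Cfsg.Agent.H98.SzBasic.T.congr_simp]
  exact _root_.True.intro
end

-- part: H371/EPF/Crossk
section
prune_inst 0x10202904052212000000000040003c02b2000400000b0001006000000080c80000020e2088200100000200000000000811000000020000000000000000010120902850029208a000260009001084000000000000000000000000000000000000000000000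
set_option linter.all false
open scoped Cfsg.Agent.FastGrp

-- part: H564/EPF/OwnG
section
/-!
# Own characteristic with the `G`-side as a hypothesis (helper564)

For overgroups without `HasFilt` (`G = ²F₄(q)`). `hdq` is the `G`-side `DQ` of helper470 / helper424.

* `own_S_dq` : any parabolic system of `T`;
* `own_S_filtC_dq`, `own_S_pan_dq` : `T` with a filtered root group datum of rank at least two;
* `own_S_iso_dq` : `T ≅ ²F₄(q)`;
* `exists_psys_bt` : the parabolic system of `²F₄(q)` with Borel–Tits.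
-/

set_option autoImplicit false
set_option linter.unusedSectionVars false

namespace Cfsg.Agent.H564.EPF

open CoxeterSystem Cfsg.Agent.ChevalleyStructure.CoxeterGeom Cfsg.Agent.Tits.Roots Cfsg.Agent.Tits.Core
  Cfsg.Agent.Tits.RootComb Cfsg.Agent.Tits.Exchange Cfsg.Agent.Nodes.Reps Cfsg.Agent.Nodes.BNOf
  Cfsg.Agent.Nodes.StabComb Cfsg.Agent.Nodes.Bruhat Cfsg.Agent.Nodes.OppDec Cfsg.Agent.Nodes.LeviDec
  Cfsg.Agent.Nodes.Coroot Cfsg.Agent.KFacts.RgdPar Cfsg.Agent.KFacts.RgdSL Cfsg.Agent.KFacts.RgdVJ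
  Cfsg.Agent.KFacts.RgdCharP Cfsg.Agent.H470.EPK Cfsg.Agent.H737.EPO Cfsg.Agent.H209.EPX
  Cfsg.Agent.KFacts.RgdFilt Cfsg.Agent.H284.EPT Cfsg.Agent.H50.Her Cfsg.Agent.H419.EP Cfsg.Agent.H284.Pan
  Cfsg.Agent.H470.EPO

/-- **own characteristic, `EPS`-form**, any parabolic system, the `G`-side as a hypothesis -/
theorem own_S_dq {I : Type*} [Nontrivial I] {G : Type*} [Group G] [Finite G] {H N : Subgroup G} {T : Type} [Group T]
    [Finite T] {k : ℕ} {e : N ≃* (Fin k → T)} (h : EPS H N e) {p : ℕ} [Fact p.Prime] {S : PSys T p I} (hS : Rk S)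
    (hdq : ∀ (e' : N ≃* (Fin k → T)) (J : Fin k → Set I), VV e' S J ≠ ⊥ → DQ H e' S J) :
    p = 2 ∧ ∃ i, (S.V {i}).relIndex (S.V ∅) = 2 := by
  have := h.simple
  obtain ⟨P, -, hP⟩ := exists_sylIn (p := p) (H := H) (K := ⊥) bot_le IsPGroup.of_bot
  obtain ⟨e', hPN⟩ := exists_std S e h.nrm h.le hP
  exact own_R e' h.nab hS h.ep h.toMinN h.pos hP hPN (hdq e')

/-- the `G`-side, for all parabolic systems of `T` -/
def GSide {G : Type*} [Group G] [Finite G] (H N : Subgroup G) (T : Type) [Group T] (k p : ℕ) : Prop :=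
  ∀ (I : Type) (S : PSys T p I) (e' : N ≃* (Fin k → T)) (J : Fin k → Set I), VV e' S J ≠ ⊥ → DQ H e' S J

section Fin

variable {p : ℕ} [Fact p.Prime] {l : ℕ} {M : CoxeterMatrix (Fin l)}

/-- rank at least two, with a root group datum -/
theorem own_SR_dq {W : Type*} [Group W] [Finite W] {cs : CoxeterSystem M W} {A : Fin l → Fin l → ℤ}
    {hC : IsCartan M A} [Nontrivial (Fin l)] {G : Type*} [Group G] [Finite G] {H N : Subgroup G} {T : Type} [Group T]
    [Finite T] {k : ℕ} {e : N ≃* (Fin k → T)} (h : EPS H N e) (hdq : GSide H N T k p)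
    {Tt : Subgroup T} {n : Fin l → T} {X : (Fin l → ℤ) → Subgroup T} (R : RGD cs hC p Tt n X) (hBT : BT cs hC p Tt X)
    (hG : GG cs hC Tt X = ⊤) (hX : RGD.Sup X {x | IsRoot cs hC x} = ⊤) (hconn : Conn M) :
    p = 2 ∧ ∃ i, Nat.card (X (Tits.Roots.sr i)) = 2 := by
  obtain ⟨h1, i, h2⟩ := own_S_dq h (rk_ofRGD R hBT hG hX hconn) (hdq _ _)
  exact ⟨h1, i, by rwa [relIndex_ofRGD] at h2⟩

/-- **`EPS`-form**, with a filtered root group datum of the socle. -/
theorem own_S_filtC_dq (hl : 2 ≤ l) {G : Type*} [Group G] [Finite G] {H N : Subgroup G} {T : Type} [Group T] [Finite T]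
    {k : ℕ} {e : N ≃* (Fin k → T)} (h : EPS H N e) (hdq : GSide H N T k p) (hF : FiltC p 3 M T) : False := by
  have := h.simple
  obtain ⟨A, hC, Tt, n, X, R, F, hW, hX, hF, hc⟩ := hF
  have : Nontrivial (Fin l) := Fin.nontrivial_iff_two_le.2 hl
  have hG := GG_eq_top (T := Tt) hX
  obtain ⟨-, i, h2⟩ := own_SR_dq h hdq R (fun K hK h1 => borel_tits_of_filt hF hX hK h1) hG hX
    (KFacts.RgdLieCharP.conn_of_simple R hX (KFacts.RgdLieCharP.center_eq_bot h.nab))
  have := hc i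
  omega

end Fin

section model

open Cfsg.Agent.KFacts.TwF4 Cfsg.Agent.KFacts.TwF4.SylU Cfsg.Agent.ChevalleyStructure.TwF4.TwistedFix

variable {K : Type} [Field K] [Fintype K]

/-- `N ≅ ²F₄(q) ^ k` -/
theorem own_S_twf_dq {m : ℕ} (hm : 1 ≤ m) (hK : Fintype.card K = 2 ^ (2 * m + 1)) {G : Type*} [Group G] [Finite G]
    {H N : Subgroup G} {k : ℕ} [Finite ↥(Lie.twistedF4 K (2 ^ m))] {e : N ≃* (Fin k → ↥(Lie.twistedF4 K (2 ^ m)))}
    (h : EPS H N e) (hdq : GSide H N ↥(Lie.twistedF4 K (2 ^ m)) k 2) : False := by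
  have : Fact (Nat.Prime 2) := ⟨Nat.prime_two⟩
  obtain ⟨S, hS, h2⟩ := exists_psys (K := K) hm hK
  obtain ⟨-, i, hi⟩ := own_S_dq h hS (hdq _ S)
  exact h2 i hi

/-- transport of the `G`-side along an isomorphism of `T` -/
theorem _root_.Cfsg.Agent.H209.EPX.EPS.congr564 {T T' : Type} [Group T] [Group T'] (f : T ≃* T') {G : Type*} [Group G]
    {H N : Subgroup G} {k : ℕ} {e : N ≃* (Fin k → T)} (h : EPS H N e) :
    EPS H N (e.trans (MulEquiv.piCongrRight fun _ => f)) :=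
  have := h.simple
  { toMinN := h.toMinN
    ep := h.ep
    pos := h.pos
    simple := f.symm.isSimpleGroup
    nab := by
      obtain ⟨a, b, hab⟩ := h.nab
      refine ⟨f a, f b, fun h1 => hab ?_⟩
      rw [← map_mul, ← map_mul] at h1
      exact f.injective h1
    cent := h.cent
    least := h.least }

/-- the `G`-side for every coordinate group -/
def GSideU {G : Type*} [Group G] [Finite G] (H N : Subgroup G) (k p : ℕ) : Prop :=
  ∀ (T : Type) [Group T] [Finite T] (e : N ≃* (Fin k → T)), EPS H N e → GSide H N T k p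

/-- **`T ≅ ²F₄(q)`**, `q ≥ 8` -/
theorem own_S_iso_dq {T : Type} [Group T] (hT : Lie.Iso2F4 T) {G : Type*} [Group G] [Finite G]
    {H N : Subgroup G} {k : ℕ} {e : N ≃* (Fin k → T)} (h : EPS H N e) (hdq : GSideU H N k 2) : False := by
  obtain ⟨K, _, _, m, hm, hK, ⟨f⟩⟩ := hT
  have hfin : Finite (GL Lie.chevF4.Idx K) := inferInstance
  have : Finite ↥(Lie.twistedF4 K (2 ^ m)) := inferInstance
  exact own_S_twf_dq hm hK (h.congr564 f) (hdq _ _ (h.congr564 f))

end model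

end Cfsg.Agent.H564.EPF
end

-- part: H628/EPX/Desc
section
/-!
# `²F₄(q)`: `U⁻ ∩ B = 1` and the arcs `U ∩ g B g⁻¹` (helper628)

`S : Full σ G`, `U = J 1 8`, `B = J 1 8 ⊔ T`.

* `opp` : `J 1 8 ∩ J 9 16 = 1`;
* `opp_BT` : `J 9 16 ∩ B = 1` (`G` finite, characteristic 2);
* `desc` : for `g ∉ B`, `U ∩ g B g⁻¹ ≤ J 2 8` or `U ∩ g B g⁻¹ ≤ J 1 7`;
* `desc_one`, `desc_two` : the two parabolic subgroups.
-/

set_option autoImplicit false
set_option linter.unusedSectionVars false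

namespace Cfsg.Agent.H628.EPX

open Cfsg.Agent.SplitTwo Cfsg.Agent.SplitTwo.ZS Cfsg.Agent.TitsThree.RankTwoZ
open Cfsg.Agent.KFacts.TwF4 Cfsg.Agent.KFacts.TwF4.Full Cfsg.Agent.KFacts.TwF4.Arc
open Cfsg.Agent.KFacts.TwF4.Inv Cfsg.Agent.KFacts.TwF4.SylU Cfsg.Agent.KFacts.TwF4.Perf
open scoped commutatorElement

universe u

variable {F : Type*} [Field F] {σ : F →+* F} {G : Type u} [Group G] (S : Full σ G)

/-! ### periodicity and rotation -/

theorem J_per (a b : ℤ) : J S.XZ (a + 16) (b + 16) = J S.XZ a b := by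
  have per : ∀ k, S.XZ (k + 16) = S.XZ k := fun k => S.zsys8.per k
  apply le_antisymm
  · refine J_le fun k h1 h2 => ?_
    have := per (k - 16)
    rw [sub_add_cancel] at this
    rw [this]
    exact X_le_J (by omega) (by omega)
  · refine J_le fun k h1 h2 => ?_
    rw [← per k]
    exact X_le_J (by omega) (by omega)

theorem rotk_J (k : ℤ) {a b : ℤ} {x : G} (hx : x ∈ J S.XZ a b) :
    S.rot ^ k * x * (S.rot ^ k)⁻¹ ∈ J S.XZ (a + 2 * k) (b + 2 * k) := by
  rw [← S.map_J k a b]; exact ⟨x, hx, rfl⟩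

/-- `Z_{2a}` is centralised by `J (2a-4) (2a+4)` -/
theorem comm_Z (a : ℤ) {x : G} (hx : x ∈ J S.XZ (2 * a - 4) (2 * a + 4)) (u : F) :
    x * S.e (a : ZMod 8) 0 u = S.e (a : ZMod 8) 0 u * x := by
  have h1 := rotk_J S (2 - a) hx
  rw [show 2 * a - 4 + 2 * (2 - a) = 0 by ring, show 2 * a + 4 + 2 * (2 - a) = 8 by ring] at h1
  have h2 := S.rotk_e (2 - a) (a : ZMod 8) 0 u
  have e : (a : ZMod 8) + ((2 - a : ℤ) : ZMod 8) = 2 := by push_cast; ring
  rw [e] at h2
  have h3 := S.comm_PL h1 (S.mem_Zc.2 ⟨u, rfl⟩)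
  rw [← h2] at h3
  calc x * S.e (a : ZMod 8) 0 u = (S.rot ^ (2 - a))⁻¹ * (S.rot ^ (2 - a) * x * (S.rot ^ (2 - a))⁻¹ *
        (S.rot ^ (2 - a) * S.e (a : ZMod 8) 0 u * (S.rot ^ (2 - a))⁻¹)) * S.rot ^ (2 - a) := by group
    _ = _ := by rw [h3]; group

/-! ### `n2 ∈ ⟨Z_0, Z_8⟩` -/

theorem word_aux {a n z w : G} (hz : a * a = z) (hz2 : z * z = 1) (hw : a * w = n * a) (hn : n * z * n = w) :
    n = z * w * z * w * z := by
  have haz : a * z = z * a := by rw [← hz]; group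
  have e1 : z * w = a * n * a := by rw [← hz, mul_assoc, hw]; group
  symm
  calc z * w * z * w * z = a * n * (a * z) * w * z := by rw [e1]; group
    _ = a * n * z * (a * w) * z := by rw [haz]; group
    _ = a * (n * z * n) * a * z := by rw [hw]; group
    _ = n * (a * a) * z := by rw [hn, hw]; group
    _ = n := by rw [hz, mul_assoc, hz2, mul_one]

theorem n2_words : S.n2 = S.e 0 0 1 * S.e 4 0 1 * S.e 0 0 1 * S.e 4 0 1 * S.e 0 0 1 := by
  refine word_aux (a := S.e 0 1 0) ?_ ?_ ?_ ?_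
  · rw [S.e_mul, char2 S, map_one, mul_one, add_zero, zero_add]
  · rw [S.e_mul, map_zero, mul_zero, add_zero, char2 S, add_zero, S.e_zero]
  · rw [n2_word' S]; group
  · have h := S.n2_e 0 0 1
    rw [sub_zero, inv_eq_of_mul_eq_one_right S.n2_sq] at h
    exact h

theorem comm_n2 {x : G} (h0 : x * S.e 0 0 1 = S.e 0 0 1 * x) (h8 : x * S.e 4 0 1 = S.e 4 0 1 * x) :
    S.n2 * x * S.n2⁻¹ = x := by
  have c0 : Commute x (S.e 0 0 1) := h0
  have c8 : Commute x (S.e 4 0 1) := h8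
  have c : Commute x S.n2 := by
    rw [n2_words S]
    exact (((c0.mul_right c8).mul_right c0).mul_right c8).mul_right c0
  rw [mul_inv_eq_iff_eq_mul]
  exact c.eq.symm

/-! ### `U ∩ U⁻ = 1` -/

/-- `X_k ∩ J (k+1) (k+8) = 1`, `k` even -/
theorem X_inf_even {k l m : ℤ} (a : ℤ) (hk : k = 2 * a) (hl : l = 2 * a + 1) (hm : m = 2 * a + 8) {x : G}
    (hx : x ∈ S.XZ k) (h : x ∈ J S.XZ l m) : x = 1 := by
  subst hk hl hm
  have h1 := S.rotk_X' (-a) _ hx
  have h2 := rotk_J S (-a) h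
  rw [show 2 * a + 2 * -a = 0 by ring] at h1
  rw [show 2 * a + 1 + 2 * -a = 1 by ring, show 2 * a + 8 + 2 * -a = 8 by ring] at h2
  have h3 := (S.J07_inf_UT h1 h2 (one_mem S.T) (by rw [mul_one])).1
  calc x = (S.rot ^ (-a))⁻¹ * (S.rot ^ (-a) * x * (S.rot ^ (-a))⁻¹) * S.rot ^ (-a) := by group
    _ = 1 := by rw [h3]; group

theorem D_one : ∀ n : ℕ, n ≤ 7 → ∀ x ∈ J S.XZ 5 (4 + n), x ∈ J S.XZ (-3) 3 → x = 1 := by
  have Z8 := S.zsys8
  intro n
  induction n with
  | zero => intro _ x hx _; exact eq_one_of_J hx (by norm_num)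
  | succ n ih =>
    intro hn x hx hx'
    push_cast at hx
    -- `x` commutes with `X_4`
    have hc : ∀ r ∈ S.XZ 4, x * r = r * x := by
      intro r hr
      have h1 : ⁅x, r⁆ ∈ J S.XZ 5 (4 + n) :=
        J_mono (by omega) (by omega) (Z8.comm_J_left' (a := 5) (b := 4 + (n + 1)) (c := 4) (by omega) (by omega) hx hr)
      have h2 : ⁅x, r⁆ ∈ J S.XZ (-3) 3 :=
        J_mono (by omega) (by omega) (Z8.comm_J_right (a := -3) (b := 3) (d := 4) (by omega) (by omega) hx' hr)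
      exact commutatorElement_eq_one_iff_mul_comm.1 (ih (by omega) _ h1 h2)
    have h4 : S.e 2 0 1 ∈ S.XZ 4 := (mem_X4 S).2 ⟨0, 1, rfl⟩
    have h41 : S.e 2 0 1 ≠ 1 := fun h => one_ne_zero (S.e_eq_one h).2
    have k1 : x ∈ J S.XZ 4 8 := Z8.comm_top (k := 4) (b := 4 + (n + 1)) (r := 4) (by norm_num) (by omega) h4 h41
      (J_mono (by omega) le_rfl hx) (hc _ h4)
    have k2 : x ∈ J S.XZ 5 8 := Z8.inter_J 4 k1 hx (by omega) (by omega) (by omega) (by omega) (Or.inr le_rfl)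
      (Or.inl le_rfl)
    have k3 : x ∈ J S.XZ 0 4 := Z8.comm_bot (k := 4) (a := -3) (r := 4) (by norm_num) (by omega) h4 h41
      (J_mono le_rfl (by omega) hx') (hc _ h4)
    have k4 : x ∈ J S.XZ 0 3 := Z8.inter_J (-3) k3 hx' (by omega) (by omega) (by omega) (by omega) (Or.inl le_rfl)
      (Or.inr le_rfl)
    -- `x` commutes with `Z_6`
    have k5 : x * S.e 3 0 1 = S.e 3 0 1 * x := by
      have := comm_Z S 3 (J_mono (by norm_num) (by norm_num) k2) 1
      exact_mod_cast this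
    have k6 : x ∈ J S.XZ 2 6 := Z8.comm_bot (k := 6) (a := 0) (r := 4) (by norm_num) (by omega)
      ((mem_X6 S).2 ⟨0, 1, rfl⟩) (fun h => one_ne_zero (S.e_eq_one h).2) (J_mono le_rfl (by omega) k4) k5
    have k7 : x ∈ J S.XZ 2 3 := Z8.inter_J 0 k6 k4 (by omega) (by omega) (by omega) (by omega) (Or.inl le_rfl)
      (Or.inr le_rfl)
    exact Z8.inter_one 2 k7 k2 (by omega) (by omega) (by omega) (by omega) (Or.inl (by omega))

theorem opp_aux {x : G} (h1 : x ∈ J S.XZ 5 12) (h2 : x ∈ J S.XZ (-3) 4) : x = 1 := by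
  have Z8 := S.zsys8
  have c8 : x * S.e 4 0 1 = S.e 4 0 1 * x := by
    have := comm_Z S 4 (J_mono (by norm_num) (by norm_num) h1) 1
    exact_mod_cast this
  have c0 : x * S.e 0 0 1 = S.e 0 0 1 * x := by
    have := comm_Z S 0 (J_mono (by norm_num) (by norm_num) h2) 1
    exact_mod_cast this
  have hn := comm_n2 S c0 c8
  have h3 : x ∈ J S.XZ (-4) 3 := by
    rw [← hn]; exact S.n2_refl.mem_J h1 (by norm_num) (by norm_num)
  have h4 : x ∈ J S.XZ 4 11 := by
    rw [← hn]; exact S.n2_refl.mem_J h2 (by norm_num) (by norm_num)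
  have h5 : x ∈ J S.XZ (-3) 3 := by
    obtain ⟨y, hy, y', hy', e⟩ := Z8.split_ll (a := -4) (b := 3) (by norm_num) (by norm_num) h3
    have : y ∈ J S.XZ (-3) 4 := by
      have e2 : y = x * y'⁻¹ := by rw [e]; group
      rw [e2]; exact mul_mem h2 (inv_mem (J_mono (by norm_num) (by norm_num) hy'))
    have hy1 : y = 1 := X_inf_even S (-2) (by norm_num) (by norm_num) (by norm_num) hy this
    rw [e, hy1, one_mul]; exact hy'
  have h6 : x ∈ J S.XZ 5 11 := by
    obtain ⟨y, hy, y', hy', e⟩ := Z8.split_ll (a := 4) (b := 11) (by norm_num) (by norm_num) h4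
    have : y ∈ J S.XZ 5 12 := by
      have e2 : y = x * y'⁻¹ := by rw [e]; group
      rw [e2]; exact mul_mem h1 (inv_mem (J_mono (by norm_num) (by norm_num) hy'))
    have hy1 : y = 1 := X_inf_even S 2 (by norm_num) (by norm_num) (by norm_num) hy this
    rw [e, hy1, one_mul]; exact hy'
  exact D_one S 7 le_rfl x h6 h5

/-- **`U ∩ U⁻ = 1`** -/
theorem opp {x : G} (h1 : x ∈ J S.XZ 1 8) (h2 : x ∈ J S.XZ 9 16) : x = 1 := by
  have k1 := rotk_J S 2 h1
  have k2 := rotk_J S 2 h2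
  rw [show (9 : ℤ) + 2 * 2 = -3 + 16 by norm_num, show (16 : ℤ) + 2 * 2 = 4 + 16 by norm_num, J_per] at k2
  have h3 := opp_aux S k1 k2
  calc x = (S.rot ^ (2 : ℤ))⁻¹ * (S.rot ^ (2 : ℤ) * x * (S.rot ^ (2 : ℤ))⁻¹) * S.rot ^ (2 : ℤ) := by group
    _ = 1 := by rw [h3]; group

theorem form_BT {g : G} (hg : g ∈ J S.XZ 1 8 ⊔ S.T) : ∃ u ∈ J S.XZ 1 8, ∃ t ∈ S.T, g = u * t := by
  have h1 : g ∈ S.T ⊔ J S.XZ 1 8 := by rwa [sup_comm] at hg
  obtain ⟨t, ht, u, hu, h⟩ := mem_sup_of_norm (A := S.T) (B := J S.XZ 1 8) (fun t ht u hu => S.T_conj_J ht hu) h1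
  exact ⟨t * u * t⁻¹, S.T_conj_J ht hu, t, ht, by rw [h]; group⟩

theorem pow_BT {u t : G} (hu : u ∈ J S.XZ 1 8) (ht : t ∈ S.T) (n : ℕ) : ∃ v ∈ J S.XZ 1 8, (u * t) ^ n = v * t ^ n := by
  induction n with
  | zero => exact ⟨1, one_mem _, by simp⟩
  | succ n ih =>
    obtain ⟨v, hv, e⟩ := ih
    refine ⟨v * (t ^ n * u * (t ^ n)⁻¹), mul_mem hv (S.T_conj_J (pow_mem ht n) hu), ?_⟩
    rw [pow_succ, e, pow_succ]; group

section fin

variable [Finite G]

/-- `U⁻ ∩ B = 1` -/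
theorem opp_BT [Finite F] (hR : S.R.p = 2) {x : G} (hx : x ∈ J S.XZ 9 16) (h : x ∈ J S.XZ 1 8 ⊔ S.T) : x = 1 := by
  obtain ⟨u, hu, t, ht, e⟩ := form_BT S h
  obtain ⟨k, hk⟩ := two_J S hR (a := 9) (b := 16) (by norm_num) ⟨x, hx⟩
  have hk' : x ^ 2 ^ k = 1 := congrArg Subtype.val hk
  obtain ⟨v, hv, e2⟩ := pow_BT S hu ht (2 ^ k)
  have h1 : t ^ 2 ^ k = 1 := by
    apply S.U_inf_T (pow_mem ht _)
    have e3 : v * t ^ 2 ^ k = 1 := by rw [← e2, ← e]; exact hk'
    rw [eq_inv_of_mul_eq_one_right e3]; exact inv_mem hv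
  have h2 : t = 1 := by
    obtain ⟨c, d, rfl⟩ := S.mem_T.1 ht
    obtain ⟨h7, h8⟩ := torus_two S h1
    rw [h7, h8, S.h_one]
  rw [h2, mul_one] at e
  exact opp S (e ▸ hu) hx

omit [Finite G] in
/-- transfer from the Weyl element to the group element -/
theorem transfer {K : Subgroup G} {b t w b' : G} (hb : b ∈ J S.XZ 1 8) (ht : t ∈ S.T) (hb' : b' ∈ J S.XZ 1 8)
    (hKb : ∀ x ∈ K, b * x * b⁻¹ ∈ K) (hKt : ∀ x ∈ K, t * x * t⁻¹ ∈ K)
    (h : ∀ u ∈ J S.XZ 1 8, w⁻¹ * u * w⁻¹⁻¹ ∈ J S.XZ 1 8 ⊔ S.T → u ∈ K) :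
    ∀ u ∈ J S.XZ 1 8, (b * t * w * b')⁻¹ * u * (b * t * w * b') ∈ J S.XZ 1 8 ⊔ S.T → u ∈ K := by
  intro u hu hg
  have h1 : t⁻¹ * (b⁻¹ * u * b⁻¹⁻¹) * t⁻¹⁻¹ ∈ J S.XZ 1 8 :=
    S.T_conj_J (inv_mem ht) (mul_mem (mul_mem (inv_mem hb) hu) (inv_mem (inv_mem hb)))
  have h2 : t⁻¹ * (b⁻¹ * u * b⁻¹⁻¹) * t⁻¹⁻¹ ∈ K := by
    refine h _ h1 ?_
    have e : w⁻¹ * (t⁻¹ * (b⁻¹ * u * b⁻¹⁻¹) * t⁻¹⁻¹) * w⁻¹⁻¹ =
        b' * ((b * t * w * b')⁻¹ * u * (b * t * w * b')) * b'⁻¹ := by group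
    rw [e]
    exact mul_mem (mul_mem (Subgroup.mem_sup_left hb') hg) (inv_mem (Subgroup.mem_sup_left hb'))
  have e : u = b * (t * (t⁻¹ * (b⁻¹ * u * b⁻¹⁻¹) * t⁻¹⁻¹) * t⁻¹) * b⁻¹ := by group
  rw [e]
  exact hKb _ (hKt _ h2)

theorem one_left [Finite F] (hR : S.R.p = 2) {v p q : G} (h : v * (p * q) * v⁻¹ ∈ J S.XZ 1 8 ⊔ S.T)
    (hp : v * p * v⁻¹ ∈ J S.XZ 9 16) (hq : v * q * v⁻¹ ∈ J S.XZ 1 8) : p = 1 := by
  have h1 : v * p * v⁻¹ ∈ J S.XZ 1 8 ⊔ S.T := by
    have e : v * p * v⁻¹ = (v * (p * q) * v⁻¹) * (v * q * v⁻¹)⁻¹ := by group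
    rw [e]
    exact mul_mem h (inv_mem (Subgroup.mem_sup_left hq))
  have h2 := opp_BT S hR hp h1
  calc p = v⁻¹ * (v * p * v⁻¹) * v := by group
    _ = 1 := by rw [h2]; group

theorem one_right [Finite F] (hR : S.R.p = 2) {v p q : G} (h : v * (p * q) * v⁻¹ ∈ J S.XZ 1 8 ⊔ S.T)
    (hp : v * p * v⁻¹ ∈ J S.XZ 1 8) (hq : v * q * v⁻¹ ∈ J S.XZ 9 16) : q = 1 := by
  have h1 : v * q * v⁻¹ ∈ J S.XZ 1 8 ⊔ S.T := by
    have e : v * q * v⁻¹ = (v * p * v⁻¹)⁻¹ * (v * (p * q) * v⁻¹) := by group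
    rw [e]
    exact mul_mem (inv_mem (Subgroup.mem_sup_left hp)) h
  have h2 := opp_BT S hR hq h1
  calc q = v⁻¹ * (v * q * v⁻¹) * v := by group
    _ = 1 := by rw [h2]; group

variable [Finite F] (hR : S.R.p = 2) {v : G} {c : ℤ}

include hR

theorem refl_low (hv : Maps S.R.X v (fun k => ((2 * c : ℤ) : ZMod (2 * 8)) - k)) (h5 : 5 ≤ c) (h8 : c ≤ 8) :
    ∀ u ∈ J S.XZ 1 8, v * u * v⁻¹ ∈ J S.XZ 1 8 ⊔ S.T → u ∈ J S.XZ 2 8 := by
  intro u hu h
  obtain ⟨p, hp, q, hq, rfl⟩ := S.zsys8.split (a := 1) (b := 8) (c := 2 * c - 8) (by omega) (by omega) (by omega) hu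
  have hp1 := one_left S hR h (J_mono (by omega) (by omega) (S.map_sub hv hp))
    (J_mono (by omega) (by omega) (S.map_sub hv hq))
  rw [hp1, one_mul]
  exact J_mono (by omega) (by omega) hq

theorem refl_high (hv : Maps S.R.X v (fun k => ((2 * c : ℤ) : ZMod (2 * 8)) - k)) (h9 : 9 ≤ c) (h12 : c ≤ 12) :
    ∀ u ∈ J S.XZ 1 8, v * u * v⁻¹ ∈ J S.XZ 1 8 ⊔ S.T → u ∈ J S.XZ 1 7 := by
  intro u hu h
  obtain ⟨p, hp, q, hq, rfl⟩ := S.zsys8.split (a := 1) (b := 8) (c := 2 * c - 16) (by omega) (by omega) (by omega) hu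
  have h2 : v * p * v⁻¹ ∈ J S.XZ 1 8 := by
    have := S.map_sub hv hp
    rw [show 2 * c - (2 * c - 16 - 1) = 1 + 16 by ring, show 2 * c - 1 = (2 * c - 17) + 16 by ring, J_per] at this
    exact J_mono (by omega) (by omega) this
  have hq1 := one_right S hR h h2 (J_mono (by omega) (by omega) (S.map_sub hv hq))
  rw [hq1, mul_one]
  exact J_mono (by omega) (by omega) hp

omit hR [Finite F] [Finite G] in
/-- the inverse of a Weyl element, in normal form -/
theorem inv_form {w : G} (hw : S.IsDihE w) :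
    (∃ c : ℤ, 0 ≤ c ∧ c ≤ 7 ∧ Maps S.R.X w⁻¹ (fun k => ((2 * c : ℤ) : ZMod (2 * 8)) + k)) ∨
    ∃ c : ℤ, 5 ≤ c ∧ c ≤ 12 ∧ Maps S.R.X w⁻¹ (fun k => ((2 * c : ℤ) : ZMod (2 * 8)) - k) := by
  obtain ⟨c, hc | hc⟩ := hw
  · left
    have h1 : Maps S.R.X w⁻¹ (fun k => ((2 * -c : ℤ) : ZMod (2 * 8)) + k) := hc.inv fun k => by push_cast; ring
    obtain ⟨c', k1, k2, k3⟩ := reduce (-c) 0
    rw [k3] at h1
    exact ⟨c', k1, by omega, h1⟩
  · right
    have h1 : Maps S.R.X w⁻¹ (fun k => ((2 * c : ℤ) : ZMod (2 * 8)) - k) := hc.inv fun k => by push_cast; ring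
    obtain ⟨c', k1, k2, k3⟩ := reduce c 5
    rw [k3] at h1
    exact ⟨c', k1, by omega, h1⟩

omit hR [Finite F] [Finite G] in
theorem mem_T_of_zero {w : G} (h : Maps S.R.X w⁻¹ (fun k => ((2 * 0 : ℤ) : ZMod (2 * 8)) + k)) : w ∈ S.T := by
  have h1 : w⁻¹ ∈ S.T := by
    show Maps S.R.X w⁻¹ id
    exact h.congr fun k => by rw [mul_zero, Int.cast_zero, zero_add]; rfl
  rw [← inv_inv w]; exact inv_mem h1

omit hR [Finite F] [Finite G] in
theorem conj_28 {b x : G} (hb : b ∈ J S.XZ 1 8) (hx : x ∈ J S.XZ 2 8) : b * x * b⁻¹ ∈ J S.XZ 2 8 :=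
  S.zsys8.conj_J (a := 2) (b := 8) (c := 1) (d := 8) (by norm_num) (by norm_num) (by norm_num) hb hx

omit hR [Finite F] [Finite G] in
theorem conj_17 {b x : G} (hb : b ∈ J S.XZ 1 8) (hx : x ∈ J S.XZ 1 7) : b * x * b⁻¹ ∈ J S.XZ 1 7 :=
  S.zsys8.conj_J (a := 1) (b := 7) (c := 1) (d := 8) (by norm_num) (by norm_num) (by norm_num) hb hx

omit hR [Finite F] [Finite G] in
theorem mem_B {b t w b' : G} (hb : b ∈ J S.XZ 1 8) (ht : t ∈ S.T) (hw : w ∈ S.T) (hb' : b' ∈ J S.XZ 1 8) :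
    b * t * w * b' ∈ J S.XZ 1 8 ⊔ S.T :=
  mul_mem (mul_mem (mul_mem (Subgroup.mem_sup_left hb) (Subgroup.mem_sup_right ht)) (Subgroup.mem_sup_right hw))
    (Subgroup.mem_sup_left hb')

omit hR [Finite F] [Finite G] in
/-- no normalising Weyl element moves a root group of `K` to the negative side -/
theorem no_map {K : Subgroup G} (hK : K ≤ J S.XZ 1 8) (hv : ∀ x ∈ K, v * x * v⁻¹ ∈ K) (k : ℤ) (hk : S.XZ k ≤ K)
    (h : ∀ x ∈ J S.XZ k k, v * x * v⁻¹ ∈ J S.XZ 9 16) : False := by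
  obtain ⟨x, hx, hx1⟩ := S.zsys8.exists_ne k
  have h1 := opp S (hK (hv x (hk hx))) (h x (mem_J hx le_rfl le_rfl))
  apply hx1
  calc x = v⁻¹ * (v * x * v⁻¹) * v := by group
    _ = 1 := by rw [h1]; group

omit hR [Finite F] [Finite G] in
theorem norm_T {a b : ℤ} {t : G} (ht : t ∈ S.T) : t ∈ Subgroup.normalizer (J S.XZ a b : Set G) := by
  rw [Subgroup.mem_normalizer_iff]
  intro x
  refine ⟨fun hx => S.T_conj_J ht hx, fun hx => ?_⟩
  have := S.T_conj_J (inv_mem ht) hx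
  have e : t⁻¹ * (t * x * t⁻¹) * t⁻¹⁻¹ = x := by group
  rwa [e] at this

omit hR [Finite F] [Finite G] in
/-- the Weyl part of an element normalising `K` normalises `K` -/
theorem norm_w {K : Subgroup G} {b t w b' : G} (hU : J S.XZ 1 8 ≤ Subgroup.normalizer (K : Set G))
    (hT : S.T ≤ Subgroup.normalizer (K : Set G)) (hb : b ∈ J S.XZ 1 8) (ht : t ∈ S.T) (hb' : b' ∈ J S.XZ 1 8)
    (hg : b * t * w * b' ∈ Subgroup.normalizer (K : Set G)) : ∀ x ∈ K, w⁻¹ * x * w⁻¹⁻¹ ∈ K := by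
  have h1 : w ∈ Subgroup.normalizer (K : Set G) := by
    have e : w = t⁻¹ * b⁻¹ * (b * t * w * b') * b'⁻¹ := by group
    rw [e]
    exact mul_mem (mul_mem (mul_mem (inv_mem (hT ht)) (inv_mem (hU hb))) hg) (inv_mem (hU hb'))
  intro x hx
  exact (Subgroup.mem_normalizer_iff.1 (inv_mem h1) x).1 hx

omit hR [Finite F] [Finite G] in
/-- `g = b t w b'` with `w ∈ T n` -/
theorem form_n {n : G} {r : ZMod (2 * 8)} (hn : Maps S.R.X n (fun k => r - k)) (hn2 : n * n = 1) {b t w b' : G}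
    (hb : b ∈ J S.XZ 1 8) (ht : t ∈ S.T) (hb' : b' ∈ J S.XZ 1 8) (hw : Maps S.R.X w⁻¹ (fun k => r - k)) :
    ∃ u ∈ J S.XZ 1 8, ∃ β ∈ J S.XZ 1 8 ⊔ S.T, b * t * w * b' = u * n * β := by
  have hi : n⁻¹ = n := inv_eq_of_mul_eq_one_left hn2
  have h1 : n * w⁻¹ ∈ S.T := by
    show Maps S.R.X (n * w⁻¹) id
    exact (hn.mul hw).congr fun k => sub_sub_cancel r k
  have h2 : w * n ∈ S.T := by
    have := inv_mem h1
    rwa [mul_inv_rev, inv_inv, hi] at this
  have h3 : n * (t * (w * n)) * n⁻¹ ∈ S.T := by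
    show Maps S.R.X (n * (t * (w * n)) * n⁻¹) id
    rw [hi]
    have h4 : Maps S.R.X (t * (w * n)) id := mul_mem ht h2
    exact ((hn.mul h4).mul hn).congr fun k => sub_sub_cancel r k
  refine ⟨b, hb, (n * (t * (w * n)) * n⁻¹) * b', mul_mem (Subgroup.mem_sup_right h3) (Subgroup.mem_sup_left hb'), ?_⟩
  have e : b * n * ((n * (t * (w * n)) * n⁻¹) * b') = b * (n * n) * t * w * (n * n⁻¹) * b' := by group
  rw [e, hn2, mul_inv_cancel, mul_one, mul_one]

/-- **the first parabolic subgroup** -/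
theorem desc_one {g : G} (hg : g ∈ Subgroup.normalizer (J S.XZ 2 8 : Set G)) (hgB : g ∉ J S.XZ 1 8 ⊔ S.T) :
    (∃ u ∈ J S.XZ 1 8, ∃ β ∈ J S.XZ 1 8 ⊔ S.T, g = u * S.n1 * β) ∧
    ∀ u ∈ J S.XZ 1 8, g⁻¹ * u * g ∈ J S.XZ 1 8 ⊔ S.T → u ∈ J S.XZ 2 8 := by
  obtain ⟨b, hb, t, ht, w, hw, b', hb', rfl⟩ := S.bruhatE g
  have hv := norm_w S ((J_mono (by norm_num) (by norm_num)).trans (S.zsys8.le_normalizer (a := 2) (b := 8) (by norm_num)))
    (fun t ht => norm_T S ht) hb ht hb' hg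
  have hK : J S.XZ 2 8 ≤ J S.XZ 1 8 := J_mono (by norm_num) le_rfl
  rcases inv_form S hw with ⟨c, h0, h7, hc⟩ | ⟨c, h5, h12, hc⟩
  · exfalso
    rcases eq_or_lt_of_le h0 with h | h
    · subst h
      exact hgB (mem_B S hb ht (mem_T_of_zero S hc) hb')
    · rcases le_or_gt c 3 with h3 | h3
      · exact no_map S hK hv 8 (X_le_J (by norm_num) le_rfl) fun x hx =>
          J_mono (by omega) (by omega) (S.map_add hc hx)
      · exact no_map S hK hv 2 (X_le_J le_rfl (by norm_num)) fun x hx =>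
          J_mono (by omega) (by omega) (S.map_add hc hx)
  · have h5' : c = 5 := by
      by_contra hne
      rcases le_or_gt c 8 with h8 | h8
      · exact no_map S hK hv 2 (X_le_J le_rfl (by norm_num)) fun x hx =>
          J_mono (by omega) (by omega) (S.map_sub hc hx)
      · exact no_map S hK hv 8 (X_le_J (by norm_num) le_rfl) fun x hx =>
          J_mono (by omega) (by omega) (S.map_sub hc hx)
    subst h5'
    refine ⟨form_n S S.n1_maps S.n1_sq hb ht hb' ?_, transfer S (K := J S.XZ 2 8) (w := w) hb ht hb'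
      (fun x hx => conj_28 S hb hx) (fun x hx => S.T_conj_J ht hx) (refl_low S hR hc le_rfl (by norm_num))⟩
    exact hc

/-- **the second parabolic subgroup** -/
theorem desc_two {g : G} (hg : g ∈ Subgroup.normalizer (J S.XZ 1 7 : Set G)) (hgB : g ∉ J S.XZ 1 8 ⊔ S.T) :
    (∃ u ∈ J S.XZ 1 8, ∃ β ∈ J S.XZ 1 8 ⊔ S.T, g = u * S.n2 * β) ∧
    ∀ u ∈ J S.XZ 1 8, g⁻¹ * u * g ∈ J S.XZ 1 8 ⊔ S.T → u ∈ J S.XZ 1 7 := by
  obtain ⟨b, hb, t, ht, w, hw, b', hb', rfl⟩ := S.bruhatE g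
  have hv := norm_w S ((J_mono (by norm_num) (by norm_num)).trans (S.zsys8.le_normalizer (a := 1) (b := 7) (by norm_num)))
    (fun t ht => norm_T S ht) hb ht hb' hg
  have hK : J S.XZ 1 7 ≤ J S.XZ 1 8 := J_mono le_rfl (by norm_num)
  rcases inv_form S hw with ⟨c, h0, h7, hc⟩ | ⟨c, h5, h12, hc⟩
  · exfalso
    rcases eq_or_lt_of_le h0 with h | h
    · subst h
      exact hgB (mem_B S hb ht (mem_T_of_zero S hc) hb')
    · rcases le_or_gt c 4 with h3 | h3
      · exact no_map S hK hv 7 (X_le_J (by norm_num) le_rfl) fun x hx =>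
          J_mono (by omega) (by omega) (S.map_add hc hx)
      · exact no_map S hK hv 1 (X_le_J le_rfl (by norm_num)) fun x hx =>
          J_mono (by omega) (by omega) (S.map_add hc hx)
  · have h12' : c = 12 := by
      by_contra hne
      rcases le_or_gt c 8 with h8 | h8
      · exact no_map S hK hv 1 (X_le_J le_rfl (by norm_num)) fun x hx =>
          J_mono (by omega) (by omega) (S.map_sub hc hx)
      · exact no_map S hK hv 7 (X_le_J (by norm_num) le_rfl) fun x hx =>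
          J_mono (by omega) (by omega) (S.map_sub hc hx)
    subst h12'
    refine ⟨form_n S S.n2_maps S.n2_sq hb ht hb' ?_, transfer S (K := J S.XZ 1 7) (w := w) hb ht hb'
      (fun x hx => conj_17 S hb hx) (fun x hx => S.T_conj_J ht hx) (refl_high S hR hc (by norm_num) le_rfl)⟩
    have e : ((2 * 12 : ℤ) : ZMod (2 * 8)) = 8 := by decide
    rwa [e] at hc

end fin

end Cfsg.Agent.H628.EPX
end

-- part: H371/EPF/Crossk
section
/-!
# S5745, `²F₄(q)`: no socle `T ^ k`, `k ≥ 2`, `T` not of characteristic two (helper371)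

`T × T ≤ G`, `T` centralises a Sylow 2-subgroup of the second factor, so `T` lies in a proper parabolic subgroup
(Borel–Tits), hence `T` embeds in `L₂(q)` or has order prime to three, i.e. `T` is `L₂(2 ^ n)` or a Suzuki group.

* `of_PP`, `of_PB` : the simple subgroups of the two maximal parabolic subgroups;
* `crossK_tf4` : `CrossK 2 ²F₄(q)`.
-/

set_option autoImplicit false
set_option linter.unusedSectionVars false

namespace Cfsg.Agent.H371.EPF

open Cfsg Cfsg.Agent.KFacts.TwF4 Cfsg.Agent.KFacts.TwF4.Full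
open Cfsg.Agent.SplitTwo Cfsg.Agent.SplitTwo.ZS Cfsg.Agent.TitsThree.RankTwoZ
open Cfsg.Agent.SplitTwo.RootSysZ Subgroup
open Cfsg.Agent.H42.Deg Cfsg.Agent.H42.Deg.F4

universe u

variable {F : Type} [Field F] {σ : F →+* F} {G : Type u} [Group G] (S : Full σ G)

theorem not_solv {T : Type*} [Group T] [IsSimpleGroup T] (hT : ∃ a b : T, a * b ≠ b * a) : ¬ Group.IsSolvable T := by
  intro hs
  obtain ⟨a, b, hab⟩ := hT
  exact hab (IsSimpleGroup.comm_iff_isSolvable.2 hs a b)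

section par

variable [Finite F] [Finite G] (hF : ∃ c : Fˣ, c ≠ 1) (hR : S.R.p = 2)

include hF hR

theorem norm_le_PP : normalizer (J S.XZ 2 8 : Set G) ≤ PP S := by
  intro g hg
  have hB : J S.XZ 1 8 ⊔ S.T ≤ PP S := sup_le ((J_mono (by norm_num) (by norm_num)).trans (J_le_PP S)) (T_le_PP S)
  by_cases hgB : g ∈ J S.XZ 1 8 ⊔ S.T
  · exact hB hgB
  · obtain ⟨⟨u, hu, β, hβ, rfl⟩, -⟩ := H628.EPX.desc_one S hR hg hgB
    exact mul_mem (mul_mem (hB (mem_sup_left hu)) (LO_le_PP S S.n1_mem_LO)) (hB hβ)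

theorem norm_le_PB : normalizer (J S.XZ 1 7 : Set G) ≤ F4B.PB S := by
  intro g hg
  have hB : J S.XZ 1 8 ⊔ S.T ≤ F4B.PB S :=
    sup_le ((J_mono (by norm_num) (by norm_num)).trans (F4B.J_le_PB S)) (F4B.T_le_PB S)
  by_cases hgB : g ∈ J S.XZ 1 8 ⊔ S.T
  · exact hB hgB
  · obtain ⟨⟨u, hu, β, hβ, rfl⟩, -⟩ := H628.EPX.desc_two S hR hg hgB
    exact mul_mem (mul_mem (hB (mem_sup_left hu)) (F4B.L4_le_PB S (Cfsg.Agent.KFacts.TwF4.Irr.n2_mem_L4 S))) (hB hβ)

/-- **simple subgroups of the first parabolic subgroup** -/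
theorem of_PP {T : Type} [Group T] [Finite T] [IsSimpleGroup T] (hT : ∃ a b : T, a * b ≠ b * a) (f : T →* G)
    (hf : Function.Injective f) (hP : ∀ t, f t ∈ PP S) : IsLieTypeChar 2 T := by
  obtain ⟨π, h1, h2⟩ := exists_proj (LO_le_PP S) (N1_le_PP S) (fun x hx y hy => N1_norm S hx hy)
    (fun x hx hx' => LO_inf_N1 S hF hx hx') (fun x hx => PP_form S hx)
  have hch : CharP F 2 := CharTwo.of_one_ne_zero_of_two_eq_zero one_ne_zero S.two
  obtain ⟨e⟩ := H240.BalTwF.nonempty_LO S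
  let g : T →* Matrix.SpecialLinearGroup (Fin 2) F := e.toMonoidHom.comp (π.comp (f.codRestrict (PP S) hP))
  have hg : Function.Injective g := by
    rw [← MonoidHom.ker_eq_bot_iff]
    rcases (inferInstance : g.ker.Normal).eq_bot_or_eq_top with h3 | h3
    · exact h3
    · exfalso
      apply not_solv hT
      have h4 : ∀ t, f t ∈ N1 S := by
        intro t
        have h5 : g t = 1 := by
          have : t ∈ g.ker := by rw [h3]; exact mem_top _
          exact this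
        have h6 : π ⟨f t, hP t⟩ = 1 := by
          apply e.injective
          rw [map_one]
          exact h5
        obtain ⟨l, hl, n, hn, h7⟩ := PP_form S (hP t)
        have h8 : (⟨f t, hP t⟩ : PP S) = ⟨l, LO_le_PP S hl⟩ * ⟨n, N1_le_PP S hn⟩ := Subtype.ext h7
        rw [h8, map_mul, h1 l hl, h2 n hn, mul_one] at h6
        have h9 : l = 1 := congrArg Subtype.val h6
        rw [h7, h9, one_mul]
        exact hn
      have h5 := Cfsg.Agent.KFacts.TwF4.Perf.BT_solvable S hR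
      have h6 : N1 S ≤ J S.XZ 1 8 ⊔ S.T := sup_le ((ZJ_le_T S).trans le_sup_right)
        ((J_mono (by norm_num) le_rfl).trans le_sup_left)
      exact Group.isSolvable_of_isSolvable_injective (f := f.codRestrict (J S.XZ 1 8 ⊔ S.T) fun t => h6 (h4 t))
        (by
          intro a b hab
          exact hf (congrArg Subtype.val hab))
  have hCT : S5748.CT T := S5748.CT.of_injective g hg S5748.SL_CT
  obtain ⟨F0, i1, i2, n, hn, hc, ⟨e0⟩⟩ := (S5748.result (G := T) (fun h => by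
    obtain ⟨a, b, hab⟩ := hT
    exact hab (h.is_comm.comm a b))).1 hCT
  have hch0 : CharP F0 2 := by
    have hp2 : Fact (Nat.Prime 2) := ⟨Nat.prime_two⟩
    obtain ⟨p, hp⟩ := CharP.exists F0
    have hpp : Fact p.Prime := ⟨CharP.char_is_prime F0 p⟩
    obtain ⟨⟨m, hm⟩, -, hc'⟩ := FiniteField.card F0 p
    simp only [PNat.mk_coe] at hc'
    rw [hc'] at hc
    have h1 : p ∣ 2 ^ n := hc ▸ dvd_pow_self p hm.ne'
    have h2 : p = 2 := (Nat.prime_dvd_prime_iff_eq hpp.out Nat.prime_two).1 (hpp.out.dvd_of_dvd_pow h1)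
    rwa [h2] at hp
  refine Or.inl ⟨F0, i1, i2, hch0, 2, le_rfl, fun _ => ?_, ⟨e0⟩⟩
  rw [hc]
  calc 4 = 2 ^ 2 := by norm_num
    _ ≤ 2 ^ n := Nat.pow_le_pow_right (by norm_num) hn

/-- **simple subgroups of the second parabolic subgroup** -/
theorem of_PB (hq : Nat.card F % 3 = 2) {T : Type} [Group T] [Finite T] [IsSimpleGroup T]
    (hT : ∃ a b : T, a * b ≠ b * a) (f : T →* G) (hf : Function.Injective f) (hP : ∀ t, f t ∈ F4B.PB S) :
    IsLieTypeChar 2 T := by
  have h1 : Nat.card T ∣ Nat.card (F4B.PB S) :=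
    Subgroup.card_dvd_of_injective (f.codRestrict (F4B.PB S) hP) fun a b hab => hf (congrArg Subtype.val hab)
  have h3 : ¬ 3 ∣ Nat.card (F4B.PB S) := by
    have hp2 : Fact (Nat.Prime 2) := ⟨Nat.prime_two⟩
    have h17 : IsPGroup 2 (J S.XZ 1 7) := (H424.EPX.U_two S hF hR).to_le (J_mono le_rfl (by norm_num))
    obtain ⟨k, hk⟩ := IsPGroup.iff_card.1 h17
    rw [F4B.card_PB S hF, hk, Nat.card_units]
    intro h
    have hq1 : 1 ≤ Nat.card F := by omega
    obtain ⟨c, hc⟩ : ∃ c, Nat.card F = 3 * c + 2 := ⟨Nat.card F / 3, by omega⟩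
    have p3 := Nat.prime_three
    rw [hc] at h
    rcases (Nat.Prime.dvd_mul p3).1 h with h | h
    · rcases (Nat.Prime.dvd_mul p3).1 h with h | h
      · rcases (Nat.Prime.dvd_mul p3).1 h with h | h
        · rcases (Nat.Prime.dvd_mul p3).1 h with h | h <;> omega
        · omega
      · have e : (3 * c + 2) * (3 * c + 2) + 1 = 3 * (3 * c * c + 4 * c + 1) + 2 := by ring
        rw [e] at h
        omega
    · rcases (Nat.Prime.dvd_mul p3).1 h with h | h
      · omega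
      · have := (Nat.prime_dvd_prime_iff_eq p3 Nat.prime_two).1 (p3.dvd_of_dvd_pow h)
        omega
  have h4 := ThreePrime.Main.isoSuzuki (G := T) hT fun h => h3 (h.trans h1)
  exact Or.inr (Or.inr (Or.inr (Or.inr (Or.inr (Or.inr (Or.inr (Or.inr (Or.inl ⟨rfl, h4⟩))))))))

end par

open Cfsg.Agent.H284 Cfsg.Agent.H209.EPX Cfsg.Agent.H742.EX Cfsg.Agent.H564.EPF in
/-- **a simple subgroup which centralises a nontrivial 2-subgroup** -/
theorem of_cent {K : Type} [Field K] [Fintype K] {m : ℕ} (hm : 1 ≤ m) (hK : Fintype.card K = 2 ^ (2 * m + 1))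
    {T : Type} [Group T] [Finite T] [IsSimpleGroup T] (hT : ∃ a b : T, a * b ≠ b * a)
    (f : T →* ↥(Lie.twistedF4 K (2 ^ m))) (hf : Function.Injective f) {Q : Subgroup ↥(Lie.twistedF4 K (2 ^ m))}
    (hQ : IsPGroup 2 Q) (hQ1 : Q ≠ ⊥) (hc : ∀ t, f t ∈ normalizer (Q : Set ↥(Lie.twistedF4 K (2 ^ m)))) :
    IsLieTypeChar 2 T := by
  have : CharP K 2 := Cfsg.Agent.ChevalleyStructure.TwF4.Twisted.charP_two hK
  have hp2 : Fact (Nat.Prime 2) := ⟨Nat.prime_two⟩
  obtain ⟨φ, hφ⟩ := Cfsg.Agent.ChevalleyStructure.TwF4.TwistedFix.exists_rln hK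
  have : Finite ↥(Lie.twistedF4 K (2 ^ m)) := inferInstance
  have hFc : Nat.card K = 2 ^ (2 * m + 1) := by rw [Nat.card_eq_fintype_card, hK]
  have h8 : 8 ≤ Nat.card K := by
    rw [hFc]
    calc 8 = 2 ^ 3 := by norm_num
      _ ≤ _ := Nat.pow_le_pow_right (by norm_num) (by omega)
  have hF : ∃ c : Kˣ, c ≠ 1 := by
    have h1 : 1 < Nat.card Kˣ := by
      rw [Nat.card_units]
      omega
    have h2 : Nontrivial Kˣ := Finite.one_lt_card_iff_nontrivial.1 h1
    exact exists_ne 1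
  have hq : Nat.card K % 3 = 2 := by
    rw [hFc, pow_succ, pow_mul, Nat.mul_mod, Nat.pow_mod]
    norm_num
  let S := Cfsg.Agent.KFacts.TwF4.Inst.full hK hφ
  have hR : S.R.p = 2 := rfl
  obtain ⟨P, hP⟩ := Cfsg.Agent.KFacts.TwF4.SylU.exists_sylow S hF rfl
  let D : OD ↥(Lie.twistedF4 K (2 ^ m)) := ofFull S (opp hK hφ)
  have hU : D.U = (P : Subgroup ↥(Lie.twistedF4 K (2 ^ m))) := hP.symm
  have h2 : IsPGroup 2 D.U := by rw [hU]; exact P.isPGroup'
  have hs : ∀ R : Subgroup ↥(Lie.twistedF4 K (2 ^ m)), D.U ≤ R → IsPGroup 2 R → R = D.U := by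
    intro R hR hR2
    rw [hU] at hR ⊢
    exact P.is_maximal' hR2 hR
  obtain ⟨g₀, hg₀⟩ := OD.exists_le_cj h2 hs hQ
  obtain ⟨g, J', hJ', -, h3⟩ := OD.bt hQ1 hg₀
  -- the conjugate embedding
  let f' : T →* ↥(Lie.twistedF4 K (2 ^ m)) := (MulAut.conj g⁻¹).toMonoidHom.comp f
  have hf' : Function.Injective f' := (MulAut.conj g⁻¹).injective.comp hf
  have h4 : ∀ t, f' t ∈ D.P J' := by
    intro t
    have h5 := h3 (hc t)
    rw [mem_cj] at h5
    show g⁻¹ * f t * g⁻¹⁻¹ ∈ D.P J'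
    rw [inv_inv]
    exact h5
  obtain ⟨j, hj⟩ : ∃ j : Fin 2, D.P J' ≤ D.P {j} := by
    rcases OD.cases4 J' with h | ⟨j, h⟩ | h
    · exact ⟨0, OD.P_mono (by rw [h]; exact Set.empty_subset _)⟩
    · exact ⟨j, by rw [h]⟩
    · exact absurd h hJ'
  fin_cases j
  · refine of_PP S hF hR hT f' hf' fun t => norm_le_PP S hF hR ?_
    have h6 := hj (h4 t)
    rw [OD.P_single] at h6
    exact h6
  · refine of_PB S hF hR hq hT f' hf' fun t => norm_le_PB S hF hR ?_
    have h6 := hj (h4 t)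
    rw [OD.P_single] at h6
    exact h6

open Cfsg.Agent.H284 Cfsg.Agent.H209.EPX Cfsg.Agent.H742.EX in
/-- **the cell `crossk` of `²F₄(q)`** -/
theorem crossK_tf4 (K : Type) [Field K] [Fintype K] (m : ℕ) [IsSimpleGroup ↥(Lie.twistedF4 K (2 ^ m))] (hm : 1 ≤ m)
    (hK : Fintype.card K = 2 ^ (2 * m + 1)) : H542.EPX.CrossK 2 ↥(Lie.twistedF4 K (2 ^ m)) := by
  intro H N T _ k e hk h hT
  apply hT
  have hp2 : Fact (Nat.Prime 2) := ⟨Nat.prime_two⟩
  have hfin : Finite ↥(Lie.twistedF4 K (2 ^ m)) := inferInstance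
  have : Finite T := by
    have : Finite (Fin k → T) := Finite.of_equiv _ e.toEquiv
    exact Finite.of_surjective (co e ⟨0, h.pos⟩) (co_surj e _)
  have := h.simple
  have h01 : (⟨1, by omega⟩ : Fin k) ≠ ⟨0, h.pos⟩ := fun h => by simpa using congrArg Fin.val h
  let f0 : T →* ↥(Lie.twistedF4 K (2 ^ m)) := N.subtype.comp (fa e ⟨0, h.pos⟩)
  let f1 : T →* ↥(Lie.twistedF4 K (2 ^ m)) := N.subtype.comp (fa e ⟨1, by omega⟩)
  have hinj : ∀ i, Function.Injective (N.subtype.comp (fa e i)) := by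
    intro i a b hab
    have h1 : fa e i a = fa e i b := Subtype.ext hab
    rw [← co_fa e i a, h1, co_fa]
  have hcomm : ∀ s t, f0 s * f1 t = f1 t * f0 s := by
    intro s t
    have h1 : co e ⟨0, h.pos⟩ (fa e ⟨1, by omega⟩ t) = 1 := by
      simp [co, fa]
    have h2 := fa_comm e ⟨0, h.pos⟩ (t := s) (n := fa e ⟨1, by omega⟩ t) (by rw [h1, mul_one, one_mul])
    exact congrArg Subtype.val h2
  obtain ⟨Q⟩ : Nonempty (Sylow 2 T) := inferInstance
  have hev : 2 ∣ Nat.card T := by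
    by_contra hcon
    exact not_solv h.nab (Cfsg.Agent.S0205.result (by rw [← Nat.not_even_iff_odd, even_iff_two_dvd]; exact hcon))
  have hQ1 : (Q : Subgroup T) ≠ ⊥ := Q.ne_bot_of_dvd_card hev
  refine of_cent hm hK h.nab f0 (hinj _) (Q := (Q : Subgroup T).map f1) (Q.isPGroup'.map _) ?_ ?_
  · rw [Ne, Subgroup.map_eq_bot_iff_of_injective _ (hinj _)]
    exact hQ1
  · intro t
    rw [mem_normalizer_iff]
    intro y
    constructor
    · rintro ⟨x, hx, rfl⟩
      refine ⟨x, hx, ?_⟩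
      rw [hcomm, mul_inv_cancel_right]
    · rintro ⟨x, hx, hxy⟩
      refine ⟨x, hx, ?_⟩
      have h1 : y = (f0 t)⁻¹ * f1 x * f0 t := by
        rw [hxy]; group
      rw [h1, mul_assoc, ← hcomm, inv_mul_cancel_left]

end Cfsg.Agent.H371.EPF
end
end
end
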